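import Cfsg.Agent.OddHalf.D4.Sz.MvDef
import Cfsg.Agent.OddHalf.D4.RkAff
import Cfsg.Agent.StdSz.Env
import Mathlib.GroupTheory.Nilpotent
import Cfsg.Agent.StdSz.SzMaps
import Cfsg.Agent.StdSz.FormAlg
import Mathlib.GroupTheory.PGroup
import Mathlib.GroupTheory.QuotientGroup.Basic
import Mathlib.LinearAlgebra.Basis.VectorSpace
import Mathlib.Algebra.Polynomial.Roots
import Cfsg.Agent.OddHalf.D4.CommConj
import Mathlib.FieldTheory.Galois.Basic
import Mathlib.FieldTheory.Finite.GaloisField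
import Mathlib.GroupTheory.Sylow
import Mathlib
import Cfsg.Agent.OddHalf.D4.Sz.PairKill

-- merged: Cfsg.Agent.OddHalf.D4.Sz.LocB
section

/-!
# ODD, D4, `K = Sz(q)`, `q ≥ 32`, case (b): the members

`g ∈ N(T) - N(K)`, `Q ^ g ≤ Q Z`: `Q` is elementary abelian, `Q ^ g = {r * p 0 (f r)}`, `Z# ∩ C(K ^ x) = 1` for all `x`, and
for `x ∈ N(T)`, `Q ^ x = {r * p 0 (c * f r)}` for some `c ∈ F`.
-/

set_option autoImplicit false
set_option linter.unusedSectionVars false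

namespace Cfsg.Agent.OddHalf.D4.Sz

open Subgroup Cfsg.Agent.OddHalf.D4 Cfsg.Agent.OddHalf.D4.Basic Cfsg.Agent.OddHalf.D4.Sz.PairDefs
open Cfsg.Agent.OddHalf.D4.CommConj (cj mem_cj cj_mul card_cj cj_eq_of_mem_normalizer mem_normalizer_of_cj_eq
  mem_cj_mul)
open Cfsg.Agent.TwoFusion.StronglyEmbeddedBasic (orderOf_eq_two_of_mul_self)

/-- the form of a commutator of `S_K` is nondegenerate -/
theorem form_zero {F : Type*} [Field F] [Fintype F] [CharP F 2] {m : ℕ} (hm : 2 ≤ m)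
    (hF : Fintype.card F = 2 ^ (2 * m + 1)) {a : F}
    (h : ∀ c : F, a ^ (2 ^ (m + 1)) * c + c ^ (2 ^ (m + 1)) * a = 0) : a = 0 := by
  by_contra ha
  obtain ⟨g, hg0, hg, -⟩ := Cfsg.Agent.StdSz.EquivMaps.exists_gen hF
  have e1 := h (a * g)
  have e2 : a ^ (1 + 2 ^ (m + 1)) * (g ^ (2 ^ (m + 1)) + g) = 0 := by rw [← e1]; ring
  have e3 := (mul_eq_zero.mp e2).resolve_left (pow_ne_zero _ ha)
  have e5 : g ^ (2 ^ (m + 1)) = g := by
    have := eq_neg_of_add_eq_zero_left e3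
    rwa [CharTwo.neg_eq] at this
  rcases Cfsg.Agent.StdSz.FormAlg.eq_of_th_eq hF e5 with e6 | e6
  · exact hg0 e6
  · have e7 : g ^ 1 = g ^ 0 := by rw [pow_one, pow_zero, e6]
    rw [hg] at e7
    have h4 : 2 ^ 3 ≤ 2 ^ (2 * m + 1) := Nat.pow_le_pow_right (by norm_num) (by omega)
    have := Nat.ModEq.eq_of_lt_of_lt e7 (by omega) (by omega)
    omega

variable {G : Type*} [Group G] {F : Type*} [Field F] [Fintype F] {m : ℕ} {K : Subgroup G}
  {D : KFr F m K} {Q T : Subgroup G} {g : G}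

variable (D Q T g) in
/-- case (b): `Q ^ g ≤ Q Z` -/
structure CaseB : Prop extends Mv D Q T g where
  cB : ∀ r ∈ Q, ∃ s ∈ Q, ∃ b, g * r * g⁻¹ = s * D.p 0 b

namespace Mv

variable [Finite G] [CharP F 2]

/-- `Q ∩ Q ^ g = 1` -/
theorem eq_one (M : Mv D Q T g) {x : G} (hx : x ∈ Q) (hgx : g * x * g⁻¹ ∈ Q) : x = 1 := by
  by_contra hx1
  obtain ⟨n, hn⟩ := CommConj.exists_pow_involution M.base.sylQ.two hx hx1
  apply M.gM
  refine M.tight.tight g (x ^ n) (M.base.sylQ.le (pow_mem hx n)) hn ?_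
  rw [← conj_pow]
  exact pow_mem (M.base.sylQ.le hgx) n

/-- the involutions of `Q`: elements commuting with them normalize `K` -/
theorem mem_norm (M : Mv D Q T g) {r x : G} (hr : r ∈ Q) (hr2 : r * r = 1) (hr1 : r ≠ 1) (hx : x * r = r * x) :
    x ∈ normalizer (K : Set G) :=
  M.tight.mem (M.base.sylQ.le hr) (orderOf_eq_two_of_mul_self hr2 hr1) hx

end Mv

namespace CaseB

variable [Finite G] [CharP F 2]

/-- `Q` is abelian -/
theorem comm_Q (M : CaseB D Q T g) {r s : G} (hr : r ∈ Q) (hs : s ∈ Q) : r * s = s * r := by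
  obtain ⟨r', hr', b, hb⟩ := M.cB r hr
  obtain ⟨s', hs', c, hc⟩ := M.cB s hs
  have h1 : g * (r * s * r⁻¹ * s⁻¹) * g⁻¹ = r' * s' * r'⁻¹ * s'⁻¹ := by
    calc g * (r * s * r⁻¹ * s⁻¹) * g⁻¹ = (g * r * g⁻¹) * (g * s * g⁻¹) * (g * r * g⁻¹)⁻¹ * (g * s * g⁻¹)⁻¹ := by
          group
      _ = (r' * D.p 0 b) * (s' * D.p 0 c) * (r' * D.p 0 b)⁻¹ * (s' * D.p 0 c)⁻¹ := by rw [hb, hc]
      _ = r' * (D.p 0 b * s') * (D.p 0 c * (D.p 0 b)⁻¹) * r'⁻¹ * ((D.p 0 c)⁻¹ * s'⁻¹) := by group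
      _ = r' * (s' * D.p 0 b) * (D.p 0 c * (D.p 0 b)⁻¹) * r'⁻¹ * (s'⁻¹ * (D.p 0 c)⁻¹) := by
          rw [← M.base.comm hs', D.z_inv c, ← M.base.comm (inv_mem hs')]
      _ = r' * s' * ((D.p 0 b * D.p 0 c) * (D.p 0 b)⁻¹) * r'⁻¹ * (s'⁻¹ * (D.p 0 c)⁻¹) := by group
      _ = r' * s' * ((D.p 0 c * D.p 0 b) * (D.p 0 b)⁻¹) * r'⁻¹ * (s'⁻¹ * (D.p 0 c)⁻¹) := by rw [D.z_comm b 0 c]
      _ = r' * s' * (D.p 0 c * (r'⁻¹ * s'⁻¹)) * (D.p 0 c)⁻¹ := by group
      _ = r' * s' * ((r'⁻¹ * s'⁻¹) * D.p 0 c) * (D.p 0 c)⁻¹ := by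
          rw [← M.base.comm (mul_mem (inv_mem hr') (inv_mem hs'))]
      _ = _ := by group
  have h2 := M.toMv.eq_one (mul_mem (mul_mem (mul_mem hr hs) (inv_mem hr)) (inv_mem hs))
    (by rw [h1]; exact mul_mem (mul_mem (mul_mem hr' hs') (inv_mem hr')) (inv_mem hs'))
  calc r * s = (r * s * r⁻¹ * s⁻¹) * (s * r) := by group
    _ = s * r := by rw [h2, one_mul]

/-- `Q` is elementary abelian -/
theorem sq_Q (M : CaseB D Q T g) {r : G} (hr : r ∈ Q) : r * r = 1 := by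
  obtain ⟨s, hs, b, hb⟩ := M.cB r hr
  apply M.toMv.eq_one (mul_mem hr hr)
  have h1 : g * (r * r) * g⁻¹ = s * s := by
    calc g * (r * r) * g⁻¹ = (g * r * g⁻¹) * (g * r * g⁻¹) := by group
      _ = s * D.p 0 b * (s * D.p 0 b) := by rw [hb]
      _ = s * (D.p 0 b * s) * D.p 0 b := by group
      _ = s * (s * D.p 0 b) * D.p 0 b := by rw [← M.base.comm hs]
      _ = s * s * (D.p 0 b * D.p 0 b) := by group
      _ = s * s := by rw [D.z_self, mul_one]
  rw [h1]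
  exact mul_mem hs hs

theorem inv_Q (M : CaseB D Q T g) {r : G} (hr : r ∈ Q) : r⁻¹ = r := inv_eq_of_mul_eq_one_left (M.sq_Q hr)

theorem conj_mem {x : G} (hx : x ∈ normalizer (T : Set G)) {t : G} (ht : t ∈ T) : x * t * x⁻¹ ∈ T :=
  (mem_normalizer_iff.mp hx t).mp ht

theorem conj_mem' {x : G} (hx : x ∈ normalizer (T : Set G)) {t : G} (ht : t ∈ T) : x⁻¹ * t * x ∈ T := by
  have := conj_mem (inv_mem hx) ht
  rwa [inv_inv] at this

/-- commutators of `T` lie in `Z` -/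
theorem comm_T (M : CaseB D Q T g) {s t : G} (hs : s ∈ T) (ht : t ∈ T) : ∃ b, s * t * s⁻¹ * t⁻¹ = D.p 0 b := by
  obtain ⟨q, hq, a, b, rfl⟩ := (M.base.mem s).mp hs
  obtain ⟨r, hr, c, d, rfl⟩ := (M.base.mem t).mp ht
  refine ⟨a ^ (2 ^ (m + 1)) * c + c ^ (2 ^ (m + 1)) * a, ?_⟩
  rw [← D.p_comm a b c d]
  have h1 := M.base.comm hq c d
  have h2 := M.base.comm hr a b
  have h3 := M.base.comm (inv_mem hq) c d
  have h4 := M.comm_Q hq hr
  calc q * D.p a b * (r * D.p c d) * (q * D.p a b)⁻¹ * (r * D.p c d)⁻¹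
      = q * (D.p a b * r) * D.p c d * (D.p a b)⁻¹ * q⁻¹ * (D.p c d)⁻¹ * r⁻¹ := by group
    _ = q * (r * D.p a b) * D.p c d * (D.p a b)⁻¹ * q⁻¹ * (D.p c d)⁻¹ * r⁻¹ := by rw [h2]
    _ = (q * r) * (D.p a b * D.p c d * (D.p a b)⁻¹) * (D.p c d * q)⁻¹ * r⁻¹ := by group
    _ = (r * q) * (D.p a b * D.p c d * (D.p a b)⁻¹) * (q * D.p c d)⁻¹ * r⁻¹ := by rw [← h1, h4]
    _ = r * (q * (D.p a b * D.p c d * (D.p a b)⁻¹ * (D.p c d)⁻¹) * q⁻¹) * r⁻¹ := by group
    _ = _ := by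
      rw [D.p_comm, M.base.comm hq, mul_inv_cancel_right, M.base.comm hr, mul_inv_cancel_right]

/-- `Z` is normalized by `N(T)` -/
theorem norm_Z (M : CaseB D Q T g) {x : G} (hx : x ∈ normalizer (T : Set G)) (b : F) :
    ∃ b', x * D.p 0 b * x⁻¹ = D.p 0 b' := by
  obtain ⟨a, c, hac⟩ := D.exists_comm b
  have h1 := conj_mem hx (M.base.p_mem a 0)
  have h2 := conj_mem hx (M.base.p_mem c 0)
  obtain ⟨b', hb'⟩ := M.comm_T h1 h2
  refine ⟨b', ?_⟩
  rw [← hb', ← hac]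
  group

/-- the elements of `T` commuting with `T` -/
theorem central (M : CaseB D Q T g) {x : G} (hx : x ∈ T) (h : ∀ t ∈ T, x * t = t * x) :
    ∃ r ∈ Q, ∃ b, x = r * D.p 0 b := by
  obtain ⟨r, hr, a, b, rfl⟩ := (M.base.mem x).mp hx
  refine ⟨r, hr, b, ?_⟩
  have ha : a = 0 := by
    apply form_zero D.hm D.hF
    intro c
    have h1 := h _ (M.base.p_mem c 0)
    have h2 : D.p a b * D.p c 0 * (D.p a b)⁻¹ * (D.p c 0)⁻¹ = 1 := by
      have h3 := M.base.comm hr c 0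
      have h4 : r * (D.p a b * D.p c 0) = r * (D.p c 0 * D.p a b) := by
        calc r * (D.p a b * D.p c 0) = r * D.p a b * D.p c 0 := by group
          _ = D.p c 0 * (r * D.p a b) := h1
          _ = (D.p c 0 * r) * D.p a b := by group
          _ = r * (D.p c 0 * D.p a b) := by rw [← h3]; group
      rw [mul_left_cancel h4]; group
    rw [D.p_comm, ← D.p_zero] at h2
    exact D.z_inj h2
  rw [ha]

theorem central' (M : CaseB D Q T g) {r : G} (hr : r ∈ Q) (b : F) {t : G} (ht : t ∈ T) :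
    r * D.p 0 b * t = t * (r * D.p 0 b) := by
  obtain ⟨q, hq, a, c, rfl⟩ := (M.base.mem t).mp ht
  have h1 := M.base.comm hq 0 b
  have h2 := M.base.comm hr a c
  calc r * D.p 0 b * (q * D.p a c) = r * (D.p 0 b * q) * D.p a c := by group
    _ = r * (q * D.p 0 b) * D.p a c := by rw [h1]
    _ = (r * q) * (D.p 0 b * D.p a c) := by group
    _ = (q * r) * (D.p a c * D.p 0 b) := by rw [M.comm_Q hr hq, D.z_comm]
    _ = q * (r * D.p a c) * D.p 0 b := by group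
    _ = q * (D.p a c * r) * D.p 0 b := by rw [h2]
    _ = _ := by group

/-- `V = Q Z` is normalized by `N(T)` -/
theorem norm_V (M : CaseB D Q T g) {x : G} (hx : x ∈ normalizer (T : Set G)) {r : G} (hr : r ∈ Q) (b : F) :
    ∃ s ∈ Q, ∃ c, x * (r * D.p 0 b) * x⁻¹ = s * D.p 0 c := by
  have hrT : r * D.p 0 b ∈ T := mul_mem (M.base.Q_le hr) (M.base.p_mem 0 b)
  apply M.central (conj_mem hx hrT)
  intro t ht
  have h1 := M.central' hr b (conj_mem' hx ht)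
  calc x * (r * D.p 0 b) * x⁻¹ * t = x * (r * D.p 0 b * (x⁻¹ * t * x)) * x⁻¹ := by group
    _ = x * (x⁻¹ * t * x * (r * D.p 0 b)) * x⁻¹ := by rw [h1]
    _ = _ := by group

theorem norm_Q' (M : CaseB D Q T g) {x : G} (hx : x ∈ normalizer (T : Set G)) {r : G} (hr : r ∈ Q) :
    ∃ s ∈ Q, ∃ c, x * r * x⁻¹ = s * D.p 0 c := by
  obtain ⟨s, hs, c, h⟩ := M.norm_V hx hr 0
  rw [D.p_zero, mul_one] at h
  exact ⟨s, hs, c, h⟩

/-- `Z ∩ Q = 1` -/
theorem z_Q (M : CaseB D Q T g) {b : F} (h : D.p 0 b ∈ centralizer (K : Set G)) : b = 0 := by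
  have h1 := D.cen _ (D.p_mem 0 b) h
  rw [← D.p_zero] at h1
  exact D.z_inj h1

/-- (PL): no involution of `Z` centralizes a conjugate of `K` -/
theorem PL (M : CaseB D Q T g) {x : G} {b : F} (h : D.p 0 b ∈ cj x (centralizer (K : Set G))) : b = 0 := by
  by_contra hb
  have hz1 : D.p 0 b ≠ 1 := by
    rw [← D.p_zero]
    exact fun h => hb (D.z_inj h)
  have hz2 : orderOf (D.p 0 b) = 2 := orderOf_eq_two_of_mul_self (D.z_self b) hz1
  have ht := M.tight.cj x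
  rw [← centralizer_cj] at h
  have hTN : T ≤ normalizer ((cj x K : Subgroup G) : Set G) := fun t ht' =>
    ht.mem h hz2 (M.base.z_cent ht' b)
  have hS : IsSyl (cj x T) (normalizer ((cj x K : Subgroup G) : Set G)) := by
    rw [normalizer_cj]
    exact M.base.sylT.cj x
  have hS2 : IsSyl T (normalizer ((cj x K : Subgroup G) : Set G)) :=
    hS.of_card M.base.sylT.two hTN (by rw [card_cj])
  obtain ⟨μ, hμ, hμT⟩ := hS2.exists_cj hS
  -- `x' = μ x`
  have hx' : μ * x ∈ normalizer (T : Set G) := by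
    apply mem_normalizer_of_cj_eq
    rw [cj_mul, hμT]
  have hK' : cj (μ * x) K = cj x K := by
    rw [cj_mul]
    exact cj_eq_of_mem_normalizer hμ
  rw [← hK', centralizer_cj, mem_cj] at h
  obtain ⟨b', hb'⟩ := M.norm_Z (inv_mem hx') b
  rw [inv_inv] at hb'
  rw [hb'] at h
  have h0 := M.z_Q h
  rw [h0, D.p_zero] at hb'
  apply hz1
  calc D.p 0 b = (μ * x) * ((μ * x)⁻¹ * D.p 0 b * (μ * x)) * (μ * x)⁻¹ := by group
    _ = 1 := by rw [hb']; group

theorem PL' (M : CaseB D Q T g) {x : G} {b : F} (h : D.p 0 b ∈ cj x Q) : b = 0 :=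
  M.PL (x := x) (map_mono M.base.sylQ.le h)

/-- for `s ∈ Q` some `s p 0 b` is in `Q ^ g` -/
theorem exists_f (M : CaseB D Q T g) {s : G} (hs : s ∈ Q) : ∃ b, s * D.p 0 b ∈ cj g Q := by
  choose! σ hσ using M.cB
  have hinj : Function.Injective (fun r : Q => (⟨σ r, (hσ r r.2).1⟩ : Q)) := by
    intro r s hrs
    have h1 : σ r = σ s := congrArg Subtype.val hrs
    obtain ⟨h2, b, hb⟩ := hσ r r.2
    obtain ⟨h3, c, hc⟩ := hσ s s.2
    -- `g (r s⁻¹) g⁻¹ = p 0 (b + c)`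
    have h4 : g * ((r : G) * (s : G)⁻¹) * g⁻¹ = D.p 0 (b + c) := by
      calc g * ((r : G) * (s : G)⁻¹) * g⁻¹ = (g * r * g⁻¹) * (g * s * g⁻¹)⁻¹ := by group
        _ = (σ r * D.p 0 b) * (σ s * D.p 0 c)⁻¹ := by rw [hb, hc]
        _ = σ r * (D.p 0 b * (D.p 0 c)⁻¹) * (σ s)⁻¹ := by group
        _ = σ r * D.p 0 (b + c) * (σ s)⁻¹ := by rw [D.z_inv, D.z_mul]
        _ = σ r * (σ s)⁻¹ * D.p 0 (b + c) := by rw [mul_assoc, ← M.base.comm (inv_mem h3)]; group
        _ = D.p 0 (b + c) := by rw [h1]; group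
    have h5 : b + c = 0 := M.PL' (x := g) (by
      rw [← h4]
      exact mem_cj_mul (mul_mem r.2 (inv_mem s.2)))
    rw [h5, D.p_zero] at h4
    have h6 : (r : G) * (s : G)⁻¹ = 1 := by
      calc (r : G) * (s : G)⁻¹ = g⁻¹ * (g * ((r : G) * (s : G)⁻¹) * g⁻¹) * g := by group
        _ = 1 := by rw [h4]; group
    exact Subtype.ext (mul_inv_eq_one.mp h6)
  obtain ⟨r, hr⟩ := (Finite.injective_iff_surjective.mp hinj) ⟨s, hs⟩
  have h1 : σ r = s := congrArg Subtype.val hr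
  obtain ⟨h2, b, hb⟩ := hσ r r.2
  refine ⟨b, ?_⟩
  rw [← h1, ← hb]
  exact mem_cj_mul r.2

open Classical in
variable (D Q g) in
/-- `Q ^ g = {s * p 0 (f s)}` -/
noncomputable def fB (s : G) : F := if h : ∃ b, s * D.p 0 b ∈ cj g Q then h.choose else 0

theorem fB_mem (M : CaseB D Q T g) {s : G} (hs : s ∈ Q) : s * D.p 0 (fB D Q g s) ∈ cj g Q := by
  classical
  have h := M.exists_f hs
  have e : fB D Q g s = h.choose := by unfold fB; exact dif_pos h
  rw [e]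
  exact h.choose_spec

theorem fB_eq (M : CaseB D Q T g) {s : G} (hs : s ∈ Q) {b : F} (h : s * D.p 0 b ∈ cj g Q) : fB D Q g s = b := by
  have h1 := M.fB_mem hs
  have h2 : D.p 0 (fB D Q g s + b) ∈ cj g Q := by
    have h3 := mul_mem (inv_mem h1) h
    have e : (s * D.p 0 (fB D Q g s))⁻¹ * (s * D.p 0 b) = D.p 0 (fB D Q g s + b) := by
      rw [← D.z_mul, mul_inv_rev, D.z_inv]
      group
    rwa [e] at h3
  have h3 := eq_neg_of_add_eq_zero_left (M.PL' h2)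
  rwa [CharTwo.neg_eq] at h3

theorem fB_mul (M : CaseB D Q T g) {r s : G} (hr : r ∈ Q) (hs : s ∈ Q) :
    fB D Q g (r * s) = fB D Q g r + fB D Q g s := by
  apply M.fB_eq (mul_mem hr hs)
  have h1 := mul_mem (M.fB_mem hr) (M.fB_mem hs)
  have e : r * D.p 0 (fB D Q g r) * (s * D.p 0 (fB D Q g s)) = r * s * D.p 0 (fB D Q g r + fB D Q g s) := by
    rw [← D.z_mul]
    calc r * D.p 0 (fB D Q g r) * (s * D.p 0 (fB D Q g s))
        = r * (D.p 0 (fB D Q g r) * s) * D.p 0 (fB D Q g s) := by group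
      _ = r * (s * D.p 0 (fB D Q g r)) * D.p 0 (fB D Q g s) := by rw [← M.base.comm hs]
      _ = _ := by group
  rwa [e] at h1

theorem fB_inj (M : CaseB D Q T g) {r : G} (hr : r ∈ Q) (h : fB D Q g r = 0) : r = 1 := by
  have h1 := M.fB_mem hr
  rw [h, D.p_zero, mul_one, mem_cj] at h1
  have h2 := M.toMv.eq_one h1 (by
    have e : g * (g⁻¹ * r * g) * g⁻¹ = r := by group
    rw [e]; exact hr)
  calc r = g * (g⁻¹ * r * g) * g⁻¹ := by group
    _ = 1 := by rw [h2]; group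

theorem mem_cjg (M : CaseB D Q T g) {v : G} : v ∈ cj g Q ↔ ∃ r ∈ Q, v = r * D.p 0 (fB D Q g r) := by
  constructor
  · intro hv
    obtain ⟨r, hr, b, hb⟩ := M.cB _ (mem_cj.mp hv)
    have e : g * (g⁻¹ * v * g) * g⁻¹ = v := by group
    rw [e] at hb
    refine ⟨r, hr, ?_⟩
    rw [M.fB_eq hr (b := b) (by rw [← hb]; exact hv)]
    exact hb
  · rintro ⟨r, hr, rfl⟩
    exact M.fB_mem hr

/-- `h l ∈ N(T)` -/
theorem h_T (M : CaseB D Q T g) (l : Fˣ) : D.h l ∈ normalizer (T : Set G) := by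
  apply mem_normalizer_fintype
  intro t ht
  obtain ⟨q, hq, a, b, rfl⟩ := (M.base.mem t).mp ht
  apply (M.base.mem _).mpr
  refine ⟨q, hq, l * a, (l : F) ^ (1 + 2 ^ (m + 1)) * b, ?_⟩
  have h1 := D.h_comm_of_cent (M.base.sylQ.le hq) l
  calc D.h l * (q * D.p a b) * (D.h l)⁻¹ = (D.h l * q) * D.p a b * (D.h l)⁻¹ := by group
    _ = (q * D.h l) * D.p a b * (D.h l)⁻¹ := by rw [h1]
    _ = q * (D.h l * D.p a b * (D.h l)⁻¹) := by group
    _ = _ := by rw [D.h_p]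

theorem h_z (l : Fˣ) (b : F) : D.h l * D.p 0 b * (D.h l)⁻¹ = D.p 0 ((l : F) ^ (1 + 2 ^ (m + 1)) * b) := by
  rw [D.h_p, mul_zero]

/-- conjugates of the graph by `h l` -/
theorem mem_cjh (M : CaseB D Q T g) (l : Fˣ) {v : G} :
    v ∈ cj (D.h l * g) Q ↔ ∃ r ∈ Q, v = r * D.p 0 ((l : F) ^ (1 + 2 ^ (m + 1)) * fB D Q g r) := by
  rw [cj_mul, mem_cj, M.mem_cjg]
  constructor
  · rintro ⟨r, hr, h⟩
    refine ⟨r, hr, ?_⟩
    have h1 := D.h_comm_of_cent (M.base.sylQ.le hr) l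
    calc v = D.h l * ((D.h l)⁻¹ * v * D.h l) * (D.h l)⁻¹ := by group
      _ = (D.h l * r) * D.p 0 (fB D Q g r) * (D.h l)⁻¹ := by rw [h]; group
      _ = r * (D.h l * D.p 0 (fB D Q g r) * (D.h l)⁻¹) := by rw [h1]; group
      _ = _ := by rw [h_z]
  · rintro ⟨r, hr, h⟩
    refine ⟨r, hr, ?_⟩
    have h1 := D.h_comm_of_cent (M.base.sylQ.le hr) l
    rw [← h_z] at h
    calc (D.h l)⁻¹ * v * D.h l = (D.h l)⁻¹ * (r * D.h l) * D.p 0 (fB D Q g r) := by rw [h]; group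
      _ = (D.h l)⁻¹ * (D.h l * r) * D.p 0 (fB D Q g r) := by rw [← h1]
      _ = _ := by group

/-- every graph is a member -/
theorem exists_graph (M : CaseB D Q T g) (c : F) : ∃ y ∈ normalizer (T : Set G), ∀ v, v ∈ cj y Q ↔
    ∃ r ∈ Q, v = r * D.p 0 (c * fB D Q g r) := by
  by_cases hc : c = 0
  · refine ⟨1, one_mem _, fun v => ?_⟩
    rw [mem_cj, inv_one, one_mul, mul_one, hc]
    constructor
    · intro hv
      exact ⟨v, hv, by rw [zero_mul, D.p_zero, mul_one]⟩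
    · rintro ⟨r, hr, rfl⟩
      rw [zero_mul, D.p_zero, mul_one]
      exact hr
  · obtain ⟨l, hl⟩ := D.exists_norm_unit hc
    refine ⟨D.h l * g, mul_mem (M.h_T l) M.gT, fun v => ?_⟩
    rw [M.mem_cjh, hl]

/-- elements of `N(T) ∩ N(K)` normalize `Q` -/
theorem norm_QM (M : CaseB D Q T g) {μ : G} (h1 : μ ∈ normalizer (T : Set G)) (h2 : μ ∈ normalizer (K : Set G)) :
    cj μ Q = Q := by
  have h3 : ∀ {ν : G}, ν ∈ normalizer (T : Set G) → ν ∈ normalizer (K : Set G) → ∀ q ∈ Q, ν * q * ν⁻¹ ∈ Q := by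
    intro ν h1 h2 q hq
    rw [M.base.mem_Q_iff (conj_mem h1 (M.base.Q_le hq))]
    exact norm_cent h2 (M.base.sylQ.le hq)
  apply cj_eq_of_mem_normalizer
  exact mem_normalizer_fintype fun q hq => h3 h1 h2 q hq

/-- **the members** -/
theorem members (M : CaseB D Q T g) {x : G} (hx : x ∈ normalizer (T : Set G)) :
    ∃ c : F, ∀ v, v ∈ cj x Q ↔ ∃ r ∈ Q, v = r * D.p 0 (c * fB D Q g r) := by
  obtain ⟨r1, hr1, -, -, -, -, hr1', -, -⟩ := M.two
  obtain ⟨s, hs, b, hb⟩ := M.norm_Q' hx hr1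
  have hs1 : s ≠ 1 := by
    rintro rfl
    rw [one_mul] at hb
    have h1 : b = 0 := M.PL' (x := x) (by rw [← hb]; exact mem_cj_mul hr1)
    rw [h1, D.p_zero] at hb
    apply hr1'
    calc r1 = x⁻¹ * (x * r1 * x⁻¹) * x := by group
      _ = 1 := by rw [hb]; group
  have hfs : fB D Q g s ≠ 0 := fun h => hs1 (M.fB_inj hs h)
  obtain ⟨y, hy, hyQ⟩ := M.exists_graph (b / fB D Q g s)
  refine ⟨b / fB D Q g s, fun v => ?_⟩
  rw [← hyQ]
  have hv : x * r1 * x⁻¹ ∈ cj y Q := by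
    rw [hyQ]
    exact ⟨s, hs, by rw [hb, div_mul_cancel₀ _ hfs]⟩
  have hμ : y⁻¹ * x ∈ normalizer (K : Set G) := by
    have hr2 := orderOf_eq_two_of_mul_self (M.sq_Q hr1) hr1'
    apply M.tight.tight (y⁻¹ * x) r1 (M.base.sylQ.le hr1) hr2
    have h1 := mem_cj.mp hv
    have e : y⁻¹ * x * r1 * (y⁻¹ * x)⁻¹ = y⁻¹ * (x * r1 * x⁻¹) * y := by group
    rw [e]
    exact M.base.sylQ.le h1
  have h2 := M.norm_QM (mul_mem (inv_mem hy) hx) hμ
  have h3 : cj x Q = cj y Q := by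
    have e : x = y * (y⁻¹ * x) := by group
    rw [e, cj_mul, h2]
  rw [h3]

end CaseB

end Cfsg.Agent.OddHalf.D4.Sz

end

-- merged: Cfsg.Agent.OddHalf.D4.Sz.LocC
section

/-!
# ODD, D4, `K = Sz(q)`, `q ≥ 32`, case (b): the groups `N₀`, `E`, `E₁`, `T₁`
-/

set_option autoImplicit false
set_option linter.unusedSectionVars false

namespace Cfsg.Agent.OddHalf.D4.Sz

open Subgroup Cfsg.Agent.OddHalf.D4 Cfsg.Agent.OddHalf.D4.Basic Cfsg.Agent.OddHalf.D4.Sz.PairDefs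
open Cfsg.Agent.OddHalf.D4.CommConj (cj mem_cj cj_mul card_cj cj_eq_of_mem_normalizer mem_normalizer_of_cj_eq
  mem_cj_mul)
open Cfsg.Agent.TwoFusion.StronglyEmbeddedBasic (orderOf_eq_two_of_mul_self)

/-- if the elements of odd order are central then the 2-elements form a subgroup -/
theorem exists_two_part {X : Type*} [Group X] [Finite X] (h : ∀ x : X, Odd (orderOf x) → x ∈ center X) :
    ∃ T : Subgroup X, IsPGroup 2 T ∧ ∀ x, x ∈ T ↔ ∃ k : ℕ, x ^ 2 ^ k = 1 := by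
  have h2 : Fact (Nat.Prime 2) := ⟨Nat.prime_two⟩
  have hq : IsPGroup 2 (X ⧸ center X) := by
    intro x
    obtain ⟨x, rfl⟩ := QuotientGroup.mk_surjective x
    obtain ⟨i, j, hij, hodd, k, hk⟩ := Cfsg.Agent.StdSz.Env.exists_decomp x
    refine ⟨k, ?_⟩
    have h1 : (QuotientGroup.mk x : X ⧸ center X) = QuotientGroup.mk (x ^ j) := by
      rw [QuotientGroup.eq]
      have h3 : (x ^ i)⁻¹ ∈ center X := inv_mem (h _ hodd)
      have e : x⁻¹ * x ^ j = (x ^ i)⁻¹ := by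
        apply eq_inv_of_mul_eq_one_left
        have h4 : x ^ j * x ^ i = x := by rw [← _root_.pow_add, add_comm, _root_.pow_add, ← hij]
        calc x⁻¹ * x ^ j * x ^ i = x⁻¹ * (x ^ j * x ^ i) := by group
          _ = 1 := by rw [h4]; group
      rw [e]; exact h3
    rw [h1, ← QuotientGroup.mk_pow, hk, QuotientGroup.mk_one]
  have hnil : Group.IsNilpotent (X ⧸ center X) := hq.isNilpotent
  have hnil2 : Group.IsNilpotent X := Group.of_quotient_center_nilpotent hnil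
  have hnorm := (isNilpotent_of_finite_tfae (G := X)).out 0 3 |>.mp hnil2
  obtain ⟨S⟩ : Nonempty (Sylow 2 X) := inferInstance
  have hS : (S : Subgroup X).Normal := hnorm 2 h2 S
  refine ⟨S, S.2, fun x => ⟨fun hx => ?_, fun hx => ?_⟩⟩
  · obtain ⟨k, hk⟩ := S.2 ⟨x, hx⟩
    exact ⟨k, by simpa using congrArg Subtype.val hk⟩
  · obtain ⟨k, hk⟩ := hx
    have h3 : IsPGroup 2 (zpowers x) := by
      rintro ⟨y, n, rfl⟩
      refine ⟨k, Subtype.ext ?_⟩
      show (x ^ n) ^ 2 ^ k = 1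
      rw [← zpow_natCast, ← zpow_mul, mul_comm, zpow_mul, zpow_natCast, hk, one_zpow]
    obtain ⟨S', hS'⟩ := h3.exists_le_sylow
    obtain ⟨y, hy⟩ := MulAction.exists_smul_eq X S S'
    have h4 : S = S' := by
      rw [← hy]
      apply Sylow.ext
      rw [Sylow.coe_subgroup_smul]
      ext z
      rw [Subgroup.mem_pointwise_smul_iff_inv_smul_mem]
      constructor
      · intro hz
        have := hS.conj_mem z hz y⁻¹
        simpa using this
      · intro hz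
        have := hS.conj_mem _ hz y
        simpa [mul_assoc] using this
    rw [h4]
    exact hS' (mem_zpowers x)

variable {G : Type*} [Group G] {F : Type*} [Field F] [Fintype F] {m : ℕ} {K : Subgroup G}
  {D : KFr F m K} {Q T : Subgroup G} {g : G}

namespace CaseB

variable [Finite G] [CharP F 2]

/-- elements normalizing `T` and acting trivially on `V / Z` -/
def N0 (M : CaseB D Q T g) : Subgroup G where
  carrier := {x | x ∈ normalizer (T : Set G) ∧ ∀ r ∈ Q, ∃ b, x * r * x⁻¹ = r * D.p 0 b}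
  one_mem' := ⟨one_mem _, fun r _ => ⟨0, by rw [D.p_zero]; group⟩⟩
  mul_mem' := by
    rintro x y ⟨hx, hx2⟩ ⟨hy, hy2⟩
    refine ⟨mul_mem hx hy, fun r hr => ?_⟩
    obtain ⟨b, hb⟩ := hy2 r hr
    obtain ⟨c, hc⟩ := hx2 r hr
    obtain ⟨d, hd⟩ := M.norm_Z hx b
    refine ⟨c + d, ?_⟩
    calc x * y * r * (x * y)⁻¹ = x * (y * r * y⁻¹) * x⁻¹ := by group
      _ = x * (r * D.p 0 b) * x⁻¹ := by rw [hb]
      _ = (x * r * x⁻¹) * (x * D.p 0 b * x⁻¹) := by group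
      _ = r * (D.p 0 c * D.p 0 d) := by rw [hc, hd, mul_assoc]
      _ = _ := by rw [D.z_mul]
  inv_mem' := by
    rintro x ⟨hx, hx2⟩
    refine ⟨inv_mem hx, fun r hr => ?_⟩
    obtain ⟨b, hb⟩ := hx2 r hr
    obtain ⟨c, hc⟩ := M.norm_Z (inv_mem hx) b
    refine ⟨c, ?_⟩
    have h1 : r = (x⁻¹ * r * x⁻¹⁻¹) * D.p 0 c := by
      rw [← hc]
      calc r = x⁻¹ * (x * r * x⁻¹) * x := by group
        _ = x⁻¹ * (r * D.p 0 b) * x := by rw [hb]
        _ = _ := by group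
    calc x⁻¹ * r * x⁻¹⁻¹ = ((x⁻¹ * r * x⁻¹⁻¹) * D.p 0 c) * D.p 0 c := by
          rw [mul_assoc (x⁻¹ * r * x⁻¹⁻¹), D.z_self, mul_one]
      _ = r * D.p 0 c := by rw [← h1]

theorem mem_N0 (M : CaseB D Q T g) {x : G} : x ∈ M.N0 ↔ x ∈ normalizer (T : Set G) ∧
    ∀ r ∈ Q, ∃ b, x * r * x⁻¹ = r * D.p 0 b := Iff.rfl

/-- `N₀` is normal in `N(T)` -/
theorem conj_N0 (M : CaseB D Q T g) {n x : G} (hn : n ∈ normalizer (T : Set G)) (hx : x ∈ M.N0) :
    n * x * n⁻¹ ∈ M.N0 := by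
  refine ⟨mul_mem (mul_mem hn hx.1) (inv_mem hn), fun r hr => ?_⟩
  obtain ⟨s, hs, b, hb⟩ := M.norm_Q' (inv_mem hn) hr
  rw [inv_inv] at hb
  obtain ⟨c, hc⟩ := hx.2 s hs
  obtain ⟨d, hd⟩ := M.norm_Z hx.1 b
  obtain ⟨e, he⟩ := M.norm_Z hn (c + d + b)
  refine ⟨e, ?_⟩
  have h1 : x * (n⁻¹ * r * n) * x⁻¹ = (n⁻¹ * r * n) * D.p 0 (c + d + b) := by
    rw [hb]
    calc x * (s * D.p 0 b) * x⁻¹ = (x * s * x⁻¹) * (x * D.p 0 b * x⁻¹) := by group
      _ = s * (D.p 0 c * D.p 0 d) := by rw [hc, hd, mul_assoc]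
      _ = s * D.p 0 (b + (c + d + b)) := by
          rw [D.z_mul]
          congr 2
          have := CharTwo.add_self_eq_zero b
          linear_combination -this
      _ = s * D.p 0 b * D.p 0 (c + d + b) := by rw [← D.z_mul, mul_assoc]
  calc n * x * n⁻¹ * r * (n * x * n⁻¹)⁻¹ = n * (x * (n⁻¹ * r * n) * x⁻¹) * n⁻¹ := by group
    _ = n * ((n⁻¹ * r * n) * D.p 0 (c + d + b)) * n⁻¹ := by rw [h1]
    _ = r * (n * D.p 0 (c + d + b) * n⁻¹) := by group
    _ = _ := by rw [he]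

/-- elements of `N₀` act on `Q` as `r ↦ r * p 0 (c * f r)` -/
theorem N0_act (M : CaseB D Q T g) {x : G} (hx : x ∈ M.N0) : ∃ c : F, ∀ r ∈ Q, x * r * x⁻¹ =
    r * D.p 0 (c * fB D Q g r) := by
  obtain ⟨c, hc⟩ := M.members hx.1
  refine ⟨c, fun r hr => ?_⟩
  obtain ⟨b, hb⟩ := hx.2 r hr
  obtain ⟨s, hs, h⟩ := (hc _).mp (mem_cj_mul hr)
  rw [hb] at h
  obtain ⟨h1, -, h2⟩ := M.base.uniq hr hs h
  rw [hb, h2, h1]

theorem h_N0 (M : CaseB D Q T g) (l : Fˣ) : D.h l ∈ M.N0 := by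
  refine ⟨M.h_T l, fun r hr => ⟨0, ?_⟩⟩
  rw [D.h_comm_of_cent (M.base.sylQ.le hr) l, D.p_zero, mul_one, mul_inv_cancel_right]

variable (D) in
/-- the torus, reparametrized -/
noncomputable def hh (c : Fˣ) : G := D.h (D.exists_norm_unit c.ne_zero).choose

omit [Finite G] in
theorem hh_z (c : Fˣ) (b : F) : hh D c * D.p 0 b * (hh D c)⁻¹ = D.p 0 (c * b) := by
  unfold hh
  rw [D.h_p, mul_zero, (D.exists_norm_unit c.ne_zero).choose_spec]

include D in
theorem q_ge : ∃ l : Fˣ, (l : F) ^ (1 + 2 ^ (m + 1)) ≠ 1 := by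
  obtain ⟨g, hg0, hg, -⟩ := Cfsg.Agent.StdSz.EquivMaps.exists_gen D.hF
  refine ⟨Units.mk0 g hg0, fun h => ?_⟩
  have h1 : g = 1 := D.norm_inj (by rw [one_pow]; exact h)
  have e7 : g ^ 1 = g ^ 0 := by rw [pow_one, pow_zero, h1]
  rw [hg] at e7
  have hm := D.hm
  have h4 : 2 ^ 3 ≤ 2 ^ (2 * m + 1) := Nat.pow_le_pow_right (by norm_num) (by omega)
  have := Nat.ModEq.eq_of_lt_of_lt e7 (by omega) (by omega)
  omega

theorem aff (M : CaseB D Q T g) : RkAff.Aff Q (fun b => D.p 0 b) (hh D) (fB D Q g) M.N0 where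
  u_add a b := (D.z_mul a b).symm
  u_inj a b h := D.z_inj h
  comm r hr a := (M.base.comm hr 0 a).symm
  disj a h := M.z_Q (M.base.sylQ.le h)
  h_u c a := hh_z c a
  h_R c r hr := D.h_comm_of_cent (M.base.sylQ.le hr) _
  h_N c := M.h_N0 _
  f_add r hr s hs := M.fB_mul hr hs
  f_inj r hr h := M.fB_inj hr h
  N_u x hx a := M.norm_Z hx.1 a
  N_R x hx := M.N0_act hx
  N_tr := by
    obtain ⟨l, hl⟩ := q_ge (D := D)
    obtain ⟨r, hr, -, -, -, -, hr1, -, -⟩ := M.two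
    refine ⟨g * D.h l * g⁻¹, M.conj_N0 M.gT (M.h_N0 l), r, hr, fun h => ?_⟩
    -- `g h g⁻¹` centralizes `r * p 0 (f r)`, so `p 0 (f r)`
    have h1 := M.fB_mem hr
    rw [mem_cj] at h1
    have h2 := D.h_comm_of_cent (M.base.sylQ.le h1) l
    have h3 : g * D.h l * g⁻¹ * (r * D.p 0 (fB D Q g r)) = r * D.p 0 (fB D Q g r) * (g * D.h l * g⁻¹) := by
      calc g * D.h l * g⁻¹ * (r * D.p 0 (fB D Q g r))
          = g * (D.h l * (g⁻¹ * (r * D.p 0 (fB D Q g r)) * g)) * g⁻¹ := by group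
        _ = g * ((g⁻¹ * (r * D.p 0 (fB D Q g r)) * g) * D.h l) * g⁻¹ := by rw [h2]
        _ = _ := by group
    have h4 : g * D.h l * g⁻¹ * D.p 0 (fB D Q g r) = D.p 0 (fB D Q g r) * (g * D.h l * g⁻¹) := by
      have e : r * (g * D.h l * g⁻¹ * D.p 0 (fB D Q g r)) = r * (D.p 0 (fB D Q g r) * (g * D.h l * g⁻¹)) := by
        calc r * (g * D.h l * g⁻¹ * D.p 0 (fB D Q g r)) = (r * (g * D.h l * g⁻¹)) * D.p 0 (fB D Q g r) := by group
          _ = (g * D.h l * g⁻¹ * r) * D.p 0 (fB D Q g r) := by rw [← h]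
          _ = g * D.h l * g⁻¹ * (r * D.p 0 (fB D Q g r)) := by group
          _ = r * D.p 0 (fB D Q g r) * (g * D.h l * g⁻¹) := h3
          _ = _ := by group
      exact mul_left_cancel e
    obtain ⟨b, hb⟩ := M.norm_Z (inv_mem M.gT) (fB D Q g r)
    rw [inv_inv] at hb
    have h5 : D.h l * D.p 0 b * (D.h l)⁻¹ = D.p 0 b := by
      rw [← hb]
      calc D.h l * (g⁻¹ * D.p 0 (fB D Q g r) * g) * (D.h l)⁻¹
          = g⁻¹ * (g * D.h l * g⁻¹ * D.p 0 (fB D Q g r)) * g * (D.h l)⁻¹ := by group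
        _ = g⁻¹ * (D.p 0 (fB D Q g r) * (g * D.h l * g⁻¹)) * g * (D.h l)⁻¹ := by rw [h4]
        _ = _ := by group
    rw [h_z] at h5
    have h6 := D.z_inj h5
    have h7 : b = 0 := by
      have h8 : ((l : F) ^ (1 + 2 ^ (m + 1)) - 1) * b = 0 := by linear_combination h6
      exact (mul_eq_zero.mp h8).resolve_left (sub_ne_zero.mpr hl)
    rw [h7, D.p_zero] at hb
    apply hr1
    apply M.fB_inj hr
    apply D.z_inj
    rw [D.p_zero]
    calc D.p 0 (fB D Q g r) = g * (g⁻¹ * D.p 0 (fB D Q g r) * g) * g⁻¹ := by group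
      _ = 1 := by rw [hb]; group
  two := by
    obtain ⟨r, hr, s, hs, hr2, hs2, hr1, hs1, hrs⟩ := M.two
    refine ⟨r, hr, s, hs, fun h => hr1 (M.fB_inj hr h), fun h => hs1 (M.fB_inj hs h), fun h => hrs ?_⟩
    have h1 : fB D Q g (r * s) = 0 := by rw [M.fB_mul hr hs, h, CharTwo.add_self_eq_zero]
    have h2 := M.fB_inj (mul_mem hr hs) h1
    have h3 := eq_inv_of_mul_eq_one_left h2
    rw [h3, M.inv_Q hs]

/-- `E` -/
def E (M : CaseB D Q T g) : Subgroup G where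
  carrier := {x | x ∈ M.N0 ∧ ∀ b, x * D.p 0 b = D.p 0 b * x}
  one_mem' := ⟨one_mem _, fun b => by group⟩
  mul_mem' := by
    rintro x y ⟨hx, hx2⟩ ⟨hy, hy2⟩
    refine ⟨mul_mem hx hy, fun b => ?_⟩
    rw [mul_assoc, hy2, ← mul_assoc, hx2, mul_assoc]
  inv_mem' := by
    rintro x ⟨hx, hx2⟩
    refine ⟨inv_mem hx, fun b => ?_⟩
    have := hx2 b
    calc x⁻¹ * D.p 0 b = x⁻¹ * (D.p 0 b * x) * x⁻¹ := by group
      _ = x⁻¹ * (x * D.p 0 b) * x⁻¹ := by rw [this]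
      _ = _ := by group

theorem mem_E (M : CaseB D Q T g) {x : G} : x ∈ M.E ↔ x ∈ M.N0 ∧ ∀ b, x * D.p 0 b = D.p 0 b * x := Iff.rfl

/-- `E` is normal in `N(T)` -/
theorem conj_E (M : CaseB D Q T g) {n x : G} (hn : n ∈ normalizer (T : Set G)) (hx : x ∈ M.E) :
    n * x * n⁻¹ ∈ M.E := by
  refine ⟨M.conj_N0 hn hx.1, fun b => ?_⟩
  obtain ⟨c, hc⟩ := M.norm_Z (inv_mem hn) b
  rw [inv_inv] at hc
  have h1 := hx.2 c
  rw [← hc] at h1
  calc n * x * n⁻¹ * D.p 0 b = n * (x * (n⁻¹ * D.p 0 b * n)) * n⁻¹ := by group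
    _ = n * ((n⁻¹ * D.p 0 b * n) * x) * n⁻¹ := by rw [h1]
    _ = _ := by group

open Classical in
variable (D Q g) in
/-- the parameter `c` of an element acting as `r ↦ r * p 0 (c * f r)` -/
noncomputable def ac (x : G) : F :=
  if h : ∃ c : F, ∀ r ∈ Q, x * r * x⁻¹ = r * D.p 0 (c * fB D Q g r) then h.choose else 0

theorem ac_spec (M : CaseB D Q T g) {x : G} (hx : x ∈ M.N0) {r : G} (hr : r ∈ Q) :
    x * r * x⁻¹ = r * D.p 0 (ac D Q g x * fB D Q g r) := by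
  classical
  have h := M.N0_act hx
  have e : ac D Q g x = h.choose := by unfold ac; exact dif_pos h
  rw [e]
  exact h.choose_spec r hr

theorem ac_eq (M : CaseB D Q T g) {x : G} (hx : x ∈ M.N0) {c : F}
    (h : ∀ r ∈ Q, x * r * x⁻¹ = r * D.p 0 (c * fB D Q g r)) : ac D Q g x = c := by
  obtain ⟨r, hr, -, -, -, -, hr1, -, -⟩ := M.two
  have h1 := M.ac_spec hx hr
  rw [h r hr] at h1
  have h2 := D.z_inj (mul_left_cancel h1)
  exact (mul_right_cancel₀ (fun h => hr1 (M.fB_inj hr h)) h2).symm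

theorem ac_mul (M : CaseB D Q T g) {x y : G} (hx : x ∈ M.E) (hy : y ∈ M.E) :
    ac D Q g (x * y) = ac D Q g x + ac D Q g y := by
  apply M.ac_eq (mul_mem hx.1 hy.1)
  intro r hr
  calc x * y * r * (x * y)⁻¹ = x * (y * r * y⁻¹) * x⁻¹ := by group
    _ = x * (r * D.p 0 (ac D Q g y * fB D Q g r)) * x⁻¹ := by rw [M.ac_spec hy.1 hr]
    _ = (x * r * x⁻¹) * (x * D.p 0 (ac D Q g y * fB D Q g r) * x⁻¹) := by group
    _ = (r * D.p 0 (ac D Q g x * fB D Q g r)) * D.p 0 (ac D Q g y * fB D Q g r) := by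
        rw [M.ac_spec hx.1 hr, hx.2, mul_inv_cancel_right]
    _ = _ := by rw [mul_assoc, D.z_mul, add_mul]

theorem ac_one (M : CaseB D Q T g) : ac D Q g 1 = 0 := by
  have := M.ac_mul M.E.one_mem M.E.one_mem
  rw [mul_one] at this
  exact add_eq_left.mp this.symm

theorem ac_inv (M : CaseB D Q T g) {x : G} (hx : x ∈ M.E) : ac D Q g x⁻¹ = ac D Q g x := by
  have h1 := M.ac_mul (inv_mem hx) hx
  rw [inv_mul_cancel, M.ac_one] at h1
  have h2 := eq_neg_of_add_eq_zero_left h1.symm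
  rwa [CharTwo.neg_eq] at h2

theorem ac_pow (M : CaseB D Q T g) {x : G} (hx : x ∈ M.E) (n : ℕ) : ac D Q g (x ^ n) = n * ac D Q g x := by
  induction n with
  | zero => rw [pow_zero, M.ac_one, Nat.cast_zero, zero_mul]
  | succ n ih =>
    rw [pow_succ, M.ac_mul (pow_mem hx n) hx, ih]
    push_cast
    ring

theorem ac_zero (M : CaseB D Q T g) {x : G} (hx : x ∈ M.N0) (h : ac D Q g x = 0) {r : G} (hr : r ∈ Q) :
    x * r = r * x := by
  have h1 := M.ac_spec hx hr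
  rw [h, zero_mul, D.p_zero, mul_one] at h1
  exact mul_inv_eq_iff_eq_mul.mp h1

/-- `T ≤ E` -/
theorem T_E (M : CaseB D Q T g) {t : G} (ht : t ∈ T) : t ∈ M.E ∧ ac D Q g t = 0 := by
  have h1 : ∀ r ∈ Q, t * r * t⁻¹ = r := by
    intro r hr
    have := M.central' hr 0 ht
    rw [D.p_zero, mul_one] at this
    rw [← this, mul_inv_cancel_right]
  have h2 : t ∈ M.N0 := ⟨le_normalizer ht, fun r hr => ⟨0, by rw [D.p_zero, mul_one, h1 r hr]⟩⟩
  refine ⟨⟨h2, fun b => M.base.z_cent ht b⟩, M.ac_eq h2 fun r hr => ?_⟩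
  rw [zero_mul, D.p_zero, mul_one, h1 r hr]

theorem exists_E (M : CaseB D Q T g) (c : F) : ∃ x ∈ M.E, ac D Q g x = c := by
  obtain ⟨x, hx, h1, h2⟩ := M.aff.exists_transl_all c
  exact ⟨x, ⟨hx, h1⟩, M.ac_eq hx h2⟩

theorem ac_h (M : CaseB D Q T g) (l : Fˣ) {x : G} (hx : x ∈ M.E) :
    ac D Q g (D.h l * x * (D.h l)⁻¹) = (l : F) ^ (1 + 2 ^ (m + 1)) * ac D Q g x := by
  apply M.ac_eq (M.conj_N0 (M.h_T l) hx.1)
  intro r hr
  have h1 := D.h_comm_of_cent (M.base.sylQ.le hr) l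
  have h2 : (D.h l)⁻¹ * r * D.h l = r := by rw [mul_assoc, ← h1, inv_mul_cancel_left]
  have h3 : D.h l * r * (D.h l)⁻¹ = r := by rw [h1, mul_inv_cancel_right]
  calc D.h l * x * (D.h l)⁻¹ * r * (D.h l * x * (D.h l)⁻¹)⁻¹
      = D.h l * (x * ((D.h l)⁻¹ * r * D.h l) * x⁻¹) * (D.h l)⁻¹ := by group
    _ = D.h l * (r * D.p 0 (ac D Q g x * fB D Q g r)) * (D.h l)⁻¹ := by rw [h2, M.ac_spec hx.1 hr]
    _ = (D.h l * r * (D.h l)⁻¹) * (D.h l * D.p 0 (ac D Q g x * fB D Q g r) * (D.h l)⁻¹) := by group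
    _ = _ := by rw [h3, h_z, mul_assoc]

/-- the elements of odd order centralizing `V` -/
def Od (_ : CaseB D Q T g) (o : G) : Prop :=
  (∀ r ∈ Q, o * r = r * o) ∧ (∀ b, o * D.p 0 b = D.p 0 b * o) ∧ Odd (orderOf o)

theorem eq_one_of_pow {x : G} {n k : ℕ} (hn : Odd n) (h1 : x ^ n = 1) (h2 : x ^ 2 ^ k = 1) : x = 1 := by
  have h3 : orderOf x ∣ n := orderOf_dvd_of_pow_eq_one h1
  have h4 : orderOf x ∣ 2 ^ k := orderOf_dvd_of_pow_eq_one h2
  have h5 : Nat.Coprime n (2 ^ k) := (Nat.Coprime.pow_right k (Nat.coprime_two_right.mpr hn))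
  have h6 := Nat.dvd_gcd h3 h4
  rw [h5.gcd_eq_one] at h6
  exact orderOf_eq_one_iff.mp (Nat.dvd_one.mp h6)

theorem Od.norm {M : CaseB D Q T g} {o : G} (h : M.Od o) : o ∈ normalizer (K : Set G) := by
  obtain ⟨r, hr, -, -, hr2, -, hr1, -, -⟩ := M.two
  exact M.mem_norm hr hr2 hr1 (h.1 r hr)

/-- the odd elements centralize `K` -/
theorem Od.cent {M : CaseB D Q T g} {o : G} (h : M.Od o) : o ∈ centralizer (K : Set G) := by
  obtain ⟨c, hc, a, b, hab⟩ := D.cz o h.norm h.2.1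
  have hcom : Commute c (D.p a b) := D.comm_of_cent hc a b
  have h1 : o ^ orderOf o = 1 := pow_orderOf_eq_one o
  set n := orderOf o with hn
  rw [hab, hcom.mul_pow] at h1
  have h2 : D.p a b ^ n ∈ centralizer (K : Set G) := by
    have e : D.p a b ^ n = (c ^ n)⁻¹ := (inv_eq_of_mul_eq_one_right h1).symm
    rw [e]
    exact inv_mem (pow_mem hc n)
  have h3 := D.cen _ (pow_mem (D.p_mem a b) n) h2
  have h4 : D.p a b ^ 2 ^ 2 = 1 := by
    have : (2 : ℕ) ^ 2 = 2 * 2 := by norm_num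
    rw [this, pow_mul, pow_two (D.p a b), D.p_sq, pow_two, D.z_self]
  have h5 := eq_one_of_pow h.2.2 h3 h4
  rw [hab, h5, mul_one]
  exact hc

/-- `T` centralizes the odd elements -/
theorem Od.comm_T {M : CaseB D Q T g} {o : G} (h : M.Od o) {t : G} (ht : t ∈ T) : t * o = o * t := by
  obtain ⟨q, hq, a, b, rfl⟩ := (M.base.mem t).mp ht
  have h1 := h.1 q hq
  have h2 := D.comm_of_cent h.cent a b
  rw [mul_assoc, ← h2, ← mul_assoc, ← h1, mul_assoc]

theorem Od.conj {M : CaseB D Q T g} {o n : G} (h : M.Od o) (hn : n ∈ normalizer (T : Set G)) : M.Od (n * o * n⁻¹) := by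
  refine ⟨fun r hr => ?_, fun b => ?_, ?_⟩
  · obtain ⟨s, hs, b, hb⟩ := M.norm_Q' (inv_mem hn) hr
    rw [inv_inv] at hb
    have h1 : o * (n⁻¹ * r * n) = (n⁻¹ * r * n) * o := by
      rw [hb, ← mul_assoc, h.1 s hs, mul_assoc, h.2.1 b, ← mul_assoc]
    calc n * o * n⁻¹ * r = n * (o * (n⁻¹ * r * n)) * n⁻¹ := by group
      _ = n * ((n⁻¹ * r * n) * o) * n⁻¹ := by rw [h1]
      _ = _ := by group
  · obtain ⟨c, hc⟩ := M.norm_Z (inv_mem hn) b
    rw [inv_inv] at hc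
    have h1 := h.2.1 c
    rw [← hc] at h1
    calc n * o * n⁻¹ * D.p 0 b = n * (o * (n⁻¹ * D.p 0 b * n)) * n⁻¹ := by group
      _ = n * ((n⁻¹ * D.p 0 b * n) * o) * n⁻¹ := by rw [h1]
      _ = _ := by group
  · rw [Cfsg.Agent.TwoFusion.StronglyEmbeddedBasic.orderOf_conj]
    exact h.2.2

/-- `E₁` -/
def E1 (M : CaseB D Q T g) : Subgroup G where
  carrier := {x | x ∈ M.E ∧ ∀ o, M.Od o → x * o = o * x}
  one_mem' := ⟨one_mem _, fun o _ => by group⟩
  mul_mem' := by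
    rintro x y ⟨hx, hx2⟩ ⟨hy, hy2⟩
    refine ⟨mul_mem hx hy, fun o ho => ?_⟩
    rw [mul_assoc, hy2 o ho, ← mul_assoc, hx2 o ho, mul_assoc]
  inv_mem' := by
    rintro x ⟨hx, hx2⟩
    refine ⟨inv_mem hx, fun o ho => ?_⟩
    have := hx2 o ho
    calc x⁻¹ * o = x⁻¹ * (o * x) * x⁻¹ := by group
      _ = x⁻¹ * (x * o) * x⁻¹ := by rw [this]
      _ = _ := by group

theorem conj_E1 (M : CaseB D Q T g) {n x : G} (hn : n ∈ normalizer (T : Set G)) (hx : x ∈ M.E1) :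
    n * x * n⁻¹ ∈ M.E1 := by
  refine ⟨M.conj_E hn hx.1, fun o ho => ?_⟩
  have h1 := hx.2 _ (ho.conj (inv_mem hn))
  rw [inv_inv] at h1
  calc n * x * n⁻¹ * o = n * (x * (n⁻¹ * o * n)) * n⁻¹ := by group
    _ = n * ((n⁻¹ * o * n) * x) * n⁻¹ := by rw [h1]
    _ = _ := by group

/-- odd elements of `E` -/
theorem od_of_E (M : CaseB D Q T g) {x : G} (hx : x ∈ M.E) (ho : Odd (orderOf x)) : M.Od x := by
  have h1 := M.ac_pow hx (orderOf x)
  rw [pow_orderOf_eq_one, M.ac_one] at h1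
  obtain ⟨k, hk⟩ := ho
  have h2 : ((orderOf x : ℕ) : F) = 1 := by
    rw [hk]
    push_cast
    have : (2 : F) = 0 := CharTwo.two_eq_zero
    rw [this, zero_mul, zero_add]
  rw [h2, one_mul] at h1
  exact ⟨fun r hr => M.ac_zero hx.1 h1.symm hr, hx.2, ⟨k, hk⟩⟩

theorem exists_T1 (M : CaseB D Q T g) : ∃ T1 : Subgroup G, IsPGroup 2 T1 ∧
    ∀ x, x ∈ T1 ↔ x ∈ M.E1 ∧ ∃ k : ℕ, x ^ 2 ^ k = 1 := by
  obtain ⟨T0, hT0, h⟩ := exists_two_part (X := M.E1) (by
    intro x hx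
    rw [mem_center_iff]
    intro y
    apply Subtype.ext
    have h1 := M.od_of_E x.2.1 (by rwa [Subgroup.orderOf_coe])
    exact y.2.2 _ h1)
  refine ⟨T0.map M.E1.subtype, hT0.map _, fun x => ⟨?_, ?_⟩⟩
  · rintro ⟨y, hy, rfl⟩
    obtain ⟨k, hk⟩ := (h y).mp hy
    exact ⟨y.2, k, by simpa using congrArg Subtype.val hk⟩
  · rintro ⟨hx, k, hk⟩
    exact ⟨⟨x, hx⟩, (h _).mpr ⟨k, Subtype.ext hk⟩, rfl⟩

/-- `T₁` -/
noncomputable def T1 (M : CaseB D Q T g) : Subgroup G := M.exists_T1.choose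

theorem T1_two (M : CaseB D Q T g) : IsPGroup 2 M.T1 := M.exists_T1.choose_spec.1

theorem mem_T1 (M : CaseB D Q T g) {x : G} : x ∈ M.T1 ↔ x ∈ M.E1 ∧ ∃ k : ℕ, x ^ 2 ^ k = 1 :=
  M.exists_T1.choose_spec.2 x

/-- `T₁` is normal in `N(T)` -/
theorem conj_T1 (M : CaseB D Q T g) {n x : G} (hn : n ∈ normalizer (T : Set G)) (hx : x ∈ M.T1) :
    n * x * n⁻¹ ∈ M.T1 := by
  rw [mem_T1] at hx ⊢
  obtain ⟨h1, k, hk⟩ := hx
  refine ⟨M.conj_E1 hn h1, k, ?_⟩
  rw [conj_pow, hk]; group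

/-- `T ≤ T₁` -/
theorem T_T1 (M : CaseB D Q T g) {t : G} (ht : t ∈ T) : t ∈ M.T1 := by
  rw [mem_T1]
  refine ⟨⟨(M.T_E ht).1, fun o ho => ho.comm_T ht⟩, ?_⟩
  obtain ⟨k, hk⟩ := M.base.sylT.two ⟨t, ht⟩
  exact ⟨k, by simpa using congrArg Subtype.val hk⟩

/-- `T₁` induces all translations -/
theorem T1_surj (M : CaseB D Q T g) (c : F) : ∃ x ∈ M.T1, ac D Q g x = c := by
  obtain ⟨l, hl⟩ := q_ge (D := D)
  set ν := (l : F) ^ (1 + 2 ^ (m + 1)) with hν
  have hν1 : 1 + ν ≠ 0 := by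
    intro h
    apply hl
    have := eq_neg_of_add_eq_zero_right h
    rwa [CharTwo.neg_eq] at this
  obtain ⟨e, he, hec⟩ := M.exists_E (c / (1 + ν))
  -- `x = [e, h]`
  have hhe : D.h l * e⁻¹ * (D.h l)⁻¹ ∈ M.E := M.conj_E (M.h_T l) (inv_mem he)
  have hx : e * (D.h l * e⁻¹ * (D.h l)⁻¹) ∈ M.E := mul_mem he hhe
  have hac : ac D Q g (e * (D.h l * e⁻¹ * (D.h l)⁻¹)) = c := by
    rw [M.ac_mul he hhe, M.ac_h l (inv_mem he), M.ac_inv he, hec, ← hν]
    field_simp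
  have hx1 : e * (D.h l * e⁻¹ * (D.h l)⁻¹) ∈ M.E1 := by
    refine ⟨hx, fun o ho => ?_⟩
    have h1 : D.h l * o = o * D.h l := D.h_comm_of_cent ho.cent l
    have ho2 := ho.conj (inv_mem he.1.1)
    rw [inv_inv] at ho2
    -- `h (e⁻¹ o' e) h⁻¹ = e⁻¹ o' e`
    have ho3 : M.Od ((D.h l)⁻¹ * o * D.h l) := by
      rw [mul_assoc, ← h1, inv_mul_cancel_left]; exact ho
    have h2 := D.h_comm_of_cent ho2.cent l
    calc e * (D.h l * e⁻¹ * (D.h l)⁻¹) * o = e * D.h l * e⁻¹ * ((D.h l)⁻¹ * o) := by group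
      _ = e * D.h l * e⁻¹ * (o * (D.h l)⁻¹) := by
        have e1 : (D.h l)⁻¹ * o = o * (D.h l)⁻¹ := by
          calc (D.h l)⁻¹ * o = (D.h l)⁻¹ * (o * D.h l) * (D.h l)⁻¹ := by group
            _ = (D.h l)⁻¹ * (D.h l * o) * (D.h l)⁻¹ := by rw [h1]
            _ = _ := by group
        rw [e1]
      _ = e * (D.h l * (e⁻¹ * o * e)) * e⁻¹ * (D.h l)⁻¹ := by group
      _ = e * ((e⁻¹ * o * e) * D.h l) * e⁻¹ * (D.h l)⁻¹ := by rw [h2]
      _ = _ := by group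
  set x := e * (D.h l * e⁻¹ * (D.h l)⁻¹) with hxd
  obtain ⟨i, j, hij, hodd, k, hk⟩ := Cfsg.Agent.StdSz.Env.exists_decomp x
  have hi : ac D Q g (x ^ i) = 0 := by
    have h1 := M.ac_pow (pow_mem hx i) (orderOf (x ^ i))
    rw [pow_orderOf_eq_one, M.ac_one] at h1
    obtain ⟨k, hk⟩ := hodd
    have h2 : ((orderOf (x ^ i) : ℕ) : F) = 1 := by
      rw [hk]
      push_cast
      have : (2 : F) = 0 := CharTwo.two_eq_zero
      rw [this, zero_mul, zero_add]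
    rw [h2, one_mul] at h1
    exact h1.symm
  refine ⟨x ^ j, M.mem_T1.mpr ⟨pow_mem hx1 j, k, hk⟩, ?_⟩
  have h3 : ac D Q g x = ac D Q g (x ^ i * x ^ j) := by rw [← hij]
  rw [M.ac_mul (pow_mem hx i) (pow_mem hx j), hi, zero_add, hac] at h3
  exact h3.symm

/-- the kernel is `T` -/
theorem T1_ker (M : CaseB D Q T g) {x : G} (hx : x ∈ M.T1) (h : ac D Q g x = 0) : x ∈ T := by
  obtain ⟨hx1, k, hk⟩ := M.mem_T1.mp hx
  obtain ⟨r, hr, -, -, hr2, -, hr1, -, -⟩ := M.two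
  have hxr : ∀ r ∈ Q, x * r = r * x := fun r hr => M.ac_zero hx1.1.1 h hr
  have hxM : x ∈ normalizer (K : Set G) := M.mem_norm hr hr2 hr1 (hxr r hr)
  obtain ⟨c, hc, a, b, hab⟩ := D.cz x hxM hx1.1.2
  have hpT := M.base.p_mem a b
  -- `c` commutes with `Q` and is a 2-element
  have hcr : ∀ r ∈ Q, c * r = r * c := by
    intro r hr
    have h1 := hxr r hr
    rw [hab] at h1
    have h2 := M.base.comm hr a b
    have h3 : c * r * D.p a b = r * c * D.p a b := by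
      calc c * r * D.p a b = c * (r * D.p a b) := by group
        _ = c * D.p a b * r := by rw [h2]; group
        _ = r * (c * D.p a b) := h1
        _ = _ := by group
    exact mul_right_cancel h3
  have hcom : Commute c (D.p a b) := D.comm_of_cent hc a b
  have hc2 : c ^ 2 ^ k = 1 := by
    rw [hab, hcom.mul_pow] at hk
    have h2 : D.p a b ^ 2 ^ k ∈ centralizer (K : Set G) := by
      have e : D.p a b ^ 2 ^ k = (c ^ 2 ^ k)⁻¹ := (inv_eq_of_mul_eq_one_right hk).symm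
      rw [e]
      exact inv_mem (pow_mem hc _)
    have h3 := D.cen _ (pow_mem (D.p_mem a b) _) h2
    rwa [h3, mul_one] at hk
  -- `c ∈ Q`
  have hcQ : c ∈ Q := by
    let W : Subgroup G := Q ⊔ zpowers c
    have hz2 : IsPGroup 2 (zpowers c) := by
      rintro ⟨y, n, rfl⟩
      refine ⟨k, Subtype.ext ?_⟩
      show (c ^ n) ^ 2 ^ k = 1
      rw [← zpow_natCast, ← zpow_mul, mul_comm, zpow_mul, zpow_natCast, hc2, one_zpow]
    have hzn : zpowers c ≤ normalizer (Q : Set G) := by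
      rw [zpowers_le]
      apply mem_normalizer_fintype
      intro q hq
      rw [hcr q hq, mul_inv_cancel_right]
      exact hq
    have hW2 : IsPGroup 2 W := by
      have := hz2.to_sup_of_normal_right' M.base.sylQ.two hzn
      rwa [sup_comm] at this
    have h1 := M.base.sylQ.max W hW2 le_sup_left (sup_le M.base.sylQ.le (by rwa [zpowers_le]))
    exact h1 (le_sup_right (a := Q) (mem_zpowers c))
  rw [hab]
  exact mul_mem (M.base.Q_le hcQ) hpT

end CaseB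

end Cfsg.Agent.OddHalf.D4.Sz

end

-- merged: Cfsg.Agent.OddHalf.D4.Sz.Weights
section

/-!
# ODD, D4, `K = Sz(q)`, `q ≥ 32`: further equivariant maps

The torus element `l` acts with weight `1` (module `L0`), `l` (`L1`), `l ^ (1 + θ)` (`L2`).
-/

set_option autoImplicit false
set_option linter.unusedSectionVars false

namespace Cfsg.Agent.OddHalf.D4.Sz.Weights

open Cfsg.Agent.StdSz.EquivMaps Cfsg.Agent.StdSz.SzMaps

/-- weights `L1 × L2 → L0`. -/
theorem weight_120 {m i j : ℕ} (hm : 2 ≤ m) (hi : i < 2 * m + 1) (hj : j < 2 * m + 1)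
    (h : 1 * 2 ^ i + (1 + 2 ^ (m + 1)) * 2 ^ j ≡ 0 [MOD 2 ^ (2 * m + 1) - 1]) : False := by
  have h1 : 2 ^ i + 2 ^ j + 2 ^ ((j + (m + 1)) % (2 * m + 1)) ≡ 0 [MOD 2 ^ (2 * m + 1) - 1] := by
    have e := pow_reduce (n := 2 * m + 1) (by omega) (j + (m + 1))
    have e2 : 1 * 2 ^ i + (1 + 2 ^ (m + 1)) * 2 ^ j = 2 ^ i + 2 ^ j + 2 ^ (j + (m + 1)) := by
      rw [_root_.pow_add 2 j (m + 1)]; ring
    rw [e2] at h
    exact ((e.symm).add_left _).trans h
  obtain ⟨k, hk⟩ := (Nat.modEq_zero_iff_dvd.mp h1)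
  set c := (j + (m + 1)) % (2 * m + 1) with hc
  have hc' : c < 2 * m + 1 := Nat.mod_lt _ (by omega)
  obtain ⟨P, hP, hP2⟩ : ∃ P : ℕ, 2 ^ (2 * m - 2) = P ∧ 4 ≤ P := by
    refine ⟨_, rfl, ?_⟩
    calc 4 = 2 ^ 2 := by norm_num
      _ ≤ 2 ^ (2 * m - 2) := Nat.pow_le_pow_right (by norm_num) (by omega)
  have e3 : 2 ^ (2 * m + 1) = 8 * P := by
    rw [← hP, show 2 * m + 1 = (2 * m - 2) + 3 by omega, _root_.pow_add]; norm_num; ring
  have key : ∀ e : ℕ, e < 2 * m + 1 → 2 ^ e = 4 * P ∨ 2 ^ e = 2 * P ∨ (1 ≤ 2 ^ e ∧ 2 ^ e ≤ P) := by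
    intro e he
    rcases Nat.lt_trichotomy e (2 * m - 1) with h4 | h4 | h4
    · right; right
      refine ⟨Nat.one_le_two_pow, ?_⟩
      rw [← hP]
      exact Nat.pow_le_pow_right (by norm_num) (by omega)
    · right; left
      rw [h4, ← hP, show 2 * m - 1 = (2 * m - 2) + 1 by omega, pow_succ]; ring
    · left
      have : e = (2 * m - 2) + 2 := by omega
      rw [this, ← hP, _root_.pow_add]; norm_num; ring
  have k1 := key i hi
  have k2 := key j hj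
  have k3 := key c hc'
  rw [e3] at hk
  rcases k with _ | _ | k
  · omega
  · omega
  · have : 2 * (8 * P - 1) ≤ (8 * P - 1) * (k + 1 + 1) := by
      rw [mul_comm]
      exact Nat.mul_le_mul_left _ (by omega)
    omega

/-- weights `L2 × L2 → L0` (all scalars). -/
theorem weight_same0 {n i j : ℕ} (hn : 3 ≤ n) (hi : i < n) (hj : j < n)
    (h : 1 * 2 ^ i + 1 * 2 ^ j ≡ 0 [MOD 2 ^ n - 1]) : False := by
  obtain ⟨k, hk⟩ := (Nat.modEq_zero_iff_dvd.mp h)
  obtain ⟨P, hP, hP2⟩ : ∃ P : ℕ, 2 ^ (n - 2) = P ∧ 2 ≤ P := by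
    refine ⟨_, rfl, ?_⟩
    calc 2 = 2 ^ 1 := by norm_num
      _ ≤ 2 ^ (n - 2) := Nat.pow_le_pow_right (by norm_num) (by omega)
  have e3 : 2 ^ n = 4 * P := by
    rw [← hP, show n = (n - 2) + 2 by omega, _root_.pow_add]; norm_num; ring
  have key : ∀ e : ℕ, e < n → 2 ^ e = 2 * P ∨ (1 ≤ 2 ^ e ∧ 2 ^ e ≤ P) := by
    intro e he
    rcases Nat.lt_or_ge e (n - 1) with h4 | h4
    · right
      refine ⟨Nat.one_le_two_pow, ?_⟩
      rw [← hP]
      exact Nat.pow_le_pow_right (by norm_num) (by omega)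
    · left
      have : e = (n - 2) + 1 := by omega
      rw [this, ← hP, pow_succ]; ring
  have k1 := key i hi
  have k2 := key j hj
  rw [e3] at hk
  rcases k with _ | _ | k
  · omega
  · omega
  · have : 2 * (4 * P - 1) ≤ (4 * P - 1) * (k + 1 + 1) := by
      rw [mul_comm]
      exact Nat.mul_le_mul_left _ (by omega)
    omega

/-- weights `L2 → L1`. -/
theorem weight_21 {m i : ℕ} (hm : 1 ≤ m) (hi : i < 2 * m + 1)
    (h : (1 + 2 ^ (m + 1)) * 2 ^ i ≡ 1 [MOD 2 ^ (2 * m + 1) - 1]) : False := by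
  set N := 2 ^ (2 * m + 1) - 1 with hN
  have hz : (2 : ZMod N) ^ (m + 1) * 2 ^ (m + 1) = 2 := by
    have := (ZMod.natCast_eq_natCast_iff _ _ _).mpr (theta_sq (m := m))
    push_cast at this
    exact this
  have h1 : (1 + 2 ^ (m + 1)) * (2 : ZMod N) ^ i = 1 := by
    have := (ZMod.natCast_eq_natCast_iff _ _ _).mpr h
    push_cast at this
    exact this
  have h2 : (2 : ZMod N) ^ i + 1 = 2 ^ (m + 1) := by
    have e := congrArg (fun x => (2 ^ (m + 1) - 1) * x) h1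
    have e2 : (2 : ZMod N) ^ i + 1 - 2 ^ (m + 1) =
        (2 ^ (m + 1) - 1) * ((1 + 2 ^ (m + 1)) * 2 ^ i) - (2 ^ (m + 1) - 1) * 1 -
          (2 ^ (m + 1) * 2 ^ (m + 1) - 2) * 2 ^ i := by ring
    rw [e, hz] at e2
    rw [← sub_eq_zero, e2]
    ring
  have h3 : 2 ^ i + 2 ^ 0 ≡ 2 ^ m + 2 ^ m [MOD N] := by
    have e : 2 ^ m + 2 ^ m = 2 ^ (m + 1) := by rw [pow_succ]; ring
    rw [e, ← ZMod.natCast_eq_natCast_iff]
    push_cast
    rw [h2]
  have := two_pow_add_inj (n := 2 * m + 1) (by omega) hi (by omega) (by omega) (by omega) h3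
  omega

/-- weights `L1 → L2`. -/
theorem weight_12 {m i : ℕ} (hm : 1 ≤ m) (hi : i < 2 * m + 1)
    (h : 1 * 2 ^ i ≡ 1 + 2 ^ (m + 1) [MOD 2 ^ (2 * m + 1) - 1]) : False := by
  have h1 : 2 ^ ((i + 2 * m) % (2 * m + 1)) + 2 ^ ((i + 2 * m) % (2 * m + 1)) ≡ 2 ^ 0 + 2 ^ (m + 1)
      [MOD 2 ^ (2 * m + 1) - 1] := by
    have e1 := pow_reduce (n := 2 * m + 1) (by omega) (i + 2 * m)
    have e2 := pow_reduce (n := 2 * m + 1) (by omega) (i + (2 * m + 1))
    rw [Nat.add_mod_right, Nat.mod_eq_of_lt hi] at e2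
    have e3 : 2 ^ (i + 2 * m) + 2 ^ (i + 2 * m) = 2 ^ (i + (2 * m + 1)) := by
      rw [← two_mul, ← pow_succ']; congr 1
    rw [pow_zero]
    refine (e1.symm.add e1.symm).trans ?_
    rw [e3]
    refine e2.trans ?_
    rw [one_mul] at h
    exact h
  have := two_pow_add_inj (n := 2 * m + 1) (by omega) (Nat.mod_lt _ (by omega))
    (Nat.mod_lt _ (by omega)) (by omega) (by omega) h1
  omega

variable {F : Type*} [Field F] [Fintype F]

/-- no pairings `L1 × L2 → L0`. -/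
theorem pairing_120 {m : ℕ} (hm : 2 ≤ m) (hF : Fintype.card F = 2 ^ (2 * m + 1))
    (f : F → F → F) (h1 : ∀ x x' y, f (x + x') y = f x y + f x' y)
    (h2 : ∀ x y y', f x (y + y') = f x y + f x y')
    (h : ∀ l x y : F, l ≠ 0 → f (l * x) (l ^ (1 + 2 ^ (m + 1)) * y) = f x y) (x y : F) :
    f x y = 0 := by
  obtain ⟨c, hc⟩ := exists_coeff₂ hF (by omega) f h1 h2
  have hz : ∀ i j : Fin (2 * m + 1), c i j = 0 := by
    intro i j
    apply coeff₂_eq_zero_of_equivariant hF (by omega) c 1 (1 + 2 ^ (m + 1)) 0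
    · intro μ x y hμ
      rw [← hc, ← hc, pow_one, pow_zero, one_mul]
      exact h μ x y hμ
    · intro hw
      exact weight_120 hm i.2 j.2 hw
  rw [hc]
  simp [hz]

/-- no pairings `X × X → L0`, all scalars. -/
theorem pairing_same0 {n : ℕ} (hn : 3 ≤ n) (hF : Fintype.card F = 2 ^ n)
    (f : F → F → F) (h1 : ∀ x x' y, f (x + x') y = f x y + f x' y)
    (h2 : ∀ x y y', f x (y + y') = f x y + f x y')
    (h : ∀ l x y : F, l ≠ 0 → f (l * x) (l * y) = f x y) (x y : F) : f x y = 0 := by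
  obtain ⟨c, hc⟩ := exists_coeff₂ hF (by omega) f h1 h2
  have hz : ∀ i j : Fin n, c i j = 0 := by
    intro i j
    apply coeff₂_eq_zero_of_equivariant hF (by omega) c 1 1 0
    · intro μ x y hμ
      rw [← hc, ← hc, pow_one, pow_zero, one_mul]
      exact h μ x y hμ
    · intro hw
      exact weight_same0 hn i.2 j.2 hw
  rw [hc]
  simp [hz]

/-- no additive maps `L2 → L1`. -/
theorem map_21 {m : ℕ} (hm : 1 ≤ m) (hF : Fintype.card F = 2 ^ (2 * m + 1))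
    (f : F → F) (h1 : ∀ x y, f (x + y) = f x + f y)
    (h : ∀ l x : F, l ≠ 0 → f (l ^ (1 + 2 ^ (m + 1)) * x) = l * f x) (x : F) : f x = 0 := by
  obtain ⟨c, hc⟩ := exists_coeff hF (by omega) f h1
  have hz : ∀ i : Fin (2 * m + 1), c i = 0 := by
    intro i
    apply coeff_eq_zero_of_equivariant hF (by omega) c (1 + 2 ^ (m + 1)) 1
    · intro μ x hμ
      rw [← hc, ← hc, pow_one]
      exact h μ x hμ
    · intro hw
      exact weight_21 hm i.2 hw
  rw [hc]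
  simp [hz]

/-- no additive maps `L1 → L2`. -/
theorem map_12 {m : ℕ} (hm : 1 ≤ m) (hF : Fintype.card F = 2 ^ (2 * m + 1))
    (f : F → F) (h1 : ∀ x y, f (x + y) = f x + f y)
    (h : ∀ l x : F, l ≠ 0 → f (l * x) = l ^ (1 + 2 ^ (m + 1)) * f x) (x : F) : f x = 0 := by
  obtain ⟨c, hc⟩ := exists_coeff hF (by omega) f h1
  have hz : ∀ i : Fin (2 * m + 1), c i = 0 := by
    intro i
    apply coeff_eq_zero_of_equivariant hF (by omega) c 1 (1 + 2 ^ (m + 1))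
    · intro μ x hμ
      rw [← hc, ← hc, pow_one]
      exact h μ x hμ
    · intro hw
      exact weight_12 hm i.2 hw
  rw [hc]
  simp [hz]

/-- no additive maps `L2 → L0`. -/
theorem map_20 (hF : 2 < Fintype.card F) (f : F → F) (h1 : ∀ x y, f (x + y) = f x + f y)
    (h : ∀ l x : F, l ≠ 0 → f (l * x) = f x) (x : F) : f x = 0 := by
  classical
  obtain ⟨l, hl⟩ : ∃ l : F, l ∉ ({0, 1} : Finset F) := by
    by_contra hcon
    push Not at hcon
    have h3 : (Finset.univ : Finset F) ⊆ {0, 1} := fun x _ => hcon x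
    have h4 := Finset.card_le_card h3
    rw [Finset.card_univ] at h4
    have h5 : ({0, 1} : Finset F).card ≤ 2 := Finset.card_le_two
    omega
  simp only [Finset.mem_insert, Finset.mem_singleton, not_or] at hl
  have hne : l - 1 ≠ 0 := sub_ne_zero.mpr hl.2
  have h0 : f 0 = 0 := by
    have := h1 0 0
    rw [add_zero] at this
    exact add_eq_left.mp this.symm
  have hneg : ∀ y, f (-y) = -f y := by
    intro y
    have := h1 y (-y)
    rw [add_neg_cancel, h0] at this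
    exact (neg_eq_of_add_eq_zero_right this.symm).symm
  have h2 : f ((l - 1) * ((l - 1)⁻¹ * x)) = 0 := by
    rw [sub_mul, one_mul, sub_eq_add_neg, h1, hneg, h l _ hl.1]
    exact add_neg_cancel _
  rwa [← mul_assoc, mul_inv_cancel₀ hne, one_mul] at h2

end Cfsg.Agent.OddHalf.D4.Sz.Weights

end

-- merged: Cfsg.Agent.OddHalf.D4.Sz.Pre
section

/-!
# ODD, D4, `K = Sz(q)`, `q ≥ 32`: the group `T₁`

`Pre`: `p a b` a Sylow 2-subgroup of `K`, `Q` elementary abelian commuting with it, `T` a 2-group containing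
`P = Q × {p a b}`, centralizing `Z = {p 0 b}`, acting on `Q Z` by the translations `r ↦ r * p 0 (c * f r)`, with
kernel `P`, and a torus `h l`.  Then `T / Z` is elementary abelian.
-/

set_option autoImplicit false
set_option linter.unusedSectionVars false

namespace Cfsg.Agent.OddHalf.D4.Sz

open Cfsg.Agent.StdSz.EquivMaps Cfsg.Agent.StdSz.SzMaps

/-- the configuration -/
structure Pre (G : Type*) [Group G] (F : Type*) [Field F] [Fintype F] (m : ℕ) where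
  hm : 2 ≤ m
  hF : Fintype.card F = 2 ^ (2 * m + 1)
  p : F → F → G
  p_mul : ∀ a b c d : F, p a b * p c d = p (a + c) (b + d + a ^ (2 ^ (m + 1)) * c)
  p_inj : ∀ a b c d : F, p a b = p c d → a = c ∧ b = d
  h : Fˣ → G
  h_p : ∀ (l : Fˣ) (a b : F), h l * p a b * (h l)⁻¹ = p (l * a) ((l : F) ^ (1 + 2 ^ (m + 1)) * b)
  Q : Subgroup G
  Q_sq : ∀ r ∈ Q, r * r = 1
  Q_p : ∀ r ∈ Q, ∀ a b, r * p a b = p a b * r
  Q_inf : ∀ a b, p a b ∈ Q → p a b = 1
  Q_ne : ∃ r ∈ Q, r ≠ 1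
  f : G → F
  f_mul : ∀ r ∈ Q, ∀ s ∈ Q, f (r * s) = f r + f s
  f_inj : ∀ r ∈ Q, f r = 0 → r = 1
  T : Subgroup G
  T_two : IsPGroup 2 T
  T_Q : Q ≤ T
  T_p : ∀ a b, p a b ∈ T
  h_T : ∀ l, ∀ x ∈ T, h l * x * (h l)⁻¹ ∈ T
  h_mul : ∀ k l, ∀ x ∈ T, h (k * l) * x * (h (k * l))⁻¹ = h k * (h l * x * (h l)⁻¹) * (h k)⁻¹
  h_Q : ∀ l, ∀ r ∈ Q, h l * r = r * h l
  act : G → F
  T_act : ∀ x ∈ T, ∀ r ∈ Q, x * r * x⁻¹ = r * p 0 (act x * f r)
  T_Z : ∀ x ∈ T, ∀ b, x * p 0 b = p 0 b * x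
  T_surj : ∀ c, ∃ x ∈ T, act x = c
  T_ker : ∀ x ∈ T, act x = 0 → ∃ r ∈ Q, ∃ a b, x = r * p a b

namespace Pre

variable {G : Type*} [Group G] {F : Type*} [Field F] [Fintype F] [CharP F 2] {m : ℕ} (P : Pre G F m)

omit [CharP F 2] in
theorem p_zero : P.p 0 0 = 1 := by
  have h1 := P.p_mul 0 0 0 0
  simp only [add_zero, mul_zero] at h1
  exact mul_eq_left.mp h1

omit [CharP F 2] in
theorem zpos : (2 ^ (m + 1) : ℕ) ≠ 0 := by positivity

omit [CharP F 2] in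
theorem z_mul (b d : F) : P.p 0 b * P.p 0 d = P.p 0 (b + d) := by
  rw [P.p_mul, mul_zero, add_zero, add_zero]

theorem z_self (b : F) : P.p 0 b * P.p 0 b = 1 := by
  rw [P.z_mul, CharTwo.add_self_eq_zero, P.p_zero]

theorem z_inv (b : F) : (P.p 0 b)⁻¹ = P.p 0 b := inv_eq_of_mul_eq_one_left (P.z_self b)

omit [CharP F 2] in
theorem z_inj {b d : F} (h : P.p 0 b = P.p 0 d) : b = d := (P.p_inj _ _ _ _ h).2

omit [CharP F 2] in
theorem z_mul_p (b c d : F) : P.p 0 b * P.p c d = P.p c (b + d) := by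
  rw [P.p_mul, zero_add, zero_pow zpos, zero_mul, add_zero]

omit [CharP F 2] in
theorem p_mul_z (b c d : F) : P.p c d * P.p 0 b = P.p c (b + d) := by
  rw [P.p_mul, add_zero, mul_zero, add_zero, add_comm b d]

theorem p_sq (a b : F) : P.p a b * P.p a b = P.p 0 (a ^ (1 + 2 ^ (m + 1))) := by
  rw [P.p_mul, CharTwo.add_self_eq_zero, CharTwo.add_self_eq_zero, zero_add,
    _root_.pow_add a 1 (2 ^ (m + 1)), pow_one, mul_comm]

theorem p_inv (a b : F) : (P.p a b)⁻¹ = P.p a (b + a ^ (1 + 2 ^ (m + 1))) := by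
  apply inv_eq_of_mul_eq_one_right
  rw [P.p_mul, CharTwo.add_self_eq_zero, ← P.p_zero]
  congr 1
  rw [_root_.pow_add a 1 (2 ^ (m + 1)), pow_one]
  have : b + (b + a * a ^ (2 ^ (m + 1))) + a ^ (2 ^ (m + 1)) * a =
      (b + b) + (a * a ^ (2 ^ (m + 1)) + a * a ^ (2 ^ (m + 1))) := by ring
  rw [this, CharTwo.add_self_eq_zero, CharTwo.add_self_eq_zero, add_zero]

omit [CharP F 2] in
theorem Q_inv {r : G} (hr : r ∈ P.Q) : r⁻¹ = r := inv_eq_of_mul_eq_one_left (P.Q_sq r hr)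

omit [CharP F 2] in
theorem f_one : P.f 1 = 0 := by
  have := P.f_mul 1 (one_mem _) 1 (one_mem _)
  rw [mul_one] at this
  exact add_eq_left.mp this.symm

omit [CharP F 2] in
theorem Q_comm {r s : G} (hr : r ∈ P.Q) (hs : s ∈ P.Q) : r * s = s * r := by
  have h1 := P.Q_sq _ (mul_mem hr hs)
  have h2 := P.Q_sq r hr
  have h3 := P.Q_sq s hs
  calc r * s = r * (r * s * (r * s)) * s := by rw [h1, mul_one]
    _ = (r * r) * (s * r) * (s * s) := by group
    _ = s * r := by rw [h2, h3, one_mul, mul_one]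

/-- uniqueness of the decomposition in `P`. -/
theorem uniq {r s : G} (hr : r ∈ P.Q) (hs : s ∈ P.Q) {a b c d : F} (h : r * P.p a b = s * P.p c d) :
    r = s ∧ a = c ∧ b = d := by
  have h1 : s⁻¹ * r = P.p c d * (P.p a b)⁻¹ := by
    rw [eq_mul_inv_iff_mul_eq, mul_assoc, h, inv_mul_cancel_left]
  have h2 : P.p c d * (P.p a b)⁻¹ ∈ P.Q := by rw [← h1]; exact mul_mem (inv_mem hs) hr
  rw [P.p_inv, P.p_mul] at h2 h1
  have h3 := P.Q_inf _ _ h2
  rw [h3, inv_mul_eq_one] at h1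
  subst h1
  obtain ⟨h4, h5⟩ := P.p_inj _ _ _ _ (mul_left_cancel h)
  exact ⟨rfl, h4, h5⟩

/-! ### the hom `act` -/

theorem act_eq {x : G} (hx : x ∈ P.T) {c : F} (h : ∀ r ∈ P.Q, x * r * x⁻¹ = r * P.p 0 (c * P.f r)) :
    P.act x = c := by
  obtain ⟨r, hr, hr1⟩ := P.Q_ne
  have h1 := P.T_act x hx r hr
  rw [h r hr] at h1
  have h2 := P.z_inj (mul_left_cancel h1)
  have h3 : P.f r ≠ 0 := fun h0 => hr1 (P.f_inj r hr h0)
  exact (mul_right_cancel₀ h3 h2).symm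

theorem act_mul {x y : G} (hx : x ∈ P.T) (hy : y ∈ P.T) : P.act (x * y) = P.act x + P.act y := by
  apply P.act_eq (mul_mem hx hy)
  intro r hr
  calc x * y * r * (x * y)⁻¹ = x * (y * r * y⁻¹) * x⁻¹ := by group
    _ = x * (r * P.p 0 (P.act y * P.f r)) * x⁻¹ := by rw [P.T_act y hy r hr]
    _ = (x * r * x⁻¹) * (x * P.p 0 (P.act y * P.f r) * x⁻¹) := by group
    _ = (r * P.p 0 (P.act x * P.f r)) * P.p 0 (P.act y * P.f r) := by
      rw [P.T_act x hx r hr, P.T_Z x hx, mul_inv_cancel_right]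
    _ = r * P.p 0 ((P.act x + P.act y) * P.f r) := by rw [mul_assoc, P.z_mul, add_mul]

theorem act_one : P.act 1 = 0 := by
  have := P.act_mul (one_mem P.T) (one_mem P.T)
  rw [mul_one] at this
  exact add_eq_left.mp this.symm

theorem act_inv {x : G} (hx : x ∈ P.T) : P.act x⁻¹ = P.act x := by
  have h1 := P.act_mul (inv_mem hx) hx
  rw [inv_mul_cancel, P.act_one] at h1
  have h2 : P.act x⁻¹ = -P.act x := eq_neg_of_add_eq_zero_left h1.symm
  rw [h2, CharTwo.neg_eq]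

theorem act_h (l : Fˣ) {x : G} (hx : x ∈ P.T) :
    P.act (P.h l * x * (P.h l)⁻¹) = (l : F) ^ (1 + 2 ^ (m + 1)) * P.act x := by
  apply P.act_eq (P.h_T l x hx)
  intro r hr
  have h1 : (P.h l)⁻¹ * r * P.h l = r := by rw [mul_assoc, ← P.h_Q l r hr, inv_mul_cancel_left]
  have h2 : P.h l * r * (P.h l)⁻¹ = r := by rw [P.h_Q l r hr, mul_inv_cancel_right]
  calc P.h l * x * (P.h l)⁻¹ * r * (P.h l * x * (P.h l)⁻¹)⁻¹
      = P.h l * (x * ((P.h l)⁻¹ * r * P.h l) * x⁻¹) * (P.h l)⁻¹ := by group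
    _ = P.h l * (r * P.p 0 (P.act x * P.f r)) * (P.h l)⁻¹ := by rw [h1, P.T_act x hx r hr]
    _ = (P.h l * r * (P.h l)⁻¹) * (P.h l * P.p 0 (P.act x * P.f r) * (P.h l)⁻¹) := by group
    _ = _ := by rw [h2, P.h_p, mul_zero, mul_assoc]

/-! ### the subgroup `P` -/

/-- the subgroup `P = Q × {p a b}` -/
def PP : Subgroup G where
  carrier := {x | x ∈ P.T ∧ P.act x = 0}
  one_mem' := ⟨one_mem _, P.act_one⟩
  mul_mem' := by
    rintro x y ⟨hx, hx2⟩ ⟨hy, hy2⟩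
    exact ⟨mul_mem hx hy, by rw [P.act_mul hx hy, hx2, hy2, add_zero]⟩
  inv_mem' := by
    rintro x ⟨hx, hx2⟩
    exact ⟨inv_mem hx, by rw [P.act_inv hx, hx2]⟩

theorem mem_PP {x : G} : x ∈ P.PP ↔ x ∈ P.T ∧ P.act x = 0 := Iff.rfl

theorem PP_le : P.PP ≤ P.T := fun _ h => h.1

theorem Q_le : P.Q ≤ P.PP := by
  intro r hr
  refine ⟨P.T_Q hr, P.act_eq (P.T_Q hr) fun s hs => ?_⟩
  rw [zero_mul, P.p_zero, mul_one, P.Q_comm hr hs, mul_inv_cancel_right]

theorem p_mem (a b : F) : P.p a b ∈ P.PP := by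
  refine ⟨P.T_p a b, P.act_eq (P.T_p a b) fun s hs => ?_⟩
  rw [zero_mul, P.p_zero, mul_one, ← P.Q_p s hs, mul_inv_cancel_right]

theorem exists_of_mem {x : G} (hx : x ∈ P.PP) : ∃ r ∈ P.Q, ∃ a b, x = r * P.p a b :=
  P.T_ker x hx.1 hx.2

theorem rp_mem {r : G} (hr : r ∈ P.Q) (a b : F) : r * P.p a b ∈ P.PP := mul_mem (P.Q_le hr) (P.p_mem a b)

theorem PP_conj {x y : G} (hx : x ∈ P.T) (hy : y ∈ P.PP) : x * y * x⁻¹ ∈ P.PP := by
  refine ⟨mul_mem (mul_mem hx hy.1) (inv_mem hx), ?_⟩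
  rw [P.act_mul (mul_mem hx hy.1) (inv_mem hx), P.act_mul hx hy.1, P.act_inv hx, hy.2, add_zero,
    CharTwo.add_self_eq_zero]

theorem PP_comm {x y : G} (hx : x ∈ P.T) (hy : y ∈ P.T) : x * y * x⁻¹ * y⁻¹ ∈ P.PP := by
  refine ⟨mul_mem (mul_mem (mul_mem hx hy) (inv_mem hx)) (inv_mem hy), ?_⟩
  rw [P.act_mul (mul_mem (mul_mem hx hy) (inv_mem hx)) (inv_mem hy),
    P.act_mul (mul_mem hx hy) (inv_mem hx), P.act_mul hx hy, P.act_inv hx, P.act_inv hy]
  have : P.act x + P.act y + P.act x + P.act y = (P.act x + P.act x) + (P.act y + P.act y) := by ring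
  rw [this, CharTwo.add_self_eq_zero, CharTwo.add_self_eq_zero, add_zero]

theorem PP_sq {x : G} (hx : x ∈ P.T) : x * x ∈ P.PP :=
  ⟨mul_mem hx hx, by rw [P.act_mul hx hx, CharTwo.add_self_eq_zero]⟩

theorem PP_h (l : Fˣ) {x : G} (hx : x ∈ P.PP) : P.h l * x * (P.h l)⁻¹ ∈ P.PP :=
  ⟨P.h_T l x hx.1, by rw [P.act_h l hx.1, hx.2, mul_zero]⟩

/-- the `Q`-part -/
noncomputable def qP (x : G) : G := by
  classical exact if h : x ∈ P.PP then (P.exists_of_mem h).choose else 1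

/-- the `A`-coordinate -/
noncomputable def aP (x : G) : F := by
  classical exact if h : x ∈ P.PP then (P.exists_of_mem h).choose_spec.2.choose else 0

/-- the `Q`-coordinate -/
noncomputable def fP (x : G) : F := P.f (P.qP x)

theorem qP_spec {x : G} (hx : x ∈ P.PP) : P.qP x ∈ P.Q ∧ ∃ b, x = P.qP x * P.p (P.aP x) b := by
  classical
  have h1 : P.qP x = (P.exists_of_mem hx).choose := by unfold qP; exact dif_pos hx
  have h2 : P.aP x = (P.exists_of_mem hx).choose_spec.2.choose := by unfold aP; exact dif_pos hx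
  rw [h1, h2]
  exact ⟨(P.exists_of_mem hx).choose_spec.1, (P.exists_of_mem hx).choose_spec.2.choose_spec⟩

theorem qP_rp {r : G} (hr : r ∈ P.Q) (a b : F) : P.qP (r * P.p a b) = r := by
  obtain ⟨h1, d, h2⟩ := P.qP_spec (P.rp_mem hr a b)
  exact (P.uniq hr h1 h2).1.symm

theorem aP_rp {r : G} (hr : r ∈ P.Q) (a b : F) : P.aP (r * P.p a b) = a := by
  obtain ⟨h1, d, h2⟩ := P.qP_spec (P.rp_mem hr a b)
  exact (P.uniq hr h1 h2).2.1.symm

theorem fP_rp {r : G} (hr : r ∈ P.Q) (a b : F) : P.fP (r * P.p a b) = P.f r := by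
  unfold fP
  rw [P.qP_rp hr]

theorem aP_p (a b : F) : P.aP (P.p a b) = a := by
  have := P.aP_rp (one_mem _) a b
  rwa [one_mul] at this

theorem fP_p (a b : F) : P.fP (P.p a b) = 0 := by
  have := P.fP_rp (one_mem _) a b
  rwa [one_mul, P.f_one] at this

theorem aP_Q {r : G} (hr : r ∈ P.Q) : P.aP r = 0 := by
  have := P.aP_rp hr 0 0
  rwa [P.p_zero, mul_one] at this

theorem fP_Q {r : G} (hr : r ∈ P.Q) : P.fP r = P.f r := by
  have := P.fP_rp hr 0 0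
  rwa [P.p_zero, mul_one] at this

omit [CharP F 2] in
theorem rp_mul {r s : G} (_ : r ∈ P.Q) (hs : s ∈ P.Q) (a b c d : F) :
    (r * P.p a b) * (s * P.p c d) = (r * s) * P.p (a + c) (b + d + a ^ (2 ^ (m + 1)) * c) := by
  rw [← P.p_mul]
  calc r * P.p a b * (s * P.p c d) = r * (P.p a b * s) * P.p c d := by group
    _ = r * (s * P.p a b) * P.p c d := by rw [P.Q_p s hs]
    _ = _ := by group

theorem aP_mul {x y : G} (hx : x ∈ P.PP) (hy : y ∈ P.PP) : P.aP (x * y) = P.aP x + P.aP y := by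
  obtain ⟨r, hr, a, b, rfl⟩ := P.exists_of_mem hx
  obtain ⟨s, hs, c, d, rfl⟩ := P.exists_of_mem hy
  rw [P.rp_mul hr hs, P.aP_rp (mul_mem hr hs), P.aP_rp hr, P.aP_rp hs]

theorem fP_mul {x y : G} (hx : x ∈ P.PP) (hy : y ∈ P.PP) : P.fP (x * y) = P.fP x + P.fP y := by
  obtain ⟨r, hr, a, b, rfl⟩ := P.exists_of_mem hx
  obtain ⟨s, hs, c, d, rfl⟩ := P.exists_of_mem hy
  rw [P.rp_mul hr hs, P.fP_rp (mul_mem hr hs), P.fP_rp hr, P.fP_rp hs, P.f_mul r hr s hs]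

theorem aP_h (l : Fˣ) {x : G} (hx : x ∈ P.PP) : P.aP (P.h l * x * (P.h l)⁻¹) = l * P.aP x := by
  obtain ⟨r, hr, a, b, rfl⟩ := P.exists_of_mem hx
  have h2 : P.h l * r * (P.h l)⁻¹ = r := by rw [P.h_Q l r hr, mul_inv_cancel_right]
  have : P.h l * (r * P.p a b) * (P.h l)⁻¹ = r * (P.h l * P.p a b * (P.h l)⁻¹) := by
    calc P.h l * (r * P.p a b) * (P.h l)⁻¹ = (P.h l * r * (P.h l)⁻¹) * (P.h l * P.p a b * (P.h l)⁻¹) := by group
      _ = _ := by rw [h2]
  rw [this, P.h_p, P.aP_rp hr, P.aP_rp hr]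

theorem fP_h (l : Fˣ) {x : G} (hx : x ∈ P.PP) : P.fP (P.h l * x * (P.h l)⁻¹) = P.fP x := by
  obtain ⟨r, hr, a, b, rfl⟩ := P.exists_of_mem hx
  have h2 : P.h l * r * (P.h l)⁻¹ = r := by rw [P.h_Q l r hr, mul_inv_cancel_right]
  have : P.h l * (r * P.p a b) * (P.h l)⁻¹ = r * (P.h l * P.p a b * (P.h l)⁻¹) := by
    calc P.h l * (r * P.p a b) * (P.h l)⁻¹ = (P.h l * r * (P.h l)⁻¹) * (P.h l * P.p a b * (P.h l)⁻¹) := by group
      _ = _ := by rw [h2]
  rw [this, P.h_p, P.fP_rp hr, P.fP_rp hr]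

theorem eq_z {x : G} (hx : x ∈ P.PP) (h1 : P.aP x = 0) (h2 : P.fP x = 0) : ∃ b, x = P.p 0 b := by
  obtain ⟨h3, b, h4⟩ := P.qP_spec hx
  rw [h1, P.f_inj _ h3 h2, one_mul] at h4
  exact ⟨b, h4⟩

/-! ### Step 1 : `[P, T] ≤ Q Z` -/

theorem aP_conj_aux {x y : G} (hx : x ∈ P.T) (hy : y ∈ P.PP) :
    P.aP (x * y * x⁻¹) = P.aP (x * P.p (P.aP y) 0 * x⁻¹) := by
  obtain ⟨r, hr, a, b, rfl⟩ := P.exists_of_mem hy
  rw [P.aP_rp hr]
  have h1 : r * P.p a b = (r * P.p 0 b) * P.p a 0 := by rw [mul_assoc, P.z_mul_p, add_zero]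
  have h2 : x * (r * P.p a b) * x⁻¹ = (x * r * x⁻¹) * (x * P.p 0 b * x⁻¹) * (x * P.p a 0 * x⁻¹) := by
    rw [h1]; group
  have h3 : x * P.p 0 b * x⁻¹ = P.p 0 b := by rw [P.T_Z x hx, mul_inv_cancel_right]
  rw [h2, P.T_act x hx r hr, h3, mul_assoc r, P.z_mul,
    P.aP_mul (P.rp_mem hr _ _) (P.PP_conj hx (P.p_mem a 0)), P.aP_rp hr, zero_add]

variable [Finite G]

theorem aP_conj {x y : G} (hx : x ∈ P.T) (hy : y ∈ P.PP) : P.aP (x * y * x⁻¹) = P.aP y := by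
  classical
  have h00 : ∀ x ∈ P.T, P.aP (x * P.p 0 0 * x⁻¹) = 0 := by
    intro x hx
    rw [P.p_zero, mul_one, mul_inv_cancel, ← P.p_zero, P.aP_p]
  let ac : MulAction P.T F :=
    { smul := fun x a => P.aP ((x : G) * P.p a 0 * (x : G)⁻¹)
      one_smul := by
        intro a
        show P.aP ((1 : G) * P.p a 0 * (1 : G)⁻¹) = a
        rw [one_mul, inv_one, mul_one, P.aP_p]
      mul_smul := by
        intro x y a
        show P.aP (((x : G) * (y : G)) * P.p a 0 * ((x : G) * (y : G))⁻¹) =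
          P.aP ((x : G) * P.p (P.aP ((y : G) * P.p a 0 * (y : G)⁻¹)) 0 * (x : G)⁻¹)
        rw [← P.aP_conj_aux x.2 (P.PP_conj y.2 (P.p_mem a 0))]
        congr 1
        group }
  have hsm : ∀ (x : P.T) (a : F), x • a = P.aP ((x : G) * P.p a 0 * (x : G)⁻¹) := fun _ _ => rfl
  have : Fact (Nat.Prime 2) := ⟨Nat.prime_two⟩
  have h1 := P.T_two.card_modEq_card_fixedPoints F
  have hex : ∃ a : F, a ≠ 0 ∧ ∀ x : P.T, x • a = a := by
    by_contra hcon
    push Not at hcon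
    have h2 : MulAction.fixedPoints P.T F = {0} := by
      ext a
      rw [MulAction.mem_fixedPoints, Set.mem_singleton_iff]
      constructor
      · intro h
        by_contra ha
        obtain ⟨x, hx⟩ := hcon a ha
        exact hx (h x)
      · rintro rfl x
        rw [hsm]
        exact h00 x x.2
    rw [h2] at h1
    have h3 : Nat.card ({0} : Set F) = 1 := by simp
    rw [h3, Nat.card_eq_fintype_card, P.hF] at h1
    have h4 : 2 ∣ 2 ^ (2 * m + 1) := dvd_pow_self 2 (by omega)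
    have h5 : 2 ^ (2 * m + 1) % 2 = 1 % 2 := h1
    omega
  obtain ⟨a0, ha0, hfix⟩ := hex
  rw [P.aP_conj_aux hx hy]
  obtain ⟨a, ha⟩ : ∃ a, P.aP y = a := ⟨_, rfl⟩
  rw [ha]
  rcases eq_or_ne a 0 with rfl | ha'
  · exact h00 x hx
  · -- `a = l * a0`
    let l : Fˣ := Units.mk0 (a * a0⁻¹) (mul_ne_zero ha' (inv_ne_zero ha0))
    have hl : (l : F) * a0 = a := by
      show a * a0⁻¹ * a0 = a
      rw [mul_assoc, inv_mul_cancel₀ ha0, mul_one]
    -- `x' = h⁻¹ x h`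
    have h6 : P.h l⁻¹ * x * (P.h l⁻¹)⁻¹ ∈ P.T := P.h_T _ x hx
    set x' := P.h l⁻¹ * x * (P.h l⁻¹)⁻¹ with hx'
    have h7 : x = P.h l * x' * (P.h l)⁻¹ := by
      have h8 := P.h_mul l l⁻¹ x hx
      have h9 := P.h_mul 1 1 x hx
      rw [mul_inv_cancel] at h8
      rw [mul_one] at h9
      have h10 : P.h 1 * x * (P.h 1)⁻¹ = x := by
        have := mul_left_cancel (mul_right_cancel h9)
        exact this.symm
      rw [h10] at h8
      exact h8
    have h8 : x * P.p a 0 * x⁻¹ = P.h l * (x' * P.p a0 0 * x'⁻¹) * (P.h l)⁻¹ := by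
      have h9 : P.p a 0 = P.h l * P.p a0 0 * (P.h l)⁻¹ := by rw [P.h_p, hl, mul_zero]
      rw [h9]
      nth_rewrite 1 2 [h7]
      group
    rw [h8, P.aP_h l (P.PP_conj h6 (P.p_mem a0 0))]
    have h9 := hfix ⟨x', h6⟩
    rw [hsm] at h9
    rw [h9, hl]

/-! ### Step 2 : `[P, T] ≤ Z` -/

theorem fP_conj_aux {x y : G} (hx : x ∈ P.T) (hy : y ∈ P.PP) :
    P.fP (x * y * x⁻¹) = P.fP y + P.fP (x * P.p (P.aP y) 0 * x⁻¹) := by
  obtain ⟨r, hr, a, b, rfl⟩ := P.exists_of_mem hy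
  rw [P.aP_rp hr]
  have h1 : r * P.p a b = (r * P.p 0 b) * P.p a 0 := by rw [mul_assoc, P.z_mul_p, add_zero]
  have h2 : x * (r * P.p a b) * x⁻¹ = (x * r * x⁻¹) * (x * P.p 0 b * x⁻¹) * (x * P.p a 0 * x⁻¹) := by
    rw [h1]; group
  have h3 : x * P.p 0 b * x⁻¹ = P.p 0 b := by rw [P.T_Z x hx, mul_inv_cancel_right]
  rw [h2, P.T_act x hx r hr, h3, mul_assoc r, P.z_mul,
    P.fP_mul (P.rp_mem hr _ _) (P.PP_conj hx (P.p_mem a 0)), P.fP_rp hr, P.fP_rp hr]

/-- a section of `act` -/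
noncomputable def xc (c : F) : G := (P.T_surj c).choose

theorem xc_mem (c : F) : P.xc c ∈ P.T := (P.T_surj c).choose_spec.1

theorem act_xc (c : F) : P.act (P.xc c) = c := (P.T_surj c).choose_spec.2

theorem div_mem {x y : G} (hx : x ∈ P.T) (hy : y ∈ P.T) (h : P.act x = P.act y) : x⁻¹ * y ∈ P.PP :=
  ⟨mul_mem (inv_mem hx) hy, by
    rw [P.act_mul (inv_mem hx) hy, P.act_inv hx, h, CharTwo.add_self_eq_zero]⟩

theorem fP_conj {x y : G} (hx : x ∈ P.T) (hy : y ∈ P.PP) : P.fP (x * y * x⁻¹) = P.fP y := by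
  -- `ψ x a`
  let ψ : G → F → F := fun x a => P.fP (x * P.p a 0 * x⁻¹)
  have hψ : ∀ x a, ψ x a = P.fP (x * P.p a 0 * x⁻¹) := fun _ _ => rfl
  have hmul : ∀ x ∈ P.T, ∀ y ∈ P.T, ∀ a, ψ (x * y) a = ψ x a + ψ y a := by
    intro x hx y hy a
    have h1 : x * y * P.p a 0 * (x * y)⁻¹ = x * (y * P.p a 0 * y⁻¹) * x⁻¹ := by group
    rw [hψ, h1, P.fP_conj_aux hx (P.PP_conj hy (P.p_mem a 0)), P.aP_conj hy (P.p_mem a 0), P.aP_p,
      add_comm]
  have hPP : ∀ x ∈ P.PP, ∀ a, ψ x a = 0 := by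
    intro x hx a
    rw [hψ, P.fP_mul (mul_mem hx (P.p_mem a 0)) (inv_mem hx), P.fP_mul hx (P.p_mem a 0), P.fP_p, add_zero,
      ← P.fP_mul hx (inv_mem hx), mul_inv_cancel, ← P.p_zero, P.fP_p]
  have hdep : ∀ x ∈ P.T, ∀ y ∈ P.T, P.act x = P.act y → ∀ a, ψ x a = ψ y a := by
    intro x hx y hy h a
    have h1 := P.div_mem hx hy h
    have h2 := hmul x hx (x⁻¹ * y) h1.1 a
    rw [mul_inv_cancel_left, hPP _ h1, add_zero] at h2
    exact h2.symm
  have hadd : ∀ x ∈ P.T, ∀ a b, ψ x (a + b) = ψ x a + ψ x b := by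
    intro x hx a b
    have h1 : P.p (a + b) 0 = P.p 0 (a ^ (2 ^ (m + 1)) * b) * (P.p a 0 * P.p b 0) := by
      rw [P.p_mul, P.z_mul_p]
      congr 1
      rw [add_zero, zero_add, CharTwo.add_self_eq_zero]
    have h2 : x * P.p (a + b) 0 * x⁻¹ =
        P.p 0 (a ^ (2 ^ (m + 1)) * b) * ((x * P.p a 0 * x⁻¹) * (x * P.p b 0 * x⁻¹)) := by
      rw [h1]
      calc x * (P.p 0 (a ^ (2 ^ (m + 1)) * b) * (P.p a 0 * P.p b 0)) * x⁻¹
          = (x * P.p 0 (a ^ (2 ^ (m + 1)) * b)) * x⁻¹ * ((x * P.p a 0 * x⁻¹) * (x * P.p b 0 * x⁻¹)) := by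
            group
        _ = _ := by rw [P.T_Z x hx, mul_inv_cancel_right]
    have h3 := P.PP_conj hx (P.p_mem a 0)
    have h4 := P.PP_conj hx (P.p_mem b 0)
    rw [hψ, h2, P.fP_mul (P.p_mem _ _) (mul_mem h3 h4), P.fP_mul h3 h4, P.fP_p, zero_add]
  have hzero : ∀ a c, ψ (P.xc c) a = 0 := by
    apply Weights.pairing_120 P.hm P.hF (fun a c => ψ (P.xc c) a)
    · intro a a' c
      exact hadd _ (P.xc_mem c) a a'
    · intro a c c'
      show ψ (P.xc (c + c')) a = ψ (P.xc c) a + ψ (P.xc c') a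
      rw [← hmul _ (P.xc_mem c) _ (P.xc_mem c')]
      apply hdep _ (P.xc_mem _) _ (mul_mem (P.xc_mem c) (P.xc_mem c'))
      rw [P.act_xc, P.act_mul (P.xc_mem c) (P.xc_mem c'), P.act_xc, P.act_xc]
    · intro l a c hl
      show ψ (P.xc (l ^ (1 + 2 ^ (m + 1)) * c)) (l * a) = ψ (P.xc c) a
      let u : Fˣ := Units.mk0 l hl
      have h1 : ψ (P.xc (l ^ (1 + 2 ^ (m + 1)) * c)) (l * a) =
          ψ (P.h u * P.xc c * (P.h u)⁻¹) (l * a) := by
        apply hdep _ (P.xc_mem _) _ (P.h_T u _ (P.xc_mem c))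
        rw [P.act_xc, P.act_h u (P.xc_mem c), P.act_xc]
        rfl
      rw [h1, hψ, hψ, ← P.fP_h u (P.PP_conj (P.xc_mem c) (P.p_mem a 0))]
      congr 1
      have h9 : P.p (l * a) 0 = P.h u * P.p a 0 * (P.h u)⁻¹ := by rw [P.h_p, mul_zero]; rfl
      rw [h9]
      group
  rw [P.fP_conj_aux hx hy]
  have h1 : ψ x (P.aP y) = 0 := by
    rw [← hzero (P.aP y) (P.act x)]
    exact hdep x hx _ (P.xc_mem _) (P.act_xc _).symm _
  have h2 : P.fP (x * P.p (P.aP y) 0 * x⁻¹) = 0 := h1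
  rw [h2, add_zero]

/-! ### Step 3 : `T / Z` is elementary abelian -/

/-- `g` is an additive `T`-invariant function on `P`, with torus weight `w` -/
structure Inv (g : G → F) (w : F → F) : Prop where
  mul : ∀ x ∈ P.PP, ∀ y ∈ P.PP, g (x * y) = g x + g y
  conj : ∀ x ∈ P.T, ∀ y ∈ P.PP, g (x * y * x⁻¹) = g y
  tor : ∀ (l : Fˣ), ∀ y ∈ P.PP, g (P.h l * y * (P.h l)⁻¹) = w l * g y

theorem inv_aP : P.Inv P.aP (fun l => l) :=
  ⟨fun _ hx _ hy => P.aP_mul hx hy, fun _ hx _ hy => P.aP_conj hx hy, fun l _ hy => P.aP_h l hy⟩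

theorem inv_fP : P.Inv P.fP (fun _ => 1) :=
  ⟨fun _ hx _ hy => P.fP_mul hx hy, fun _ hx _ hy => P.fP_conj hx hy,
    fun l _ hy => by rw [P.fP_h l hy, one_mul]⟩

variable {P}

theorem Inv.one {g : G → F} {w : F → F} (I : P.Inv g w) : g 1 = 0 := by
  have := I.mul 1 (one_mem _) 1 (one_mem _)
  rw [mul_one] at this
  exact add_eq_left.mp this.symm

theorem Inv.inv {g : G → F} {w : F → F} (I : P.Inv g w) {x : G} (hx : x ∈ P.PP) : g x⁻¹ = g x := by
  have h1 := I.mul _ (inv_mem hx) _ hx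
  rw [inv_mul_cancel, I.one] at h1
  rw [eq_neg_of_add_eq_zero_left h1.symm, CharTwo.neg_eq]

/-- the commutator form is additive on the left -/
theorem Inv.cm_mul_left {g : G → F} {w : F → F} (I : P.Inv g w) {x x' y : G} (hx : x ∈ P.T)
    (hx' : x' ∈ P.T) (hy : y ∈ P.T) : g (x * x' * y * (x * x')⁻¹ * y⁻¹) =
      g (x * y * x⁻¹ * y⁻¹) + g (x' * y * x'⁻¹ * y⁻¹) := by
  have h1 : x * x' * y * (x * x')⁻¹ * y⁻¹ = (x * (x' * y * x'⁻¹ * y⁻¹) * x⁻¹) * (x * y * x⁻¹ * y⁻¹) := by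
    group
  have h2 := P.PP_comm hx' hy
  rw [h1, I.mul _ (P.PP_conj hx h2) _ (P.PP_comm hx hy), I.conj _ hx _ h2, add_comm]

theorem Inv.cm_symm {g : G → F} {w : F → F} (I : P.Inv g w) {x y : G} (hx : x ∈ P.T)
    (hy : y ∈ P.T) : g (y * x * y⁻¹ * x⁻¹) = g (x * y * x⁻¹ * y⁻¹) := by
  rw [← I.inv (P.PP_comm hx hy)]
  congr 1
  group

theorem Inv.cm_mul_right {g : G → F} {w : F → F} (I : P.Inv g w) {x y y' : G} (hx : x ∈ P.T)
    (hy : y ∈ P.T) (hy' : y' ∈ P.T) : g (x * (y * y') * x⁻¹ * (y * y')⁻¹) =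
      g (x * y * x⁻¹ * y⁻¹) + g (x * y' * x⁻¹ * y'⁻¹) := by
  rw [← I.cm_symm hx (mul_mem hy hy'), I.cm_mul_left hy hy' hx, I.cm_symm hx hy, I.cm_symm hx hy']

theorem Inv.cm_PP_left {g : G → F} {w : F → F} (I : P.Inv g w) {x y : G} (hx : x ∈ P.PP)
    (hy : y ∈ P.T) : g (x * y * x⁻¹ * y⁻¹) = 0 := by
  have h1 : x * y * x⁻¹ * y⁻¹ = x * (y * x⁻¹ * y⁻¹) := by group
  rw [h1, I.mul _ hx _ (P.PP_conj hy (inv_mem hx)), I.conj _ hy _ (inv_mem hx), I.inv hx,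
    CharTwo.add_self_eq_zero]

theorem Inv.cm_dep_left {g : G → F} {w : F → F} (I : P.Inv g w) {x x' y : G} (hx : x ∈ P.T)
    (hx' : x' ∈ P.T) (hy : y ∈ P.T) (h : P.act x = P.act x') :
    g (x * y * x⁻¹ * y⁻¹) = g (x' * y * x'⁻¹ * y⁻¹) := by
  have h1 := P.div_mem hx hx' h
  have h2 := I.cm_mul_left hx h1.1 hy
  rw [mul_inv_cancel_left, I.cm_PP_left h1 hy, add_zero] at h2
  exact h2.symm

theorem Inv.cm_dep {g : G → F} {w : F → F} (I : P.Inv g w) {x x' y y' : G} (hx : x ∈ P.T)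
    (hx' : x' ∈ P.T) (hy : y ∈ P.T) (hy' : y' ∈ P.T) (h : P.act x = P.act x') (h' : P.act y = P.act y') :
    g (x * y * x⁻¹ * y⁻¹) = g (x' * y' * x'⁻¹ * y'⁻¹) := by
  rw [I.cm_dep_left hx hx' hy h, ← I.cm_symm hx' hy, I.cm_dep_left hy hy' hx' h', I.cm_symm hx' hy']

/-- the squaring map is a quadratic map with this form -/
theorem Inv.sq_mul {g : G → F} {w : F → F} (I : P.Inv g w) {x y : G} (hx : x ∈ P.T)
    (hy : y ∈ P.T) : g (x * y * (x * y)) = g (x * x) + g (y * y) + g (x * y * x⁻¹ * y⁻¹) := by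
  have h1 : x * y * (x * y) = (x * (y * x * y⁻¹ * x⁻¹) * x⁻¹) * ((x * x) * (y * y)) := by group
  have h2 := P.PP_comm hy hx
  rw [h1, I.mul _ (P.PP_conj hx h2) _ (mul_mem (P.PP_sq hx) (P.PP_sq hy)),
    I.mul _ (P.PP_sq hx) _ (P.PP_sq hy), I.conj _ hx _ h2, I.cm_symm hx hy, add_comm]

/-- all the commutators are killed by `g` -/
theorem Inv.cm_zero {g : G → F} {w : F → F} (I : P.Inv g w)
    (hB : ∀ B : F → F → F, (∀ x x' y, B (x + x') y = B x y + B x' y) →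
      (∀ x y y', B x (y + y') = B x y + B x y') →
      (∀ l x y : F, l ≠ 0 → B (l ^ (1 + 2 ^ (m + 1)) * x) (l ^ (1 + 2 ^ (m + 1)) * y) = w l * B x y) →
      ∀ x y, B x y = 0) {x y : G} (hx : x ∈ P.T) (hy : y ∈ P.T) : g (x * y * x⁻¹ * y⁻¹) = 0 := by
  let B : F → F → F := fun c d => g (P.xc c * P.xc d * (P.xc c)⁻¹ * (P.xc d)⁻¹)
  have hB0 : ∀ c d, B c d = 0 := by
    apply hB B
    · intro c c' d
      show g _ = g _ + g _
      rw [← I.cm_mul_left (P.xc_mem c) (P.xc_mem c') (P.xc_mem d)]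
      apply I.cm_dep_left (P.xc_mem _) (mul_mem (P.xc_mem _) (P.xc_mem _)) (P.xc_mem _)
      rw [P.act_mul (P.xc_mem _) (P.xc_mem _), P.act_xc, P.act_xc, P.act_xc]
    · intro c d d'
      show g _ = g _ + g _
      rw [← I.cm_mul_right (P.xc_mem c) (P.xc_mem d) (P.xc_mem d')]
      apply I.cm_dep (P.xc_mem _) (P.xc_mem _) (P.xc_mem _) (mul_mem (P.xc_mem _) (P.xc_mem _)) rfl
      rw [P.act_mul (P.xc_mem _) (P.xc_mem _), P.act_xc, P.act_xc, P.act_xc]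
    · intro l c d hl
      let u : Fˣ := Units.mk0 l hl
      have h1 := I.tor u _ (P.PP_comm (P.xc_mem c) (P.xc_mem d))
      show g _ = w l * g _
      rw [show w l = w (u : F) from rfl, ← h1]
      have h2 : P.h u * (P.xc c * P.xc d * (P.xc c)⁻¹ * (P.xc d)⁻¹) * (P.h u)⁻¹ =
          (P.h u * P.xc c * (P.h u)⁻¹) * (P.h u * P.xc d * (P.h u)⁻¹) *
            (P.h u * P.xc c * (P.h u)⁻¹)⁻¹ * (P.h u * P.xc d * (P.h u)⁻¹)⁻¹ := by group
      rw [h2]
      apply I.cm_dep (P.xc_mem _) (P.h_T u _ (P.xc_mem _)) (P.xc_mem _) (P.h_T u _ (P.xc_mem _))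
      · rw [P.act_xc, P.act_h u (P.xc_mem _), P.act_xc]; rfl
      · rw [P.act_xc, P.act_h u (P.xc_mem _), P.act_xc]; rfl
  rw [← hB0 (P.act x) (P.act y)]
  exact I.cm_dep hx (P.xc_mem _) hy (P.xc_mem _) (P.act_xc _).symm (P.act_xc _).symm

/-- all the squares are killed by `g` -/
theorem Inv.sq_zero {g : G → F} {w : F → F} (I : P.Inv g w)
    (hcm : ∀ x ∈ P.T, ∀ y ∈ P.T, g (x * y * x⁻¹ * y⁻¹) = 0)
    (hs : ∀ s : F → F, (∀ x y, s (x + y) = s x + s y) →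
      (∀ l x : F, l ≠ 0 → s (l ^ (1 + 2 ^ (m + 1)) * x) = w l * s x) → ∀ x, s x = 0)
    {x : G} (hx : x ∈ P.T) : g (x * x) = 0 := by
  have hadd : ∀ x ∈ P.T, ∀ y ∈ P.T, g (x * y * (x * y)) = g (x * x) + g (y * y) := by
    intro x hx y hy
    rw [I.sq_mul hx hy, hcm x hx y hy, add_zero]
  have hPP : ∀ x ∈ P.PP, g (x * x) = 0 := by
    intro x hx
    rw [I.mul _ hx _ hx, CharTwo.add_self_eq_zero]
  have hdep : ∀ x ∈ P.T, ∀ y ∈ P.T, P.act x = P.act y → g (x * x) = g (y * y) := by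
    intro x hx y hy h
    have h1 := P.div_mem hx hy h
    have h2 := hadd x hx _ h1.1
    rw [mul_inv_cancel_left, hPP _ h1, add_zero] at h2
    exact h2.symm
  have h0 : ∀ c, g (P.xc c * P.xc c) = 0 := by
    apply hs (fun c => g (P.xc c * P.xc c))
    · intro c d
      show g _ = g _ + g _
      rw [← hadd _ (P.xc_mem c) _ (P.xc_mem d)]
      apply hdep _ (P.xc_mem _) _ (mul_mem (P.xc_mem _) (P.xc_mem _))
      rw [P.act_mul (P.xc_mem _) (P.xc_mem _), P.act_xc, P.act_xc, P.act_xc]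
    · intro l c hl
      let u : Fˣ := Units.mk0 l hl
      have h1 := I.tor u _ (P.PP_sq (P.xc_mem c))
      show g _ = w l * g _
      rw [show w l = w (u : F) from rfl, ← h1]
      have h2 : P.h u * (P.xc c * P.xc c) * (P.h u)⁻¹ =
          (P.h u * P.xc c * (P.h u)⁻¹) * (P.h u * P.xc c * (P.h u)⁻¹) := by group
      rw [h2]
      apply hdep _ (P.xc_mem _) _ (P.h_T u _ (P.xc_mem _))
      rw [P.act_xc, P.act_h u (P.xc_mem _), P.act_xc]; rfl
  rw [← h0 (P.act x)]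
  exact hdep x hx _ (P.xc_mem _) (P.act_xc _).symm

variable (P)

/-- **squares lie in `Z`** -/
theorem exists_sq {x : G} (hx : x ∈ P.T) : ∃ b, x * x = P.p 0 b := by
  have hm := P.hm
  have hF := P.hF
  apply P.eq_z (P.PP_sq hx)
  · apply P.inv_aP.sq_zero _ _ hx
    · intro x hx y hy
      refine P.inv_aP.cm_zero (fun B h1 h2 h3 => ?_) hx hy
      exact pairing_221 hm hF B h1 h2 h3
    · intro s h1 h2
      exact Weights.map_21 (by omega) hF s h1 h2
  · have key : ∀ l : F, l ≠ 0 → ∃ k : F, k ≠ 0 ∧ k ^ (1 + 2 ^ (m + 1)) = l := fun l hl =>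
      ⟨_, pow_ne_zero _ hl, norm_surj hF l⟩
    apply P.inv_fP.sq_zero _ _ hx
    · intro x hx y hy
      refine P.inv_fP.cm_zero (fun B h1 h2 h3 => ?_) hx hy
      apply Weights.pairing_same0 (by omega) hF B h1 h2
      intro l x y hl
      obtain ⟨k, hk0, hk⟩ := key l hl
      have := h3 k x y hk0
      rwa [hk, one_mul] at this
    · intro s h1 h2
      apply Weights.map_20 _ s h1
      · intro l x hl
        obtain ⟨k, hk0, hk⟩ := key l hl
        have := h2 k x hk0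
        rwa [hk, one_mul] at this
      · rw [hF]
        calc 2 < 2 ^ 2 := by norm_num
          _ ≤ 2 ^ (2 * m + 1) := Nat.pow_le_pow_right (by norm_num) (by omega)

/-- **commutators lie in `Z`** -/
theorem exists_comm {x y : G} (hx : x ∈ P.T) (hy : y ∈ P.T) : ∃ b, x * y = P.p 0 b * (y * x) := by
  obtain ⟨b1, h1⟩ := P.exists_sq hx
  obtain ⟨b2, h2⟩ := P.exists_sq hy
  obtain ⟨b3, h3⟩ := P.exists_sq (mul_mem hx hy)
  refine ⟨b1 + b2 + b3, ?_⟩
  rw [← P.z_mul, ← P.z_mul, ← h1, ← h3]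
  have h4 : y⁻¹ = P.p 0 b2 * y := by
    apply inv_eq_of_mul_eq_one_left
    rw [mul_assoc, h2, P.z_self]
  have h5 : x⁻¹ = P.p 0 b1 * x := by
    apply inv_eq_of_mul_eq_one_left
    rw [mul_assoc, h1, P.z_self]
  have hz3 := P.T_Z
  -- `x y x y = b3`, so `x y = b3 y⁻¹ x⁻¹`
  have h6 : x * y = P.p 0 b3 * (y⁻¹ * x⁻¹) := by
    rw [← h3]; group
  rw [h3, h1]
  rw [h6, h4, h5]
  have e1 : P.p 0 b2 * y * (P.p 0 b1 * x) = P.p 0 b2 * P.p 0 b1 * (y * x) := by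
    calc P.p 0 b2 * y * (P.p 0 b1 * x) = P.p 0 b2 * (y * P.p 0 b1) * x := by group
      _ = P.p 0 b2 * (P.p 0 b1 * y) * x := by rw [P.T_Z y hy]
      _ = _ := by group
  rw [e1, ← mul_assoc, ← mul_assoc, P.z_mul, P.z_mul, P.z_mul, P.z_mul, ← mul_assoc]
  congr 3
  ring

end Pre

end Cfsg.Agent.OddHalf.D4.Sz

end

-- merged: Cfsg.Agent.OddHalf.D4.Sz.Crd
section

/-!
# ODD, D4, `K = Sz(q)`, `q ≥ 32`: coordinates and the form on `T₁ / Z`

`fC, aC, act : T → F` additive, torus-equivariant of weights 0, 1, 2; kernel `Z`; values of `fC` in `f(Q)`.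
`x * x = p 0 (q x)`, `q x = aC^(1+θ) + s act + act * fC + λ (aC act)^(2^m)`.
-/

set_option autoImplicit false
set_option linter.unusedSectionVars false
set_option linter.style.haveILetI false

namespace Cfsg.Agent.OddHalf.D4.Sz

open Cfsg.Agent.StdSz.EquivMaps Cfsg.Agent.StdSz.SzMaps

/-- additive functions on a subgroup of an elementary abelian 2-group extend. -/
theorem exists_ext {A F : Type*} [Group A] [AddCommGroup F] (hF : ∀ x : F, x + x = 0)
    (hA : ∀ x : A, x * x = 1) (H : Subgroup A) (g : A → F)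
    (hg : ∀ x ∈ H, ∀ y ∈ H, g (x * y) = g x + g y) :
    ∃ g' : A → F, (∀ x y, g' (x * y) = g' x + g' y) ∧ ∀ x ∈ H, g' x = g x := by
  classical
  have hcomm : ∀ x y : A, x * y = y * x := by
    intro x y
    have h3 := hA (x * y)
    calc x * y = x * (x * y * (x * y)) * y := by rw [h3, mul_one]
      _ = (x * x) * (y * x) * (y * y) := by group
      _ = y * x := by rw [hA, hA, one_mul, mul_one]
  letI cg : CommGroup A := { (inferInstance : Group A) with mul_comm := hcomm }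
  letI : Module (ZMod 2) (Additive A) := AddCommGroup.zmodModule (n := 2) (fun x => by
    rw [two_nsmul]; exact hA x.toMul)
  letI : Module (ZMod 2) F := AddCommGroup.zmodModule (n := 2) (fun x => by
    rw [two_nsmul]; exact hF x)
  have hz : ∀ e : ZMod 2, e = 0 ∨ e = 1 := by decide
  let W : Submodule (ZMod 2) (Additive A) :=
    { carrier := {x | x.toMul ∈ H}
      add_mem' := fun {x y} hx hy => H.mul_mem hx hy
      zero_mem' := H.one_mem
      smul_mem' := by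
        intro c x hx
        rcases hz c with rfl | rfl
        · rw [zero_smul]; exact H.one_mem
        · rw [one_smul]; exact hx }
  let φ : W →+ F := AddMonoidHom.mk' (fun x => g (x : Additive A).toMul) (by
    intro x y
    exact hg _ x.2 _ y.2)
  obtain ⟨ψ, hψ⟩ := LinearMap.exists_extend (φ.toZModLinearMap 2)
  refine ⟨fun x => ψ (Additive.ofMul x), fun x y => ?_, fun x hx => ?_⟩
  · show ψ (Additive.ofMul x + Additive.ofMul y) = _
    rw [map_add]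
  · exact LinearMap.congr_fun hψ ⟨Additive.ofMul x, hx⟩

namespace Pre

variable {G : Type*} [Group G] [Finite G] {F : Type*} [Field F] [Fintype F] [CharP F 2] {m : ℕ} (P : Pre G F m)

/-- the subgroup `Z` inside `T`. -/
def Zs : Subgroup P.T where
  carrier := {g | ∃ b, (g : G) = P.p 0 b}
  one_mem' := ⟨0, by rw [P.p_zero]; rfl⟩
  mul_mem' := by
    rintro a b ⟨x, hx⟩ ⟨y, hy⟩
    exact ⟨x + y, by rw [Subgroup.coe_mul, hx, hy, P.z_mul]⟩
  inv_mem' := by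
    rintro a ⟨x, hx⟩
    exact ⟨x, by rw [Subgroup.coe_inv, hx, P.z_inv]⟩

theorem mem_Zs {g : P.T} : g ∈ P.Zs ↔ ∃ b, (g : G) = P.p 0 b := Iff.rfl

instance Zs_normal : (P.Zs).Normal := ⟨by
  rintro n ⟨b, hb⟩ g
  refine ⟨b, ?_⟩
  rw [Subgroup.coe_mul, Subgroup.coe_mul, hb, Subgroup.coe_inv, P.T_Z g g.2, mul_assoc,
    mul_inv_cancel, mul_one]⟩

theorem quot_sq (x : P.T ⧸ P.Zs) : x * x = 1 := by
  obtain ⟨g, rfl⟩ := QuotientGroup.mk_surjective x
  rw [← QuotientGroup.mk_mul, QuotientGroup.eq_one_iff]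
  exact P.exists_sq g.2

/-- an additive function on `P`, trivial on `Z`, extends to `T`. -/
theorem exists_ext_T {E : Type*} [AddCommGroup E] (hE : ∀ x : E, x + x = 0) (g : G → E)
    (hg : ∀ x ∈ P.PP, ∀ y ∈ P.PP, g (x * y) = g x + g y) (hz : ∀ b, g (P.p 0 b) = 0) :
    ∃ g' : G → E, (∀ x ∈ P.T, ∀ y ∈ P.T, g' (x * y) = g' x + g' y) ∧ ∀ x ∈ P.PP, g' x = g x := by
  classical
  let mk : P.T → P.T ⧸ P.Zs := QuotientGroup.mk
  -- `g` on the quotient
  let gq : P.T ⧸ P.Zs → E := fun y => if h : ∃ x : P.T, (x : G) ∈ P.PP ∧ mk x = y then g (h.choose : G) else 0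
  have hgq : ∀ x : P.T, (x : G) ∈ P.PP → gq (mk x) = g (x : G) := by
    intro x hx
    have h : ∃ x' : P.T, (x' : G) ∈ P.PP ∧ mk x' = mk x := ⟨x, hx, rfl⟩
    have h1 : gq (mk x) = g (h.choose : G) := dif_pos h
    rw [h1]
    obtain ⟨h2, h3⟩ := h.choose_spec
    set x' := h.choose with hx'
    have h4 : x'⁻¹ * x ∈ P.Zs := QuotientGroup.eq.mp h3
    obtain ⟨b, hb⟩ := h4
    have h5 : (x : G) = (x' : G) * P.p 0 b := by
      rw [← hb, Subgroup.coe_mul, Subgroup.coe_inv, mul_inv_cancel_left]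
    rw [h5, hg _ h2 _ (P.p_mem 0 b), hz, add_zero]
  obtain ⟨g', h1, h2⟩ := exists_ext hE P.quot_sq ((P.PP.subgroupOf P.T).map (QuotientGroup.mk' P.Zs)) gq (by
    rintro _ ⟨x, hx, rfl⟩ _ ⟨y, hy, rfl⟩
    have hx' : (x : G) ∈ P.PP := Subgroup.mem_subgroupOf.mp hx
    have hy' : (y : G) ∈ P.PP := Subgroup.mem_subgroupOf.mp hy
    rw [← map_mul]
    show gq (mk (x * y)) = gq (mk x) + gq (mk y)
    rw [hgq _ (by rw [Subgroup.coe_mul]; exact mul_mem hx' hy'), hgq _ hx', hgq _ hy', Subgroup.coe_mul,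
      hg _ hx' _ hy'])
  refine ⟨fun x => if h : x ∈ P.T then g' (mk ⟨x, h⟩) else 0, ?_, ?_⟩
  · intro x hx y hy
    simp only
    rw [dif_pos hx, dif_pos hy, dif_pos (mul_mem hx hy), ← h1]
    rfl
  · intro x hx
    simp only
    have hxT : x ∈ P.T := P.PP_le hx
    rw [dif_pos hxT]
    have h3 := h2 (QuotientGroup.mk' P.Zs ⟨x, hxT⟩)
      ⟨⟨x, hxT⟩, Subgroup.mem_subgroupOf.mpr hx, rfl⟩
    exact h3.trans (hgq ⟨x, hxT⟩ hx)

omit [Finite G] [CharP F 2] in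
/-- conjugation by the torus -/
def cj (l : Fˣ) (x : G) : G := P.h l * x * (P.h l)⁻¹

omit [Finite G] [CharP F 2] in
theorem cj_mem (l : Fˣ) {x : G} (hx : x ∈ P.T) : P.cj l x ∈ P.T := P.h_T l x hx

omit [Finite G] [CharP F 2] in
theorem cj_mul (l : Fˣ) (x y : G) : P.cj l (x * y) = P.cj l x * P.cj l y := by
  unfold cj; group

omit [Finite G] [CharP F 2] in
theorem cj_cj (l k : Fˣ) {x : G} (hx : x ∈ P.T) : P.cj l (P.cj k x) = P.cj (l * k) x :=
  (P.h_mul l k x hx).symm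

omit [CharP F 2] in
theorem card_units_F [CharP F 2] [Fintype Fˣ] : (((Fintype.card Fˣ : ℕ)) : F) = 1 := by
  classical
  have h1 : Fintype.card Fˣ = Fintype.card F - 1 := by
    have e := Nat.card_units F
    rwa [Nat.card_eq_fintype_card, Nat.card_eq_fintype_card] at e
  have h2 : 1 ≤ Fintype.card F := Fintype.card_pos
  have h3 : ((Fintype.card F : ℕ) : F) = 0 := Nat.cast_card_eq_zero F
  have h4 : ((Fintype.card Fˣ : ℕ) : F) + 1 = 0 := by
    rw [← h3, h1, Nat.cast_sub h2, Nat.cast_one, sub_add_cancel]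
  rw [eq_neg_of_add_eq_zero_left h4, CharTwo.neg_eq]

/-- the image of `f` -/
def FR : AddSubgroup F where
  carrier := {y | ∃ r ∈ P.Q, P.f r = y}
  zero_mem' := ⟨1, one_mem _, P.f_one⟩
  add_mem' := by
    rintro _ _ ⟨r, hr, rfl⟩ ⟨s, hs, rfl⟩
    exact ⟨r * s, mul_mem hr hs, P.f_mul r hr s hs⟩
  neg_mem' := by
    rintro _ ⟨r, hr, rfl⟩
    exact ⟨r, hr, by rw [CharTwo.neg_eq]⟩

theorem mem_FR {y : F} : y ∈ P.FR ↔ ∃ r ∈ P.Q, P.f r = y := Iff.rfl

theorem f_mem_FR {r : G} (hr : r ∈ P.Q) : P.f r ∈ P.FR := ⟨r, hr, rfl⟩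

theorem exists_aC : ∃ aC : G → F, (∀ x ∈ P.T, ∀ y ∈ P.T, aC (x * y) = aC x + aC y) ∧
    (∀ x ∈ P.PP, aC x = P.aP x) ∧
    ∀ (l : Fˣ), ∀ x ∈ P.T, aC (P.h l * x * (P.h l)⁻¹) = l * aC x := by
  classical
  obtain ⟨a0, h1, h2⟩ := P.exists_ext_T (fun x : F => CharTwo.add_self_eq_zero x) P.aP
    (fun x hx y hy => P.aP_mul hx hy) (fun b => P.aP_p 0 b)
  refine ⟨fun x => ∑ l : Fˣ, ((l⁻¹ : Fˣ) : F) * a0 (P.cj l x), ?_, ?_, ?_⟩
  · intro x hx y hy
    simp only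
    rw [← Finset.sum_add_distrib]
    refine Finset.sum_congr rfl fun l _ => ?_
    rw [P.cj_mul, h1 _ (P.cj_mem l hx) _ (P.cj_mem l hy), mul_add]
  · intro x hx
    simp only
    have : ∀ l : Fˣ, ((l⁻¹ : Fˣ) : F) * a0 (P.cj l x) = P.aP x := fun l => by
      show ((l⁻¹ : Fˣ) : F) * a0 (P.h l * x * (P.h l)⁻¹) = P.aP x
      rw [h2 _ (P.PP_h l hx)]
      rw [P.aP_h l hx, ← mul_assoc, Units.inv_mul, one_mul]
    rw [Finset.sum_congr rfl (fun l _ => this l), Finset.sum_const, Finset.card_univ,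
      nsmul_eq_mul, card_units_F, one_mul]
  · intro k x hx
    show ∑ l : Fˣ, ((l⁻¹ : Fˣ) : F) * a0 (P.cj l (P.cj k x)) =
      k * ∑ l : Fˣ, ((l⁻¹ : Fˣ) : F) * a0 (P.cj l x)
    rw [Finset.mul_sum]
    refine Fintype.sum_equiv (Equiv.mulRight k) _ _ fun l => ?_
    rw [P.cj_cj l k hx]
    show ((l⁻¹ : Fˣ) : F) * a0 (P.cj (l * k) x) =
      k * ((((l * k)⁻¹ : Fˣ) : F) * a0 (P.cj (l * k) x))
    rw [← mul_assoc, ← Units.val_mul]
    have : k * (l * k)⁻¹ = l⁻¹ := by rw [mul_inv]; rw [mul_comm l⁻¹, mul_inv_cancel_left]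
    rw [this]

theorem exists_fC : ∃ fC : G → F, (∀ x ∈ P.T, ∀ y ∈ P.T, fC (x * y) = fC x + fC y) ∧
    (∀ x ∈ P.PP, fC x = P.fP x) ∧
    (∀ (l : Fˣ), ∀ x ∈ P.T, fC (P.h l * x * (P.h l)⁻¹) = fC x) ∧ ∀ x, ∃ r ∈ P.Q, P.f r = fC x := by
  classical
  have hFR : ∀ x : P.FR, x + x = 0 := fun x => Subtype.ext (CharTwo.add_self_eq_zero (x : F))
  have hq : ∀ x, P.fP x ∈ P.FR := by
    intro x
    by_cases hx : x ∈ P.PP
    · exact ⟨P.qP x, (P.qP_spec hx).1, rfl⟩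
    · refine ⟨1, one_mem _, ?_⟩
      unfold fP qP
      rw [dif_neg hx]
  obtain ⟨r0, h1, h2⟩ := P.exists_ext_T hFR (fun x => (⟨P.fP x, hq x⟩ : P.FR))
    (fun x hx y hy => Subtype.ext (P.fP_mul hx hy)) (fun b => Subtype.ext (P.fP_p 0 b))
  refine ⟨fun x => ((∑ l : Fˣ, r0 (P.cj l x) : P.FR) : F), ?_, ?_, ?_, fun x => ?_⟩
  · intro x hx y hy
    simp only
    rw [← AddSubgroup.coe_add, ← Finset.sum_add_distrib]
    congr 1
    refine Finset.sum_congr rfl fun l _ => ?_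
    rw [P.cj_mul, h1 _ (P.cj_mem l hx) _ (P.cj_mem l hy)]
  · intro x hx
    simp only
    have : ∀ l : Fˣ, r0 (P.cj l x) = ⟨P.fP x, hq x⟩ := fun l => by
      show r0 (P.h l * x * (P.h l)⁻¹) = ⟨P.fP x, hq x⟩
      rw [h2 _ (P.PP_h l hx)]
      exact Subtype.ext (P.fP_h l hx)
    rw [Finset.sum_congr rfl (fun l _ => this l), Finset.sum_const, Finset.card_univ]
    rw [AddSubgroup.coe_nsmul, nsmul_eq_mul, card_units_F, one_mul]
  · intro k x hx
    show ((∑ l : Fˣ, r0 (P.cj l (P.cj k x)) : P.FR) : F) = ((∑ l : Fˣ, r0 (P.cj l x) : P.FR) : F)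
    congr 1
    refine Fintype.sum_equiv (Equiv.mulRight k) _ _ fun l => ?_
    rw [P.cj_cj l k hx]; rfl
  · exact P.mem_FR.mp (∑ l : Fˣ, r0 (P.cj l x) : P.FR).2

/-- the `A`-coordinate on `T` -/
noncomputable def aC : G → F := P.exists_aC.choose

theorem aC_mul {x y : G} (hx : x ∈ P.T) (hy : y ∈ P.T) : P.aC (x * y) = P.aC x + P.aC y :=
  P.exists_aC.choose_spec.1 x hx y hy

theorem aC_PP {x : G} (hx : x ∈ P.PP) : P.aC x = P.aP x := P.exists_aC.choose_spec.2.1 x hx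

theorem aC_h (l : Fˣ) {x : G} (hx : x ∈ P.T) : P.aC (P.h l * x * (P.h l)⁻¹) = l * P.aC x :=
  P.exists_aC.choose_spec.2.2 l x hx

/-- the `Q`-coordinate on `T` -/
noncomputable def fC : G → F := P.exists_fC.choose

theorem fC_mul {x y : G} (hx : x ∈ P.T) (hy : y ∈ P.T) : P.fC (x * y) = P.fC x + P.fC y :=
  P.exists_fC.choose_spec.1 x hx y hy

theorem fC_PP {x : G} (hx : x ∈ P.PP) : P.fC x = P.fP x := P.exists_fC.choose_spec.2.1 x hx

theorem fC_h (l : Fˣ) {x : G} (hx : x ∈ P.T) : P.fC (P.h l * x * (P.h l)⁻¹) = P.fC x :=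
  P.exists_fC.choose_spec.2.2.1 l x hx

theorem fC_FR (x : G) : P.fC x ∈ P.FR := P.exists_fC.choose_spec.2.2.2 x

theorem aC_p (a b : F) : P.aC (P.p a b) = a := by rw [P.aC_PP (P.p_mem a b), P.aP_p]

theorem aC_Q {r : G} (hr : r ∈ P.Q) : P.aC r = 0 := by rw [P.aC_PP (P.Q_le hr), P.aP_Q hr]

theorem fC_p (a b : F) : P.fC (P.p a b) = 0 := by rw [P.fC_PP (P.p_mem a b), P.fP_p]

theorem fC_Q {r : G} (hr : r ∈ P.Q) : P.fC r = P.f r := by rw [P.fC_PP (P.Q_le hr), P.fP_Q hr]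

theorem act_p (a b : F) : P.act (P.p a b) = 0 := (P.p_mem a b).2

theorem act_Q {r : G} (hr : r ∈ P.Q) : P.act r = 0 := (P.Q_le hr).2

theorem aC_one : P.aC 1 = 0 := by rw [← P.p_zero, P.aC_p]

theorem fC_one : P.fC 1 = 0 := by rw [← P.p_zero, P.fC_p]

theorem aC_inv {x : G} (hx : x ∈ P.T) : P.aC x⁻¹ = P.aC x := by
  have h1 := P.aC_mul (inv_mem hx) hx
  rw [inv_mul_cancel, P.aC_one] at h1
  rw [eq_neg_of_add_eq_zero_left h1.symm, CharTwo.neg_eq]

theorem fC_inv {x : G} (hx : x ∈ P.T) : P.fC x⁻¹ = P.fC x := by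
  have h1 := P.fC_mul (inv_mem hx) hx
  rw [inv_mul_cancel, P.fC_one] at h1
  rw [eq_neg_of_add_eq_zero_left h1.symm, CharTwo.neg_eq]

/-- the kernel of the coordinates -/
theorem eq_z_of {x : G} (hx : x ∈ P.T) (h1 : P.fC x = 0) (h2 : P.aC x = 0) (h3 : P.act x = 0) :
    ∃ b, x = P.p 0 b := by
  have h4 : x ∈ P.PP := ⟨hx, h3⟩
  rw [P.fC_PP h4] at h1
  rw [P.aC_PP h4] at h2
  exact P.eq_z h4 h2 h1

theorem exists_z_mul {x y : G} (hx : x ∈ P.T) (hy : y ∈ P.T) (h1 : P.fC x = P.fC y) (h2 : P.aC x = P.aC y)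
    (h3 : P.act x = P.act y) : ∃ b, x = P.p 0 b * y := by
  obtain ⟨b, hb⟩ := P.eq_z_of (mul_mem hx (inv_mem hy))
    (by rw [P.fC_mul hx (inv_mem hy), P.fC_inv hy, h1, CharTwo.add_self_eq_zero])
    (by rw [P.aC_mul hx (inv_mem hy), P.aC_inv hy, h2, CharTwo.add_self_eq_zero])
    (by rw [P.act_mul hx (inv_mem hy), P.act_inv hy, h3, CharTwo.add_self_eq_zero])
  exact ⟨b, mul_inv_eq_iff_eq_mul.mp hb⟩

/-- surjectivity of the coordinates -/
theorem exists_el {r : F} (hr : r ∈ P.FR) (a c : F) : ∃ x ∈ P.T, P.fC x = r ∧ P.aC x = a ∧ P.act x = c := by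
  obtain ⟨r1, hr1, rfl⟩ := hr
  obtain ⟨s, hs, hs2⟩ := P.fC_FR (P.xc c)
  have h1 : P.xc c ∈ P.T := P.xc_mem c
  have h2 : r1 * s ∈ P.Q := mul_mem hr1 hs
  have h2' : r1 * s ∈ P.T := P.T_Q h2
  have h3 : P.p (a + P.aC (P.xc c)) 0 ∈ P.T := P.T_p _ _
  refine ⟨P.xc c * (r1 * s) * P.p (a + P.aC (P.xc c)) 0, mul_mem (mul_mem h1 h2') h3, ?_, ?_, ?_⟩
  · rw [P.fC_mul (mul_mem h1 h2') h3, P.fC_mul h1 h2', P.fC_p, P.fC_Q h2, P.f_mul r1 hr1 s hs, ← hs2, add_zero,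
      add_comm (P.f r1), ← add_assoc, CharTwo.add_self_eq_zero, zero_add]
  · rw [P.aC_mul (mul_mem h1 h2') h3, P.aC_mul h1 h2', P.aC_p, P.aC_Q h2, add_zero, add_comm a, ← add_assoc,
      CharTwo.add_self_eq_zero, zero_add]
  · rw [P.act_mul (mul_mem h1 h2') h3, P.act_mul h1 h2', P.act_p, P.act_Q h2, add_zero, add_zero, P.act_xc]

/-! ### squares and commutators -/

/-- `x * x = p 0 (sq x)` -/
noncomputable def sq (x : G) : F := by
  classical exact if h : x ∈ P.T then (P.exists_sq h).choose else 0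

theorem sq_spec {x : G} (hx : x ∈ P.T) : x * x = P.p 0 (P.sq x) := by
  classical
  have : P.sq x = (P.exists_sq hx).choose := by unfold sq; exact dif_pos hx
  rw [this]
  exact (P.exists_sq hx).choose_spec

theorem sq_eq {x : G} (hx : x ∈ P.T) {b : F} (h : x * x = P.p 0 b) : P.sq x = b :=
  P.z_inj (by rw [← P.sq_spec hx, h])

/-- the commutator form -/
noncomputable def cm (x y : G) : F := P.sq (x * y) + P.sq x + P.sq y

theorem cm_spec {x y : G} (hx : x ∈ P.T) (hy : y ∈ P.T) : x * y = P.p 0 (P.cm x y) * (y * x) := by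
  obtain ⟨b, hb⟩ := P.exists_comm hx hy
  have h1 : x * y * (x * y) = P.p 0 (b + P.sq y + P.sq x) := by
    calc x * y * (x * y) = x * (y * x) * y := by group
      _ = x * (P.p 0 b * (P.p 0 b * (y * x))) * y := by
        rw [← mul_assoc (P.p 0 b) (P.p 0 b), P.z_self, one_mul]
      _ = x * (P.p 0 b * (x * y)) * y := by rw [← hb]
      _ = (x * P.p 0 b) * x * (y * y) := by group
      _ = P.p 0 b * (x * x) * (y * y) := by rw [P.T_Z x hx]; group
      _ = _ := by rw [P.sq_spec hx, P.sq_spec hy, P.z_mul, P.z_mul]; congr 1; ring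
  have h2 : P.cm x y = b := by
    unfold cm
    rw [P.sq_eq (mul_mem hx hy) h1]
    have : b + P.sq y + P.sq x + P.sq x + P.sq y = b + (P.sq x + P.sq x) + (P.sq y + P.sq y) := by ring
    rw [this, CharTwo.add_self_eq_zero, CharTwo.add_self_eq_zero, add_zero, add_zero]
  rw [h2]; exact hb

theorem cm_eq {x y : G} (hx : x ∈ P.T) (hy : y ∈ P.T) {b : F} (h : x * y = P.p 0 b * (y * x)) : P.cm x y = b := by
  have h1 := P.cm_spec hx hy
  rw [h] at h1
  exact (P.z_inj (mul_right_cancel h1)).symm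

theorem cm_comm {x y : G} (hx : x ∈ P.T) (hy : y ∈ P.T) : P.cm x y = P.cm y x := by
  apply P.cm_eq hx hy
  have := P.cm_spec hy hx
  rw [this, ← mul_assoc, P.z_self, one_mul]

theorem cm_self {x : G} (hx : x ∈ P.T) : P.cm x x = 0 := by
  apply P.cm_eq hx hx
  rw [P.p_zero, one_mul]

theorem cm_mul_left {x x' y : G} (hx : x ∈ P.T) (hx' : x' ∈ P.T) (hy : y ∈ P.T) :
    P.cm (x * x') y = P.cm x y + P.cm x' y := by
  apply P.cm_eq (mul_mem hx hx') hy
  calc x * x' * y = x * (x' * y) := by group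
    _ = x * (P.p 0 (P.cm x' y) * (y * x')) := by rw [← P.cm_spec hx' hy]
    _ = (x * P.p 0 (P.cm x' y)) * y * x' := by group
    _ = P.p 0 (P.cm x' y) * (x * y) * x' := by rw [P.T_Z x hx]; group
    _ = P.p 0 (P.cm x' y) * (P.p 0 (P.cm x y) * (y * x)) * x' := by rw [← P.cm_spec hx hy]
    _ = (P.p 0 (P.cm x' y) * P.p 0 (P.cm x y)) * (y * (x * x')) := by group
    _ = _ := by rw [P.z_mul, add_comm (P.cm x' y)]

theorem cm_mul_right {x y y' : G} (hx : x ∈ P.T) (hy : y ∈ P.T) (hy' : y' ∈ P.T) :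
    P.cm x (y * y') = P.cm x y + P.cm x y' := by
  rw [P.cm_comm hx (mul_mem hy hy'), P.cm_mul_left hy hy' hx, P.cm_comm hy hx, P.cm_comm hy' hx]

theorem sq_mul (x y : G) : P.sq (x * y) = P.sq x + P.sq y + P.cm x y := by
  unfold cm
  have : P.sq x + P.sq y + (P.sq (x * y) + P.sq x + P.sq y) =
      P.sq (x * y) + (P.sq x + P.sq x) + (P.sq y + P.sq y) := by ring
  rw [this, CharTwo.add_self_eq_zero, CharTwo.add_self_eq_zero, add_zero, add_zero]

theorem sq_p (a b : F) : P.sq (P.p a b) = a ^ (1 + 2 ^ (m + 1)) := P.sq_eq (P.T_p a b) (P.p_sq a b)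

theorem sq_Q {r : G} (hr : r ∈ P.Q) : P.sq r = 0 := by
  apply P.sq_eq (P.T_Q hr)
  rw [P.Q_sq r hr, P.p_zero]

theorem cm_z_left (b : F) {x : G} (hx : x ∈ P.T) : P.cm (P.p 0 b) x = 0 := by
  apply P.cm_eq (P.T_p 0 b) hx
  rw [P.p_zero, one_mul, P.T_Z x hx]

theorem sq_z (b : F) : P.sq (P.p 0 b) = 0 := by
  rw [P.sq_p, zero_pow (by positivity)]

/-- `sq` depends only on the coordinates -/
theorem sq_congr {x y : G} (hx : x ∈ P.T) (hy : y ∈ P.T) (h1 : P.fC x = P.fC y) (h2 : P.aC x = P.aC y)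
    (h3 : P.act x = P.act y) : P.sq x = P.sq y := by
  obtain ⟨b, rfl⟩ := P.exists_z_mul hx hy h1 h2 h3
  rw [P.sq_mul, P.sq_z, P.cm_z_left b hy, add_zero, zero_add]

theorem cm_congr {x y x' y' : G} (hx : x ∈ P.T) (hy : y ∈ P.T) (hx' : x' ∈ P.T) (hy' : y' ∈ P.T)
    (h1 : P.fC x = P.fC x') (h2 : P.aC x = P.aC x') (h3 : P.act x = P.act x')
    (h4 : P.fC y = P.fC y') (h5 : P.aC y = P.aC y') (h6 : P.act y = P.act y') : P.cm x y = P.cm x' y' := by
  unfold cm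
  rw [P.sq_congr hx hx' h1 h2 h3, P.sq_congr hy hy' h4 h5 h6,
    P.sq_congr (mul_mem hx hy) (mul_mem hx' hy') (by rw [P.fC_mul hx hy, P.fC_mul hx' hy', h1, h4])
      (by rw [P.aC_mul hx hy, P.aC_mul hx' hy', h2, h5]) (by rw [P.act_mul hx hy, P.act_mul hx' hy', h3, h6])]

theorem sq_h (l : Fˣ) {x : G} (hx : x ∈ P.T) :
    P.sq (P.h l * x * (P.h l)⁻¹) = (l : F) ^ (1 + 2 ^ (m + 1)) * P.sq x := by
  apply P.sq_eq (P.h_T l x hx)
  have : P.h l * x * (P.h l)⁻¹ * (P.h l * x * (P.h l)⁻¹) = P.h l * (x * x) * (P.h l)⁻¹ := by group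
  rw [this, P.sq_spec hx, P.h_p, mul_zero]

theorem cm_h (l : Fˣ) {x y : G} (hx : x ∈ P.T) (hy : y ∈ P.T) :
    P.cm (P.h l * x * (P.h l)⁻¹) (P.h l * y * (P.h l)⁻¹) = (l : F) ^ (1 + 2 ^ (m + 1)) * P.cm x y := by
  unfold cm
  have : P.h l * x * (P.h l)⁻¹ * (P.h l * y * (P.h l)⁻¹) = P.h l * (x * y) * (P.h l)⁻¹ := by group
  rw [this, P.sq_h l hx, P.sq_h l hy, P.sq_h l (mul_mem hx hy)]
  ring

/-- the elements `e_c` -/
noncomputable def ee (c : F) : G := (P.exists_el P.FR.zero_mem 0 c).choose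

theorem ee_mem (c : F) : P.ee c ∈ P.T := (P.exists_el P.FR.zero_mem 0 c).choose_spec.1
theorem fC_ee (c : F) : P.fC (P.ee c) = 0 := (P.exists_el P.FR.zero_mem 0 c).choose_spec.2.1
theorem aC_ee (c : F) : P.aC (P.ee c) = 0 := (P.exists_el P.FR.zero_mem 0 c).choose_spec.2.2.1
theorem act_ee (c : F) : P.act (P.ee c) = c := (P.exists_el P.FR.zero_mem 0 c).choose_spec.2.2.2

include P in
theorem scal {l : F} (hl : l ≠ 0) : ∃ k : Fˣ, (k : F) ^ (1 + 2 ^ (m + 1)) = l :=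
  ⟨Units.mk0 _ (pow_ne_zero (2 ^ (m + 1) - 1) hl), norm_surj P.hF l⟩

theorem exists_s : ∃ s : F, ∀ c, P.sq (P.ee c) = s * c ∧ ∀ d, P.cm (P.ee c) (P.ee d) = 0 := by
  have hm := P.hm
  have hF := P.hF
  have f0 : ∀ c, P.fC (P.ee c) = 0 := P.fC_ee
  have hf0 : ∀ u v, P.cm (P.ee u) (P.ee v) = 0 := by
    apply alternating_same (by omega) hF (fun u v => P.cm (P.ee u) (P.ee v))
    · intro x x' y
      show P.cm _ _ = P.cm _ _ + P.cm _ _
      rw [← P.cm_mul_left (P.ee_mem _) (P.ee_mem _) (P.ee_mem _)]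
      apply P.cm_congr (P.ee_mem _) (P.ee_mem _) (mul_mem (P.ee_mem _) (P.ee_mem _)) (P.ee_mem _) _ _ _ rfl rfl rfl
      · rw [P.fC_mul (P.ee_mem _) (P.ee_mem _), f0, f0, f0, add_zero]
      · rw [P.aC_mul (P.ee_mem _) (P.ee_mem _), P.aC_ee, P.aC_ee, P.aC_ee, add_zero]
      · rw [P.act_mul (P.ee_mem _) (P.ee_mem _), P.act_ee, P.act_ee, P.act_ee]
    · intro x y y'
      show P.cm _ _ = P.cm _ _ + P.cm _ _
      rw [← P.cm_mul_right (P.ee_mem _) (P.ee_mem _) (P.ee_mem _)]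
      apply P.cm_congr (P.ee_mem _) (P.ee_mem _) (P.ee_mem _) (mul_mem (P.ee_mem _) (P.ee_mem _)) rfl rfl rfl
      · rw [P.fC_mul (P.ee_mem _) (P.ee_mem _), f0, f0, f0, add_zero]
      · rw [P.aC_mul (P.ee_mem _) (P.ee_mem _), P.aC_ee, P.aC_ee, P.aC_ee, add_zero]
      · rw [P.act_mul (P.ee_mem _) (P.ee_mem _), P.act_ee, P.act_ee, P.act_ee]
    · intro l x y hl
      obtain ⟨k, hk⟩ := P.scal hl
      show P.cm _ _ = _ * P.cm _ _
      rw [← hk, ← P.cm_h k (P.ee_mem _) (P.ee_mem _)]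
      apply P.cm_congr (P.ee_mem _) (P.ee_mem _) (P.h_T _ _ (P.ee_mem _)) (P.h_T _ _ (P.ee_mem _))
      · rw [P.fC_h k (P.ee_mem _), f0, f0]
      · rw [P.aC_h k (P.ee_mem _), P.aC_ee, P.aC_ee, mul_zero]
      · rw [P.act_h k (P.ee_mem _), P.act_ee, P.act_ee]
      · rw [P.fC_h k (P.ee_mem _), f0, f0]
      · rw [P.aC_h k (P.ee_mem _), P.aC_ee, P.aC_ee, mul_zero]
      · rw [P.act_h k (P.ee_mem _), P.act_ee, P.act_ee]
    · intro x
      exact P.cm_self (P.ee_mem _)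
  have hadd : ∀ u v, P.sq (P.ee (u + v)) = P.sq (P.ee u) + P.sq (P.ee v) := by
    intro u v
    rw [P.sq_congr (P.ee_mem _) (mul_mem (P.ee_mem u) (P.ee_mem v))
      (by rw [P.fC_mul (P.ee_mem _) (P.ee_mem _), f0, f0, f0, add_zero])
      (by rw [P.aC_mul (P.ee_mem _) (P.ee_mem _), P.aC_ee, P.aC_ee, P.aC_ee, add_zero])
      (by rw [P.act_mul (P.ee_mem _) (P.ee_mem _), P.act_ee, P.act_ee, P.act_ee]),
      P.sq_mul, hf0, add_zero]
  refine ⟨P.sq (P.ee 1), fun u => ⟨?_, fun v => hf0 u v⟩⟩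
  rcases eq_or_ne u 0 with rfl | hu
  · rw [mul_zero]
    have h1 := hadd 0 0
    rw [add_zero, CharTwo.add_self_eq_zero] at h1
    exact h1
  · obtain ⟨k, hk⟩ := P.scal hu
    have h1 := P.sq_h k (P.ee_mem 1)
    rw [hk] at h1
    rw [mul_comm, ← h1]
    apply P.sq_congr (P.ee_mem _) (P.h_T _ _ (P.ee_mem _))
    · rw [P.fC_h k (P.ee_mem _), f0, f0]
    · rw [P.aC_h k (P.ee_mem _), P.aC_ee, P.aC_ee, mul_zero]
    · rw [P.act_h k (P.ee_mem _), P.act_ee, P.act_ee, hk, mul_one]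

theorem exists_lam : ∃ d : F, ∀ a c, P.cm (P.p a 0) (P.ee c) = d * (a * c) ^ (2 ^ m) := by
  have hm := P.hm
  have hF := P.hF
  apply pairing_122 (by omega) hF (fun a c => P.cm (P.p a 0) (P.ee c))
  · intro a a' c
    show P.cm _ _ = P.cm _ _ + P.cm _ _
    rw [← P.cm_mul_left (P.T_p _ _) (P.T_p _ _) (P.ee_mem _)]
    apply P.cm_congr (P.T_p _ _) (P.ee_mem _) (mul_mem (P.T_p _ _) (P.T_p _ _)) (P.ee_mem _) _ _ _ rfl rfl rfl
    · rw [P.fC_mul (P.T_p _ _) (P.T_p _ _), P.fC_p, P.fC_p, P.fC_p, add_zero]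
    · rw [P.aC_mul (P.T_p _ _) (P.T_p _ _), P.aC_p, P.aC_p, P.aC_p]
    · rw [P.act_mul (P.T_p _ _) (P.T_p _ _), P.act_p, P.act_p, P.act_p, add_zero]
  · intro a c c'
    show P.cm _ _ = P.cm _ _ + P.cm _ _
    rw [← P.cm_mul_right (P.T_p _ _) (P.ee_mem _) (P.ee_mem _)]
    apply P.cm_congr (P.T_p _ _) (P.ee_mem _) (P.T_p _ _) (mul_mem (P.ee_mem _) (P.ee_mem _)) rfl rfl rfl
    · rw [P.fC_mul (P.ee_mem _) (P.ee_mem _), P.fC_ee, P.fC_ee, P.fC_ee, add_zero]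
    · rw [P.aC_mul (P.ee_mem _) (P.ee_mem _), P.aC_ee, P.aC_ee, P.aC_ee, add_zero]
    · rw [P.act_mul (P.ee_mem _) (P.ee_mem _), P.act_ee, P.act_ee, P.act_ee]
  · intro l a c hl
    show P.cm _ _ = _ * P.cm _ _
    have h1 := P.cm_h (Units.mk0 l hl) (P.T_p a 0) (P.ee_mem c)
    rw [Units.val_mk0] at h1
    rw [← h1]
    apply P.cm_congr (P.T_p _ _) (P.ee_mem _) (P.h_T _ _ (P.T_p _ _)) (P.h_T _ _ (P.ee_mem _))
    · rw [P.fC_h _ (P.T_p _ _), P.fC_p, P.fC_p]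
    · rw [P.aC_h _ (P.T_p _ _), P.aC_p, P.aC_p, Units.val_mk0]
    · rw [P.act_h _ (P.T_p _ _), P.act_p, P.act_p, mul_zero]
    · rw [P.fC_h _ (P.ee_mem _), P.fC_ee, P.fC_ee]
    · rw [P.aC_h _ (P.ee_mem _), P.aC_ee, P.aC_ee, mul_zero]
    · rw [P.act_h _ (P.ee_mem _), P.act_ee, P.act_ee, Units.val_mk0]

/-- the constant `s` -/
noncomputable def s : F := P.exists_s.choose

/-- the constant `λ` -/
noncomputable def lam : F := P.exists_lam.choose

theorem sq_ee (c : F) : P.sq (P.ee c) = P.s * c := (P.exists_s.choose_spec c).1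

theorem cm_ee_ee (c d : F) : P.cm (P.ee c) (P.ee d) = 0 := (P.exists_s.choose_spec c).2 d

theorem cm_p_ee (a c : F) : P.cm (P.p a 0) (P.ee c) = P.lam * (a * c) ^ (2 ^ m) := P.exists_lam.choose_spec a c

theorem cm_Q {r x : G} (hr : r ∈ P.Q) (hx : x ∈ P.T) : P.cm r x = P.act x * P.f r := by
  rw [P.cm_comm (P.T_Q hr) hx]
  apply P.cm_eq hx (P.T_Q hr)
  have h1 := P.T_act x hx r hr
  rw [mul_inv_eq_iff_eq_mul] at h1
  rw [h1, P.T_Z r (P.T_Q hr), mul_assoc]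

/-- the quadratic form -/
def qf (m : ℕ) (s lam : F) (r a c : F) : F := a ^ (1 + 2 ^ (m + 1)) + s * c + c * r + lam * (a * c) ^ (2 ^ m)

/-- its polarization -/
def bf (m : ℕ) (lam : F) (r a c r' a' c' : F) : F :=
  a * a' ^ (2 ^ (m + 1)) + a ^ (2 ^ (m + 1)) * a' + (c * r' + c' * r) +
    (lam * (a * c') ^ (2 ^ m) + lam * (a' * c) ^ (2 ^ m))

theorem sq_crd {x : G} (hx : x ∈ P.T) : P.sq x = qf m P.s P.lam (P.fC x) (P.aC x) (P.act x) := by
  obtain ⟨r, hr, hr2⟩ := P.fC_FR x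
  have h1 : P.p (P.aC x) 0 ∈ P.T := P.T_p _ _
  have h2 := P.ee_mem (P.act x)
  have h3 : r ∈ P.T := P.T_Q hr
  rw [P.sq_congr hx (mul_mem h3 (mul_mem h1 h2))
    (by rw [P.fC_mul h3 (mul_mem h1 h2), P.fC_mul h1 h2, P.fC_p, P.fC_ee, P.fC_Q hr, hr2, add_zero, add_zero])
    (by rw [P.aC_mul h3 (mul_mem h1 h2), P.aC_mul h1 h2, P.aC_p, P.aC_ee, P.aC_Q hr, add_zero, zero_add])
    (by rw [P.act_mul h3 (mul_mem h1 h2), P.act_mul h1 h2, P.act_p, P.act_ee, P.act_Q hr, zero_add, zero_add])]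
  rw [P.sq_mul, P.sq_mul, P.sq_Q hr, P.sq_p, P.sq_ee, P.cm_p_ee, P.cm_Q hr (mul_mem h1 h2), P.act_mul h1 h2,
    P.act_p, P.act_ee, hr2]
  unfold qf
  ring

theorem cm_crd {x y : G} (hx : x ∈ P.T) (hy : y ∈ P.T) :
    P.cm x y = bf m P.lam (P.fC x) (P.aC x) (P.act x) (P.fC y) (P.aC y) (P.act y) := by
  have h1 : P.cm x y = P.sq (x * y) + P.sq x + P.sq y := rfl
  rw [h1, P.sq_crd (mul_mem hx hy), P.sq_crd hx, P.sq_crd hy, P.fC_mul hx hy, P.aC_mul hx hy, P.act_mul hx hy]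
  unfold qf bf
  have e1 : ∀ a b : F, (a + b) ^ (1 + 2 ^ (m + 1)) = a ^ (1 + 2 ^ (m + 1)) + b ^ (1 + 2 ^ (m + 1)) +
      (a * b ^ (2 ^ (m + 1)) + a ^ (2 ^ (m + 1)) * b) := by
    intro a b
    rw [_root_.pow_add (a + b) 1, _root_.pow_add a 1, _root_.pow_add b 1, add_pow_char_pow a b 2 (m + 1)]
    ring
  have e2 : ((P.aC x + P.aC y) * (P.act x + P.act y)) ^ (2 ^ m) =
      (P.aC x * P.act x) ^ (2 ^ m) + (P.aC y * P.act y) ^ (2 ^ m) +
      ((P.aC x * P.act y) ^ (2 ^ m) + (P.aC y * P.act x) ^ (2 ^ m)) := by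
    have : (P.aC x + P.aC y) * (P.act x + P.act y) =
      ((P.aC x * P.act x) + (P.aC y * P.act y)) + ((P.aC x * P.act y) + (P.aC y * P.act x)) := by ring
    rw [this, add_pow_char_pow _ _ 2 m, add_pow_char_pow _ _ 2 m, add_pow_char_pow _ _ 2 m]
  rw [e1, e2]
  have h2 : (2 : F) = 0 := CharTwo.two_eq_zero
  linear_combination (P.aC x ^ (1 + 2 ^ (m + 1)) + P.aC y ^ (1 + 2 ^ (m + 1)) + P.s * P.act x + P.s * P.act y
    + P.act x * P.fC x + P.act y * P.fC y + P.lam * (P.aC x * P.act x) ^ (2 ^ m)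
    + P.lam * (P.aC y * P.act y) ^ (2 ^ m)) * h2

/-- the centre of `T` is `Z` -/
theorem mem_Z_of_central {x : G} (hx : x ∈ P.T) (h : ∀ y ∈ P.T, x * y = y * x) : ∃ b, x = P.p 0 b := by
  have h0 : ∀ y ∈ P.T, P.cm x y = 0 := by
    intro y hy
    apply P.cm_eq hx hy
    rw [P.p_zero, one_mul, h y hy]
  obtain ⟨r, hr, hr1⟩ := P.Q_ne
  have hfr : P.f r ≠ 0 := fun h0 => hr1 (P.f_inj r hr h0)
  have h1 : P.act x = 0 := by
    have h2 := h0 r (P.T_Q hr)
    rw [P.cm_comm hx (P.T_Q hr), P.cm_Q hr hx] at h2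
    exact (mul_eq_zero.mp h2).resolve_right hfr
  have h2 : ∀ a : F, P.aC x * a ^ (2 ^ (m + 1)) + P.aC x ^ (2 ^ (m + 1)) * a = 0 := by
    intro a
    have h3 := h0 (P.p a 0) (P.T_p a 0)
    rw [P.cm_crd hx (P.T_p a 0), P.fC_p, P.aC_p, P.act_p, h1] at h3
    unfold bf at h3
    simpa using h3
  have h3 : P.aC x = 0 := by
    by_contra ha
    obtain ⟨g, hg0, hg, -⟩ := exists_gen P.hF
    have e1 := h2 1
    rw [one_pow, mul_one, mul_one] at e1
    have e2 := h2 g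
    have e3 : P.aC x ^ (2 ^ (m + 1)) = P.aC x := by
      have := eq_neg_of_add_eq_zero_right e1
      rwa [CharTwo.neg_eq] at this
    rw [e3, ← mul_add] at e2
    have e4 := (mul_eq_zero.mp e2).resolve_left ha
    have e5 : g ^ (2 ^ (m + 1)) = g := by
      have := eq_neg_of_add_eq_zero_left e4
      rwa [CharTwo.neg_eq] at this
    rcases Cfsg.Agent.StdSz.FormAlg.eq_of_th_eq P.hF e5 with e6 | e6
    · exact hg0 e6
    · have e7 : g ^ 1 = g ^ 0 := by rw [pow_one, pow_zero, e6]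
      rw [hg] at e7
      have hm := P.hm
      have h4 : 2 ^ 3 ≤ 2 ^ (2 * m + 1) := Nat.pow_le_pow_right (by norm_num) (by omega)
      have := Nat.ModEq.eq_of_lt_of_lt e7 (by omega) (by omega)
      omega
  have h4 : P.fC x = 0 := by
    have h5 := h0 (P.ee 1) (P.ee_mem 1)
    rw [P.cm_crd hx (P.ee_mem 1), P.fC_ee, P.aC_ee, P.act_ee, h1, h3] at h5
    unfold bf at h5
    simpa using h5
  exact P.eq_z_of hx h4 h3 h1

end Pre

end Cfsg.Agent.OddHalf.D4.Sz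

end

-- merged: Cfsg.Agent.OddHalf.D4.Sz.Block
section

/-!
# ODD, D4, `K = Sz(q)`, `q ≥ 32`: a second block

`Y ≤ T₁` elementary of order `|Q|`, `Y ∩ Q Z = 1`, the elements of `Y - 1` have the same centralizer `D` in `T₁`,
`|D| = |Q| q²`. Then `s = λ = 0`, `|Q| = q` and `Y ≤ E₀`.
-/

set_option autoImplicit false
set_option linter.unusedSectionVars false

namespace Cfsg.Agent.OddHalf.D4.Sz

open Cfsg.Agent.StdSz.EquivMaps Cfsg.Agent.StdSz.SzMaps

section Field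

variable {F : Type*} [Field F] [Fintype F] [CharP F 2] {m : ℕ}

theorem tau_eq (hF : Fintype.card F = 2 ^ (2 * m + 1)) {t : F} (h : t ^ (2 ^ m) = t) : t = 0 ∨ t = 1 := by
  apply Cfsg.Agent.StdSz.FormAlg.eq_of_th_eq hF
  have h1 : (t ^ (2 ^ m)) ^ (2 ^ (m + 1)) = t := by
    rw [← pow_mul, ← _root_.pow_add]
    have : m + (m + 1) = 2 * m + 1 := by ring
    rw [this, ← hF, FiniteField.pow_card]
  rwa [h] at h1

/-- `c ^ τ / c` is injective -/
theorem tau_inj (hF : Fintype.card F = 2 ^ (2 * m + 1)) {c d : F} (hc : c ≠ 0) (hd : d ≠ 0)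
    (h : c ^ (2 ^ m) * d = d ^ (2 ^ m) * c) : c = d := by
  have h1 : (c / d) ^ (2 ^ m) = c / d := by
    rw [div_pow, div_eq_div_iff (pow_ne_zero _ hd) hd, h]
    ring
  rcases tau_eq hF h1 with h2 | h2
  · exact absurd ((div_eq_zero_iff.mp h2).resolve_right hd) hc
  · exact (div_eq_one_iff_eq hd).mp h2

/-- two distinct nonzero solutions of `X c + Y c ^ τ = 0` -/
theorem eq_zero_of_two (hF : Fintype.card F = 2 ^ (2 * m + 1)) {X Y c d : F} (hc : c ≠ 0) (hd : d ≠ 0)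
    (hne : c ≠ d) (h1 : X * c + Y * c ^ (2 ^ m) = 0) (h2 : X * d + Y * d ^ (2 ^ m) = 0) : X = 0 ∧ Y = 0 := by
  have hY : Y = 0 := by
    by_contra hY
    apply hne
    apply tau_inj hF hc hd
    have h3 : Y * (c ^ (2 ^ m) * d - d ^ (2 ^ m) * c) = 0 := by linear_combination d * h1 - c * h2
    exact sub_eq_zero.mp ((mul_eq_zero.mp h3).resolve_left hY)
  subst hY
  rw [zero_mul, add_zero] at h1
  exact ⟨(mul_eq_zero.mp h1).resolve_right hc, rfl⟩

omit [CharP F 2] in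
open Polynomial in
/-- an additive polynomial with many roots vanishes -/
theorem coeff_zero_of_roots (hm : 1 ≤ m) {x y w : F} {S : Set F} (hS : 2 ^ (m + 1) < Nat.card S)
    (h : ∀ a ∈ S, x * a ^ (2 ^ (m + 1)) + y * a + w * a ^ (2 ^ m) = 0) : x = 0 ∧ y = 0 ∧ w = 0 := by
  classical
  set p : F[X] := C x * X ^ (2 ^ (m + 1)) + C y * X + C w * X ^ (2 ^ m) with hp
  have hp0 : p = 0 := by
    by_contra hne
    have h1 : S ⊆ (p.roots.toFinset : Set F) := by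
      intro a ha
      rw [Finset.mem_coe, Multiset.mem_toFinset, mem_roots hne, IsRoot.def, hp]
      simp only [eval_add, eval_mul, eval_C, eval_pow, eval_X]
      exact h a ha
    have h2 : Nat.card S ≤ p.roots.toFinset.card := by
      have := Set.ncard_le_ncard h1 (Finset.finite_toSet _)
      rwa [Set.ncard_coe_finset, ← Nat.card_coe_set_eq] at this
    have h3 : p.roots.toFinset.card ≤ p.natDegree :=
      (Multiset.toFinset_card_le _).trans (card_roots' p)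
    have h4 : p.natDegree ≤ 2 ^ (m + 1) := by
      have e1 : (C x * X ^ (2 ^ (m + 1)) : F[X]).natDegree ≤ 2 ^ (m + 1) := natDegree_C_mul_X_pow_le _ _
      have e2 : (C y * X : F[X]).natDegree ≤ 2 ^ (m + 1) := by
        have := natDegree_C_mul_X_pow_le y 1
        rw [pow_one] at this
        exact this.trans Nat.one_le_two_pow
      have e3 : (C w * X ^ (2 ^ m) : F[X]).natDegree ≤ 2 ^ (m + 1) :=
        (natDegree_C_mul_X_pow_le _ _).trans (Nat.pow_le_pow_right (by norm_num) (by omega))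
      exact natDegree_add_le_of_degree_le (natDegree_add_le_of_degree_le e1 e2) e3
    omega
  have k1 : 1 < 2 ^ m := by
    calc 1 < 2 ^ 1 := by norm_num
      _ ≤ 2 ^ m := Nat.pow_le_pow_right (by norm_num) hm
  have k2 : 2 ^ m < 2 ^ (m + 1) := Nat.pow_lt_pow_right (by norm_num) (by omega)
  have c1 := congrArg (fun p => p.coeff (2 ^ (m + 1))) hp0
  have c2 := congrArg (fun p => p.coeff 1) hp0
  have c3 := congrArg (fun p => p.coeff (2 ^ m)) hp0
  simp only [hp, coeff_add, coeff_C_mul, coeff_X_pow, coeff_zero, coeff_X] at c1 c2 c3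
  rw [if_pos trivial, if_neg (by omega), if_neg (by omega)] at c1
  rw [if_neg (by omega), if_pos trivial, if_neg (by omega)] at c2
  rw [if_neg (by omega), if_neg (by omega), if_pos trivial] at c3
  refine ⟨by simpa using c1, by simpa using c2, by simpa using c3⟩

end Field

/-- kernel and image of an additive function on a subgroup -/
theorem exists_ker {G F : Type*} [Group G] [Finite G] [AddGroup F] (H : Subgroup G) (g : G → F)
    (hg : ∀ x ∈ H, ∀ y ∈ H, g (x * y) = g x + g y) :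
    ∃ K : Subgroup G, (∀ x, x ∈ K ↔ x ∈ H ∧ g x = 0) ∧ Nat.card H = Nat.card K * Nat.card (g '' (H : Set G)) := by
  let φ : H →* Multiplicative F := MonoidHom.mk' (fun x => Multiplicative.ofAdd (g x)) (by
    intro x y
    show Multiplicative.ofAdd (g ((x : G) * y)) = _
    rw [hg _ x.2 _ y.2]; rfl)
  refine ⟨φ.ker.map H.subtype, fun x => ?_, ?_⟩
  · constructor
    · rintro ⟨y, hy, rfl⟩
      exact ⟨y.2, hy⟩
    · rintro ⟨hx, h⟩
      exact ⟨⟨x, hx⟩, h, rfl⟩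
  · rw [Subgroup.card_map_of_injective H.subtype_injective, ← Subgroup.card_mul_index φ.ker, Subgroup.index_ker]
    congr 1
    refine Nat.card_congr ⟨fun y => ⟨Multiplicative.toAdd y.1, ?_⟩, fun y => ⟨Multiplicative.ofAdd y.1, ?_⟩,
      fun y => rfl, fun y => rfl⟩
    · obtain ⟨x, hx⟩ := y.2
      exact ⟨x, x.2, by rw [← hx]; rfl⟩
    · obtain ⟨x, hx, hxy⟩ := y.2
      exact ⟨⟨x, hx⟩, by rw [← hxy]; rfl⟩

namespace Pre

variable {G : Type*} [Group G] [Finite G] {F : Type*} [Field F] [Fintype F] [CharP F 2] {m : ℕ} (P : Pre G F m)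

/-- the data of a second block -/
structure Blk (Y D : Subgroup G) : Prop where
  le : Y ≤ P.T
  sq : ∀ y ∈ Y, y * y = 1
  inf : ∀ y ∈ Y, ∀ r ∈ P.Q, ∀ b, y = r * P.p 0 b → y = 1
  two : ∃ u ∈ Y, ∃ v ∈ Y, u ≠ 1 ∧ v ≠ 1 ∧ u ≠ v
  Dle : D ≤ P.T
  cen : ∀ u ∈ Y, u ≠ 1 → ∀ x ∈ P.T, x ∈ D ↔ u * x = x * u
  card : Nat.card D = Nat.card P.Q * Fintype.card F ^ 2
  cardQ : 3 ≤ Nat.card P.Q

variable {P} {Y D : Subgroup G}

namespace Blk

theorem act_ne (B : P.Blk Y D) {u : G} (hu : u ∈ Y) (hu1 : u ≠ 1) : P.act u ≠ 0 := by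
  intro h
  apply hu1
  obtain ⟨r, hr, a, b, h1⟩ := P.T_ker u (B.le hu) h
  have h2 := B.sq u hu
  have h3 : P.sq u = 0 := P.sq_eq (B.le hu) (by rw [h2, P.p_zero])
  have h4 : P.aC u = a := by rw [h1, P.aC_PP (P.rp_mem hr a b), P.aP_rp hr]
  rw [P.sq_crd (B.le hu), h, h4] at h3
  unfold qf at h3
  have h5 : a ^ (1 + 2 ^ (m + 1)) = 0 := by simpa using h3
  have h6 : a = 0 := by
    rw [pow_eq_zero_iff (by positivity)] at h5; exact h5
  subst h6
  exact B.inf u hu r hr b h1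

theorem act_inj (B : P.Blk Y D) {u v : G} (hu : u ∈ Y) (hv : v ∈ Y) (h : P.act u = P.act v) : u = v := by
  by_contra hne
  have h1 : u * v⁻¹ ≠ 1 := fun h => hne (mul_inv_eq_one.mp h)
  apply B.act_ne (mul_mem hu (inv_mem hv)) h1
  rw [P.act_mul (B.le hu) (inv_mem (B.le hv)), P.act_inv (B.le hv), h, CharTwo.add_self_eq_zero]

theorem cm_zero (B : P.Blk Y D) {u x : G} (hu : u ∈ Y) (hx : x ∈ D) : P.cm u x = 0 := by
  by_cases hu1 : u = 1
  · rw [hu1, ← P.p_zero, P.cm_z_left 0 (B.Dle hx)]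
  apply P.cm_eq (B.le hu) (B.Dle hx)
  rw [P.p_zero, one_mul]
  exact (B.cen u hu hu1 x (B.Dle hx)).mp hx

theorem qf_zero (B : P.Blk Y D) {u : G} (hu : u ∈ Y) : qf m P.s P.lam (P.fC u) (P.aC u) (P.act u) = 0 := by
  rw [← P.sq_crd (B.le hu)]
  exact P.sq_eq (B.le hu) (by rw [B.sq u hu, P.p_zero])

variable (P) in
theorem card_Z_le {K : Subgroup G} (hK : ∀ x ∈ K, ∃ b, x = P.p 0 b) : Nat.card K ≤ Fintype.card F := by
  classical
  choose b hb using hK
  rw [← Nat.card_eq_fintype_card]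
  apply Nat.card_le_card_of_injective (fun x : K => b x.1 x.2)
  intro x y h
  apply Subtype.ext
  rw [hb x.1 x.2, hb y.1 y.2]
  exact congrArg _ h

variable (P) in
theorem card_FR : Nat.card P.FR = Nat.card P.Q := by
  symm
  apply Nat.card_congr
  refine Equiv.ofBijective (fun r : P.Q => (⟨P.f r, P.f_mem_FR r.2⟩ : P.FR)) ⟨?_, ?_⟩
  · intro r s h
    have h1 : P.f r = P.f s := congrArg Subtype.val h
    have h2 : P.f ((r : G) * s) = 0 := by rw [P.f_mul r r.2 s s.2, h1, CharTwo.add_self_eq_zero]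
    have h3 := P.f_inj _ (mul_mem r.2 s.2) h2
    apply Subtype.ext
    rw [eq_inv_of_mul_eq_one_left h3, P.Q_inv s.2]
  · rintro ⟨_, r, hr, rfl⟩
    exact ⟨⟨r, hr⟩, rfl⟩

/-- Step I -/
theorem stepI (B : P.Blk Y D) {u v : G} (hu : u ∈ Y) (hv : v ∈ Y) (hu1 : u ≠ 1) (hv1 : v ≠ 1) (hne : u ≠ v) :
    P.fC u * P.act v = P.fC v * P.act u ∧
      P.lam * P.aC u ^ (2 ^ m) * P.act v = P.lam * P.aC v ^ (2 ^ m) * P.act u := by
  have hu0 := B.act_ne hu hu1
  have hv0 := B.act_ne hv hv1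
  -- elements of `D` with `aC = 0`
  obtain ⟨K1, hK1, hc1⟩ := exists_ker D P.aC (fun x hx y hy => P.aC_mul (B.Dle hx) (B.Dle hy))
  have hK1D : ∀ x ∈ K1, x ∈ D := fun x hx => ((hK1 x).mp hx).1
  obtain ⟨K2, hK2, hc2⟩ := exists_ker K1 P.act
    (fun x hx y hy => P.act_mul (B.Dle (hK1D x hx)) (B.Dle (hK1D y hy)))
  have hK2Z : ∀ x ∈ K2, ∃ b, x = P.p 0 b := by
    intro x hx
    have h1 := (hK2 x).mp hx
    have h2 := (hK1 x).mp h1.1
    have hxT := B.Dle h2.1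
    have h3 := B.cm_zero hu h2.1
    rw [P.cm_crd (B.le hu) hxT, h2.2, h1.2] at h3
    unfold bf at h3
    have h4 : P.act u * P.fC x = 0 := by simpa using h3
    exact P.eq_z_of hxT ((mul_eq_zero.mp h4).resolve_left hu0) h2.2 h1.2
  have hq := card_Z_le P hK2Z
  have him : Nat.card (P.aC '' (D : Set G)) ≤ Fintype.card F := by
    rw [← Nat.card_eq_fintype_card]
    exact Nat.card_le_card_of_injective (fun x : P.aC '' (D : Set G) => (x : F)) Subtype.val_injective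
  have hqpos : 0 < Fintype.card F := Fintype.card_pos
  have h3 : 3 ≤ Nat.card (P.act '' (K1 : Set G)) := by
    have e1 : Nat.card P.Q * Fintype.card F ^ 2 ≤
        (Fintype.card F * Nat.card (P.act '' (K1 : Set G))) * Fintype.card F := by
      rw [← B.card, hc1, hc2]
      exact Nat.mul_le_mul (Nat.mul_le_mul_right _ hq) him
    have e2 : Nat.card P.Q * Fintype.card F ^ 2 ≤ Nat.card (P.act '' (K1 : Set G)) * Fintype.card F ^ 2 := by
      calc Nat.card P.Q * Fintype.card F ^ 2 ≤ _ := e1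
        _ = _ := by ring
    exact B.cardQ.trans (Nat.le_of_mul_le_mul_right e2 (by positivity))
  -- two distinct nonzero values
  obtain ⟨c, d, hcS, hdS, hc0, hd0, hcd⟩ : ∃ c d : F, c ∈ P.act '' (K1 : Set G) ∧ d ∈ P.act '' (K1 : Set G) ∧
      c ≠ 0 ∧ d ≠ 0 ∧ c ≠ d := by
    classical
    set S := P.act '' (K1 : Set G) with hS
    have h4 : 3 ≤ S.ncard := h3
    have h5 : 2 ≤ (S \ {0}).ncard := by
      have := Set.le_ncard_sdiff {(0 : F)} S
      rw [Set.ncard_singleton] at this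
      omega
    obtain ⟨c, d, hc, hd, hcd⟩ := (Set.one_lt_ncard_iff (Set.toFinite _)).mp h5
    exact ⟨c, d, hc.1, hd.1, hc.2, hd.2, hcd⟩
  have key : ∀ c ∈ P.act '' (K1 : Set G), (P.fC u * P.act v + P.fC v * P.act u) * c +
      (P.lam * P.aC u ^ (2 ^ m) * P.act v + P.lam * P.aC v ^ (2 ^ m) * P.act u) * c ^ (2 ^ m) = 0 := by
    rintro _ ⟨x, hx, rfl⟩
    have h2 := (hK1 x).mp hx
    have hxT := B.Dle h2.1
    have h4 := B.cm_zero hu h2.1
    have h5 := B.cm_zero hv h2.1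
    rw [P.cm_crd (B.le hu) hxT, h2.2] at h4
    rw [P.cm_crd (B.le hv) hxT, h2.2] at h5
    unfold bf at h4 h5
    have z1 : (0 : F) ^ (2 ^ (m + 1)) = 0 := zero_pow (by positivity)
    have z2 : (0 : F) ^ (2 ^ m) = 0 := zero_pow (by positivity)
    simp only [z1, zero_mul, mul_zero, zero_add, add_zero, z2, mul_pow] at h4 h5
    have h2' : (2 : F) = 0 := CharTwo.two_eq_zero
    linear_combination P.act v * h4 + P.act u * h5 - (P.act u * P.act v * P.fC x) * h2'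
  obtain ⟨h6, h7⟩ := eq_zero_of_two P.hF hc0 hd0 hcd (key c hcS) (key d hdS)
  constructor
  · have := eq_neg_of_add_eq_zero_left h6
    rwa [CharTwo.neg_eq] at this
  · have := eq_neg_of_add_eq_zero_left h7
    rwa [CharTwo.neg_eq] at this

/-- Step II -/
theorem stepII (B : P.Blk Y D) {u v : G} (hu : u ∈ Y) (hv : v ∈ Y) (hu1 : u ≠ 1) (hv1 : v ≠ 1) (hne : u ≠ v) :
    P.fC u = 0 ∧ P.lam * P.aC u ^ (2 ^ m) = 0 := by
  have hm := P.hm
  have hu0 := B.act_ne hu hu1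
  have hv0 := B.act_ne hv hv1
  have hcc : P.act u ≠ P.act v := fun h => hne (B.act_inj hu hv h)
  obtain ⟨hI1, hI2⟩ := B.stepI hu hv hu1 hv1 hne
  by_contra hcon
  have hcon' : P.fC u ≠ 0 ∨ P.lam * P.aC u ^ (2 ^ m) ≠ 0 := by
    by_contra h
    push Not at h
    exact hcon h
  -- elements of `D` with `fC = 0`
  obtain ⟨K1, hK1, hc1⟩ := exists_ker D P.fC (fun x hx y hy => P.fC_mul (B.Dle hx) (B.Dle hy))
  have hK1D : ∀ x ∈ K1, x ∈ D := fun x hx => ((hK1 x).mp hx).1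
  obtain ⟨K2, hK2, hc2⟩ := exists_ker K1 P.aC
    (fun x hx y hy => P.aC_mul (B.Dle (hK1D x hx)) (B.Dle (hK1D y hy)))
  have hK2D : ∀ x ∈ K2, x ∈ D := fun x hx => hK1D x ((hK2 x).mp hx).1
  obtain ⟨K3, hK3, hc3⟩ := exists_ker K2 P.act
    (fun x hx y hy => P.act_mul (B.Dle (hK2D x hx)) (B.Dle (hK2D y hy)))
  have hK3Z : ∀ x ∈ K3, ∃ b, x = P.p 0 b := by
    intro x hx
    have h1 := (hK3 x).mp hx
    have h2 := (hK2 x).mp h1.1
    have h3 := (hK1 x).mp h2.1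
    exact P.eq_z_of (B.Dle h3.1) h3.2 h2.2 h1.2
  have hq := card_Z_le P hK3Z
  have him1 : Nat.card (P.fC '' (D : Set G)) ≤ Nat.card P.Q := by
    rw [← card_FR P]
    exact Nat.card_mono (Set.toFinite _) (by
      rintro _ ⟨x, -, rfl⟩
      exact P.fC_FR x)
  have him3 : Nat.card (P.act '' (K2 : Set G)) ≤ 2 := by
    by_contra hlt
    push Not at hlt
    classical
    set S := P.act '' (K2 : Set G) with hS
    have h4 : 3 ≤ S.ncard := hlt
    have h5 : 2 ≤ (S \ {0}).ncard := by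
      have := Set.le_ncard_sdiff {(0 : F)} S
      rw [Set.ncard_singleton] at this
      omega
    obtain ⟨c, d, hc, hd, hcd⟩ := (Set.one_lt_ncard_iff (Set.toFinite _)).mp h5
    have key : ∀ c ∈ S, P.fC u * c + P.lam * P.aC u ^ (2 ^ m) * c ^ (2 ^ m) = 0 := by
      rintro _ ⟨x, hx, rfl⟩
      have h1 := (hK2 x).mp hx
      have h2 := (hK1 x).mp h1.1
      have hxT := B.Dle h2.1
      have h4 := B.cm_zero hu h2.1
      rw [P.cm_crd (B.le hu) hxT, h2.2, h1.2] at h4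
      unfold bf at h4
      have z1 : (0 : F) ^ (2 ^ (m + 1)) = 0 := zero_pow (by positivity)
      have z2 : (0 : F) ^ (2 ^ m) = 0 := zero_pow (by positivity)
      simp only [z1, zero_mul, mul_zero, zero_add, add_zero, z2, mul_pow] at h4
      linear_combination h4
    obtain ⟨h6, h7⟩ := eq_zero_of_two P.hF hc.2 hd.2 hcd (key c hc.1) (key d hd.1)
    rcases hcon' with h | h
    · exact h h6
    · exact h h7
  have hqpos : 0 < Fintype.card F := Fintype.card_pos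
  have hQpos : 0 < Nat.card P.Q := by have := B.cardQ; omega
  have hbig : 2 ^ (m + 1) < Nat.card (P.aC '' (K1 : Set G)) := by
    have e1 : Nat.card P.Q * Fintype.card F ^ 2 ≤
        ((Fintype.card F * 2) * Nat.card (P.aC '' (K1 : Set G))) * Nat.card P.Q := by
      rw [← B.card, hc1, hc2, hc3]
      exact Nat.mul_le_mul (Nat.mul_le_mul_right _ (Nat.mul_le_mul hq him3)) him1
    have e2 : Fintype.card F * (Nat.card P.Q * Fintype.card F) ≤
        (2 * Nat.card (P.aC '' (K1 : Set G))) * (Nat.card P.Q * Fintype.card F) := by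
      calc Fintype.card F * (Nat.card P.Q * Fintype.card F) = Nat.card P.Q * Fintype.card F ^ 2 := by ring
        _ ≤ _ := e1
        _ = _ := by ring
    have e3 := Nat.le_of_mul_le_mul_right e2 (by positivity)
    rw [P.hF] at e3
    have e4 : 2 ^ (m + 2) < 2 ^ (2 * m + 1) := Nat.pow_lt_pow_right (by norm_num) (by omega)
    have e5 : 2 ^ (m + 2) = 2 * 2 ^ (m + 1) := by rw [← pow_succ']
    omega
  have key : ∀ a ∈ P.aC '' (K1 : Set G),
      (P.aC u * P.act v + P.aC v * P.act u) * a ^ (2 ^ (m + 1)) +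
      (P.aC u ^ (2 ^ (m + 1)) * P.act v + P.aC v ^ (2 ^ (m + 1)) * P.act u) * a +
      (P.lam * (P.act u ^ (2 ^ m) * P.act v + P.act v ^ (2 ^ m) * P.act u)) * a ^ (2 ^ m) = 0 := by
    rintro _ ⟨x, hx, rfl⟩
    have h2 := (hK1 x).mp hx
    have hxT := B.Dle h2.1
    have h4 := B.cm_zero hu h2.1
    have h5 := B.cm_zero hv h2.1
    rw [P.cm_crd (B.le hu) hxT, h2.2] at h4
    rw [P.cm_crd (B.le hv) hxT, h2.2] at h5
    unfold bf at h4 h5
    simp only [mul_zero, zero_add, mul_pow] at h4 h5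
    have h2' : (2 : F) = 0 := CharTwo.two_eq_zero
    linear_combination P.act v * h4 + P.act u * h5 - P.act x * hI1 - (P.act x) ^ (2 ^ m) * hI2 -
      (P.act x * P.fC v * P.act u + (P.act x) ^ (2 ^ m) * (P.lam * P.aC v ^ (2 ^ m) * P.act u)) * h2'
  obtain ⟨k1, k2, k3⟩ := coeff_zero_of_roots (by omega) hbig key
  have hlam : P.lam = 0 := by
    by_contra hl
    have h3 := (mul_eq_zero.mp k3).resolve_left hl
    apply hcc
    apply tau_inj P.hF hu0 hv0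
    have := eq_neg_of_add_eq_zero_left h3
    rwa [CharTwo.neg_eq] at this
  have e1 : P.aC u * P.act v = P.aC v * P.act u := by
    have := eq_neg_of_add_eq_zero_left k1
    rwa [CharTwo.neg_eq] at this
  have e2 : P.aC u ^ (2 ^ (m + 1)) * P.act v = P.aC v ^ (2 ^ (m + 1)) * P.act u := by
    have := eq_neg_of_add_eq_zero_left k2
    rwa [CharTwo.neg_eq] at this
  have hau : P.aC u = 0 := by
    by_contra ha
    have hav : P.aC v ≠ 0 := by
      intro h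
      rw [h, zero_mul] at e1
      exact (mul_ne_zero ha hv0) e1
    apply hcc
    -- `t = aC v / aC u`
    have h3 : (P.aC v / P.aC u) ^ (2 ^ (m + 1)) = P.aC v / P.aC u := by
      rw [div_pow, div_eq_div_iff (pow_ne_zero _ ha) ha]
      have h4 : P.act u * (P.aC v ^ (2 ^ (m + 1)) * P.aC u - P.aC v * P.aC u ^ (2 ^ (m + 1))) = 0 := by
        linear_combination -P.aC u * e2 + P.aC u ^ (2 ^ (m + 1)) * e1
      exact sub_eq_zero.mp ((mul_eq_zero.mp h4).resolve_left hu0)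
    rcases Cfsg.Agent.StdSz.FormAlg.eq_of_th_eq P.hF h3 with h4 | h4
    · exact absurd ((div_eq_zero_iff.mp h4).resolve_right ha) hav
    · have h5 := (div_eq_one_iff_eq ha).mp h4
      rw [h5] at e1
      exact (mul_left_cancel₀ ha e1).symm
  have hav : P.aC v = 0 := by
    rw [hau, zero_mul] at e1
    exact (mul_eq_zero.mp e1.symm).resolve_right hu0
  have q1 := B.qf_zero hu
  have q2 := B.qf_zero hv
  rw [hau, hlam] at q1
  rw [hav, hlam] at q2
  unfold qf at q1 q2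
  have z1 : (0 : F) ^ (1 + 2 ^ (m + 1)) = 0 := zero_pow (by positivity)
  simp only [z1, zero_mul, zero_add, add_zero] at q1 q2
  have s1 : P.fC u = P.s := by
    have h3 : P.act u * (P.fC u - P.s) = 0 := by
      have h2' : (2 : F) = 0 := CharTwo.two_eq_zero
      linear_combination q1 - P.s * P.act u * h2'
    exact sub_eq_zero.mp ((mul_eq_zero.mp h3).resolve_left hu0)
  have s2 : P.fC v = P.s := by
    have h3 : P.act v * (P.fC v - P.s) = 0 := by
      have h2' : (2 : F) = 0 := CharTwo.two_eq_zero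
      linear_combination q2 - P.s * P.act v * h2'
    exact sub_eq_zero.mp ((mul_eq_zero.mp h3).resolve_left hv0)
  have hfu : P.fC u ≠ 0 := by
    rcases hcon' with h | h
    · exact h
    · rw [hlam, zero_mul] at h
      exact absurd rfl h
  rw [s1, s2] at hI1
  rw [s1] at hfu
  exact hcc (mul_left_cancel₀ hfu hI1).symm

theorem fC_zero (B : P.Blk Y D) {u : G} (hu : u ∈ Y) (hu1 : u ≠ 1) :
    P.fC u = 0 ∧ P.lam * P.aC u ^ (2 ^ m) = 0 := by
  obtain ⟨v, hv, w, hw, hv1, hw1, hvw⟩ := B.two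
  by_cases h : u = v
  · subst h
    exact B.stepII hv hw hv1 hw1 hvw
  · exact B.stepII hu hv hu1 hv1 h

/-- Step III -/
theorem stepIII (B : P.Blk Y D) : P.s = 0 ∧ ∀ u ∈ Y, P.aC u = 0 := by
  obtain ⟨v, hv, w, hw, hv1, hw1, hvw⟩ := B.two
  have hq : ∀ u ∈ Y, P.aC u ^ (1 + 2 ^ (m + 1)) = P.s * P.act u := by
    intro u hu
    by_cases hu1 : u = 1
    · rw [hu1, P.aC_one, P.act_one, mul_zero, zero_pow (by positivity)]
    have h1 := B.qf_zero hu
    obtain ⟨h2, h3⟩ := B.fC_zero hu hu1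
    rw [h2] at h1
    unfold qf at h1
    rw [mul_zero, add_zero, mul_pow, ← mul_assoc, h3, zero_mul, add_zero] at h1
    have := eq_neg_of_add_eq_zero_left h1
    rwa [CharTwo.neg_eq] at this
  have hs : P.s = 0 := by
    by_contra hs
    have a1 : P.aC v ≠ 0 := by
      intro h
      have := hq v hv
      rw [h, zero_pow (by positivity)] at this
      exact (mul_ne_zero hs (B.act_ne hv hv1)) this.symm
    have a2 : P.aC w ≠ 0 := by
      intro h
      have := hq w hw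
      rw [h, zero_pow (by positivity)] at this
      exact (mul_ne_zero hs (B.act_ne hw hw1)) this.symm
    have h1 := hq _ (mul_mem hv hw)
    rw [P.aC_mul (B.le hv) (B.le hw), P.act_mul (B.le hv) (B.le hw), mul_add, ← hq v hv, ← hq w hw] at h1
    have e1 : ∀ a b : F, (a + b) ^ (1 + 2 ^ (m + 1)) = a ^ (1 + 2 ^ (m + 1)) + b ^ (1 + 2 ^ (m + 1)) +
        (a * b ^ (2 ^ (m + 1)) + a ^ (2 ^ (m + 1)) * b) := by
      intro a b
      rw [_root_.pow_add (a + b) 1, _root_.pow_add a 1, _root_.pow_add b 1, add_pow_char_pow a b 2 (m + 1)]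
      ring
    rw [e1] at h1
    have h2 : P.aC v * P.aC w ^ (2 ^ (m + 1)) + P.aC v ^ (2 ^ (m + 1)) * P.aC w = 0 := by
      linear_combination h1
    have h3 : (P.aC v / P.aC w) ^ (2 ^ (m + 1)) = P.aC v / P.aC w := by
      rw [div_pow, div_eq_div_iff (pow_ne_zero _ a2) a2]
      have := eq_neg_of_add_eq_zero_right h2
      rwa [CharTwo.neg_eq] at this
    rcases Cfsg.Agent.StdSz.FormAlg.eq_of_th_eq P.hF h3 with h4 | h4
    · exact absurd ((div_eq_zero_iff.mp h4).resolve_right a2) a1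
    · have h5 := (div_eq_one_iff_eq a2).mp h4
      have h6 := hq v hv
      rw [h5, hq w hw] at h6
      exact hvw (B.act_inj hv hw (mul_left_cancel₀ hs h6).symm)
  refine ⟨hs, fun u hu => ?_⟩
  have := hq u hu
  rw [hs, zero_mul, pow_eq_zero_iff (by positivity)] at this
  exact this

/-- **the structure of a second block** -/
theorem main (B : P.Blk Y D) : P.s = 0 ∧ P.lam = 0 ∧ (∀ y : F, y ∈ P.FR) ∧ ∀ u ∈ Y, P.fC u = 0 ∧ P.aC u = 0 := by
  obtain ⟨hs, ha⟩ := B.stepIII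
  have hf : ∀ u ∈ Y, P.fC u = 0 := by
    intro u hu
    by_cases hu1 : u = 1
    · rw [hu1, P.fC_one]
    · exact (B.fC_zero hu hu1).1
  obtain ⟨u, hu, v, hv, hu1, hv1, hne⟩ := B.two
  have hu0 := B.act_ne hu hu1
  have hv0 := B.act_ne hv hv1
  have hcc : P.act u ≠ P.act v := fun h => hne (B.act_inj hu hv h)
  have hrel : ∀ w ∈ Y, w ≠ 1 → ∀ x ∈ D, P.act w * P.fC x + P.lam * P.aC x ^ (2 ^ m) * P.act w ^ (2 ^ m) = 0 := by
    intro w hw _ x hx
    have h1 := B.cm_zero hw hx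
    rw [P.cm_crd (B.le hw) (B.Dle hx), hf w hw, ha w hw] at h1
    unfold bf at h1
    have z1 : (0 : F) ^ (2 ^ (m + 1)) = 0 := zero_pow (by positivity)
    have z2 : (0 : F) ^ (2 ^ m) = 0 := zero_pow (by positivity)
    simp only [z1, zero_mul, mul_zero, zero_add, add_zero, z2, mul_pow] at h1
    linear_combination h1
  have hqpos : 0 < Fintype.card F := Fintype.card_pos
  have hlam : P.lam = 0 := by
    by_contra hl
    -- `D` has coordinates `(0, 0, *)`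
    have h0 : ∀ x ∈ D, P.aC x = 0 ∧ P.fC x = 0 := by
      intro x hx
      have h1 := hrel u hu hu1 x hx
      have h2 := hrel v hv hv1 x hx
      have h3 : P.aC x = 0 := by
        by_contra hax
        apply hcc
        apply tau_inj P.hF hu0 hv0
        have h4 : (P.lam * P.aC x ^ (2 ^ m)) * (P.act u ^ (2 ^ m) * P.act v - P.act v ^ (2 ^ m) * P.act u) = 0 := by
          linear_combination P.act v * h1 - P.act u * h2
        exact sub_eq_zero.mp ((mul_eq_zero.mp h4).resolve_left (mul_ne_zero hl (pow_ne_zero _ hax)))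
      refine ⟨h3, ?_⟩
      rw [h3, zero_pow (by positivity), mul_zero, zero_mul, add_zero] at h1
      exact (mul_eq_zero.mp h1).resolve_left hu0
    obtain ⟨K1, hK1, hc1⟩ := exists_ker D P.act (fun x hx y hy => P.act_mul (B.Dle hx) (B.Dle hy))
    have hq := card_Z_le P (K := K1) (by
      intro x hx
      have h1 := (hK1 x).mp hx
      exact P.eq_z_of (B.Dle h1.1) (h0 x h1.1).2 (h0 x h1.1).1 h1.2)
    have him : Nat.card (P.act '' (D : Set G)) ≤ Fintype.card F := by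
      rw [← Nat.card_eq_fintype_card]
      exact Nat.card_le_card_of_injective (fun x : P.act '' (D : Set G) => (x : F)) Subtype.val_injective
    have e1 : Nat.card P.Q * Fintype.card F ^ 2 ≤ 1 * Fintype.card F ^ 2 := by
      calc Nat.card P.Q * Fintype.card F ^ 2 = Nat.card K1 * Nat.card (P.act '' (D : Set G)) := by
            rw [← B.card, hc1]
        _ ≤ Fintype.card F * Fintype.card F := Nat.mul_le_mul hq him
        _ = _ := by ring
    have e2 := Nat.le_of_mul_le_mul_right e1 (by positivity)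
    have := B.cardQ
    omega
  refine ⟨hs, hlam, ?_, fun u hu => ⟨hf u hu, ha u hu⟩⟩
  -- `D = {fC = 0}`
  have hD : ∀ x ∈ P.T, P.fC x = 0 → x ∈ D := by
    intro x hx h
    rw [B.cen u hu hu1 x hx]
    have h1 := P.cm_spec (B.le hu) hx
    rw [P.cm_crd (B.le hu) hx, h, hf u hu, ha u hu, hlam] at h1
    unfold bf at h1
    have z1 : (0 : F) ^ (2 ^ (m + 1)) = 0 := zero_pow (by positivity)
    simp only [z1, zero_mul, mul_zero, add_zero] at h1
    rw [P.p_zero, one_mul] at h1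
    exact h1
  -- count
  obtain ⟨K1, hK1, hc1⟩ := exists_ker D P.aC (fun x hx y hy => P.aC_mul (B.Dle hx) (B.Dle hy))
  have hK1D : ∀ x ∈ K1, x ∈ D := fun x hx => ((hK1 x).mp hx).1
  obtain ⟨K2, hK2, hc2⟩ := exists_ker K1 P.act
    (fun x hx y hy => P.act_mul (B.Dle (hK1D x hx)) (B.Dle (hK1D y hy)))
  have hcard : Fintype.card F ^ 3 ≤ Nat.card D := by
    have i1 : Nat.card (P.aC '' (D : Set G)) = Fintype.card F := by
      have : P.aC '' (D : Set G) = Set.univ := by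
        rw [Set.eq_univ_iff_forall]
        intro a
        refine ⟨P.p a 0, hD _ (P.T_p a 0) (P.fC_p a 0), P.aC_p a 0⟩
      rw [this, Nat.card_congr (Equiv.Set.univ F), Nat.card_eq_fintype_card]
    have i2 : Nat.card (P.act '' (K1 : Set G)) = Fintype.card F := by
      have : P.act '' (K1 : Set G) = Set.univ := by
        rw [Set.eq_univ_iff_forall]
        intro c
        refine ⟨P.ee c, (hK1 _).mpr ⟨hD _ (P.ee_mem c) (P.fC_ee c), P.aC_ee c⟩, P.act_ee c⟩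
      rw [this, Nat.card_congr (Equiv.Set.univ F), Nat.card_eq_fintype_card]
    have i3 : Fintype.card F ≤ Nat.card K2 := by
      rw [← Nat.card_eq_fintype_card]
      apply Nat.card_le_card_of_injective (fun b : F => (⟨P.p 0 b, (hK2 _).mpr ⟨(hK1 _).mpr
        ⟨hD _ (P.T_p 0 b) (P.fC_p 0 b), P.aC_p 0 b⟩, P.act_p 0 b⟩⟩ : K2))
      intro b b' h
      exact P.z_inj (congrArg Subtype.val h)
    rw [hc1, hc2, i1, i2]
    calc Fintype.card F ^ 3 = Fintype.card F * Fintype.card F * Fintype.card F := by ring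
      _ ≤ _ := Nat.mul_le_mul_right _ (Nat.mul_le_mul_right _ i3)
  rw [B.card] at hcard
  have hQ : Fintype.card F ≤ Nat.card P.Q := by
    have e : Fintype.card F * Fintype.card F ^ 2 ≤ Nat.card P.Q * Fintype.card F ^ 2 := by
      calc Fintype.card F * Fintype.card F ^ 2 = Fintype.card F ^ 3 := by ring
        _ ≤ _ := hcard
    exact Nat.le_of_mul_le_mul_right e (by positivity)
  intro y
  rw [← card_FR P] at hQ
  have htop : P.FR = ⊤ := by
    apply AddSubgroup.eq_top_of_le_card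
    rw [Nat.card_eq_fintype_card]
    exact hQ
  rw [htop]; trivial

end Blk

end Pre

end Cfsg.Agent.OddHalf.D4.Sz

end

-- merged: Cfsg.Agent.OddHalf.D4.Sz.SwapA
section

/-!
# ODD, D4, `K = Sz(q)`, `q ≥ 32`: elements normalizing `T₁`

An element `u` of `N(T₁)` either normalizes `P = Q × {p a b}`, or it swaps the two blocks `Q Z` and `E₀`. Formulas for
its action on the coordinates.
-/

set_option autoImplicit false
set_option linter.unusedSectionVars false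

namespace Cfsg.Agent.OddHalf.D4.Sz

open Subgroup Cfsg.Agent.StdSz.EquivMaps Cfsg.Agent.StdSz.SzMaps
open Cfsg.Agent.OddHalf.D4.CommConj (mem_cj card_cj mem_cj_mul)

section Field

variable {F : Type*} [Field F] [Fintype F] [CharP F 2] {m : ℕ}

/-- an involutory automorphism of a field with `2 ^ (2 m + 1)` elements is trivial -/
theorem sigma_id (hF : Fintype.card F = 2 ^ (2 * m + 1)) (σ : F →+* F) (h : ∀ x, σ (σ x) = x) (x : F) :
    σ x = x := by
  let _ : Algebra (ZMod 2) F := ZMod.algebra F 2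
  have : Fact (Nat.Prime 2) := ⟨Nat.prime_two⟩
  let e : F ≃+* F := { σ with
    invFun := σ
    left_inv := h
    right_inv := h }
  let a : F ≃ₐ[ZMod 2] F := AlgEquiv.ofRingEquiv (f := e) (fun r => by
    show σ (algebraMap (ZMod 2) F r) = _
    have : (σ.comp (algebraMap (ZMod 2) F)) = algebraMap (ZMod 2) F := Subsingleton.elim _ _
    exact congrArg (fun f : ZMod 2 →+* F => f r) this)
  have h1 : a ^ 2 = 1 := by
    rw [pow_two]
    ext x
    exact h x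
  have hfr : Module.finrank (ZMod 2) F = 2 * m + 1 := by
    have h1 : Fintype.card F = Fintype.card (ZMod 2) ^ Module.finrank (ZMod 2) F :=
      Module.card_eq_pow_finrank
    rw [hF, ZMod.card] at h1
    exact (Nat.pow_right_injective le_rfl h1).symm
  have h2 : orderOf a ∣ 2 := orderOf_dvd_of_pow_eq_one h1
  have h3 : orderOf a ∣ 2 * m + 1 := by
    rw [← hfr, ← IsGalois.card_aut_eq_finrank]
    exact orderOf_dvd_natCard a
  have h4 : orderOf a = 1 := by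
    have h5 : orderOf a ∣ 1 := by
      have h6 := Nat.dvd_sub h3 (Dvd.dvd.mul_right h2 m)
      rwa [Nat.add_sub_cancel_left] at h6
    exact Nat.dvd_one.mp h5
  have h5 : a = 1 := orderOf_eq_one_iff.mp h4
  have h6 : a x = x := by rw [h5]; rfl
  exact h6

/-- the field algebra of a swap -/
theorem alg_swap (hF : Fintype.card F = 2 ^ (2 * m + 1)) {α G H : F → F} (hα : ∀ x y, α (x + y) = α x + α y)
    (h : ∀ c r, α (c * r) = G r * H c) (hHG : ∀ r, H (G r) = r) :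
    (∀ x, α x = x) ∧ ∃ g k : F, g * k = 1 ∧ (∀ r, G r = g * r) ∧ ∀ c, H c = k * c := by
  have hα1 : α 1 = G 1 * H 1 := by rw [← h, mul_one]
  have hG : ∀ r, α r = G r * H 1 := fun r => by rw [← h, one_mul]
  have hH : ∀ c, α c = G 1 * H c := fun c => by rw [← h, mul_one]
  have h1 : α 1 ≠ 0 := by
    intro h0
    rw [h0] at hα1
    rcases mul_eq_zero.mp hα1.symm with h1 | h1
    · -- `G 1 = 0`, `α = 0`
      have h2 : ∀ c, α c = 0 := fun c => by rw [hH, h1, zero_mul]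
      have h3 : ∀ r, G r = 0 := by
        intro r
        have h4 := h (G 1) r
        rw [h2, hHG, mul_one] at h4
        exact h4.symm
      have h5 := hHG 1
      rw [h3, ← h3 0, hHG] at h5
      exact zero_ne_one h5
    · have h2 : ∀ c, α c = 0 := fun c => by rw [hG, h1, mul_zero]
      have h3 : ∀ r, G r = 0 := by
        intro r
        have h4 := h (G 1) r
        rw [h2, hHG, mul_one] at h4
        exact h4.symm
      have h5 := hHG 1
      rw [h3, ← h3 0, hHG] at h5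
      exact zero_ne_one h5
  have hG1 : G 1 ≠ 0 := fun h0 => h1 (by rw [hα1, h0, zero_mul])
  have hH1 : H 1 ≠ 0 := fun h0 => h1 (by rw [hα1, h0, mul_zero])
  -- `σ`
  have hmul : ∀ x y, α (x * y) * α 1 = α x * α y := by
    intro x y
    rw [h x y, hα1, hG y, hH x]
    ring
  let σ : F →+* F :=
    { toFun := fun x => α x / α 1
      map_one' := div_self h1
      map_mul' := by
        intro x y
        show α (x * y) / α 1 = α x / α 1 * (α y / α 1)
        field_simp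
        exact hmul x y
      map_zero' := by
        show α 0 / α 1 = 0
        have := hα 0 0
        rw [add_zero] at this
        have h0 : α 0 = 0 := add_eq_left.mp this.symm
        rw [h0, zero_div]
      map_add' := by
        intro x y
        show α (x + y) / α 1 = α x / α 1 + α y / α 1
        rw [hα, add_div] }
  have hσ : ∀ x, α x = α 1 * σ x := fun x => (mul_div_cancel₀ _ h1).symm
  have hG' : ∀ r, G r = G 1 * σ r := by
    intro r
    have h2 := hG r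
    rw [hσ, hα1] at h2
    have h3 : (G r - G 1 * σ r) * H 1 = 0 := by linear_combination -h2
    exact sub_eq_zero.mp ((mul_eq_zero.mp h3).resolve_right hH1)
  have hH' : ∀ c, H c = H 1 * σ c := by
    intro c
    have h2 := hH c
    rw [hσ, hα1] at h2
    have h3 : G 1 * (H c - H 1 * σ c) = 0 := by linear_combination -h2
    exact sub_eq_zero.mp ((mul_eq_zero.mp h3).resolve_left hG1)
  have hk : ∀ r, H 1 * σ (G 1) * σ (σ r) = r := by
    intro r
    have h2 := hHG r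
    rw [hH', hG', map_mul] at h2
    rw [mul_assoc]; exact h2
  have hk1 : H 1 * σ (G 1) = 1 := by
    have := hk 1
    rwa [map_one, map_one, mul_one] at this
  have hid : ∀ x, σ x = x := by
    apply sigma_id hF σ
    intro x
    have := hk x
    rwa [hk1, one_mul] at this
  rw [hid] at hk1
  have hα1' : α 1 = 1 := by rw [hα1, mul_comm, hk1]
  refine ⟨fun x => by rw [hσ, hα1', hid, one_mul], G 1, H 1, by rw [mul_comm, hk1], fun r => ?_, fun c => ?_⟩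
  · rw [hG', hid]
  · rw [hH', hid]

/-- the field algebra of an element preserving the blocks -/
theorem alg_fix {G H : F → F} {ν : F} (hν : ν ≠ 0) (h : ∀ c r, ν * (c * r) = H c * G r) :
    ∃ g k : F, g * k = ν ∧ (∀ r, G r = g * r) ∧ ∀ c, H c = k * c := by
  have h1 : ν = H 1 * G 1 := by rw [← h, mul_one, mul_one]
  have hG1 : G 1 ≠ 0 := fun h0 => hν (by rw [h1, h0, mul_zero])
  have hH1 : H 1 ≠ 0 := fun h0 => hν (by rw [h1, h0, zero_mul])
  refine ⟨G 1, H 1, by rw [h1, mul_comm], fun r => ?_, fun c => ?_⟩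
  · have h2 := h 1 r
    rw [one_mul, h1] at h2
    have h3 : H 1 * (G 1 * r - G r) = 0 := by linear_combination h2
    exact (sub_eq_zero.mp ((mul_eq_zero.mp h3).resolve_left hH1)).symm
  · have h2 := h c 1
    rw [mul_one, h1] at h2
    have h3 : (H 1 * c - H c) * G 1 = 0 := by linear_combination h2
    exact (sub_eq_zero.mp ((mul_eq_zero.mp h3).resolve_right hG1)).symm

end Field

namespace Pre

variable {G : Type*} [Group G] [Finite G] {F : Type*} [Field F] [Fintype F] [CharP F 2] {m : ℕ} (P : Pre G F m)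

include P in
theorem bt_zero {a : F} (h : ∀ b, a * b ^ (2 ^ (m + 1)) + a ^ (2 ^ (m + 1)) * b = 0) : a = 0 := by
  by_contra ha
  obtain ⟨g, hg0, hg, -⟩ := exists_gen P.hF
  have e1 := h 1
  rw [one_pow, mul_one, mul_one] at e1
  have e2 := h g
  have e3 : a ^ (2 ^ (m + 1)) = a := by
    have := eq_neg_of_add_eq_zero_right e1
    rwa [CharTwo.neg_eq] at this
  rw [e3, ← mul_add] at e2
  have e4 := (mul_eq_zero.mp e2).resolve_left ha
  have e5 : g ^ (2 ^ (m + 1)) = g := by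
    have := eq_neg_of_add_eq_zero_left e4
    rwa [CharTwo.neg_eq] at this
  rcases Cfsg.Agent.StdSz.FormAlg.eq_of_th_eq P.hF e5 with e6 | e6
  · exact hg0 e6
  · have e7 : g ^ 1 = g ^ 0 := by rw [pow_one, pow_zero, e6]
    rw [hg] at e7
    have hm := P.hm
    have h4 : 2 ^ 3 ≤ 2 ^ (2 * m + 1) := Nat.pow_le_pow_right (by norm_num) (by omega)
    have := Nat.ModEq.eq_of_lt_of_lt e7 (by omega) (by omega)
    omega

include P in
/-- some scalar is neither 0 nor 1 -/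
theorem exists_ne_one : ∃ c : F, c ≠ 0 ∧ c ≠ 1 := by
  obtain ⟨g, hg0, hg, -⟩ := exists_gen P.hF
  refine ⟨g, hg0, fun e6 => ?_⟩
  have e7 : g ^ 1 = g ^ 0 := by rw [pow_one, pow_zero, e6]
  rw [hg] at e7
  have hm := P.hm
  have h4 : 2 ^ 3 ≤ 2 ^ (2 * m + 1) := Nat.pow_le_pow_right (by norm_num) (by omega)
  have := Nat.ModEq.eq_of_lt_of_lt e7 (by omega) (by omega)
  omega

theorem card_PP : Nat.card P.PP = Nat.card P.Q * Fintype.card F ^ 2 := by
  have e : Nat.card (P.Q × F × F) = Nat.card P.PP := by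
    apply Nat.card_congr
    refine Equiv.ofBijective (fun x => (⟨(x.1 : G) * P.p x.2.1 x.2.2, P.rp_mem x.1.2 _ _⟩ : P.PP)) ⟨?_, ?_⟩
    · rintro ⟨r, a, b⟩ ⟨s, c, d⟩ h
      obtain ⟨h1, h2, h3⟩ := P.uniq r.2 s.2 (congrArg Subtype.val h)
      exact Prod.ext (Subtype.ext h1) (Prod.ext h2 h3)
    · rintro ⟨x, hx⟩
      obtain ⟨r, hr, a, b, rfl⟩ := P.exists_of_mem hx
      exact ⟨⟨⟨r, hr⟩, a, b⟩, rfl⟩
  rw [← e, Nat.card_prod, Nat.card_prod, Nat.card_eq_fintype_card (α := F)]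
  ring

/-- the elements of `Q - 1` have centralizer `P` in `T` -/
theorem comm_Q_iff {r x : G} (hr : r ∈ P.Q) (hr1 : r ≠ 1) (hx : x ∈ P.T) : x ∈ P.PP ↔ r * x = x * r := by
  have h1 := P.cm_Q hr hx
  have h2 := P.cm_spec (P.T_Q hr) hx
  have h3 : P.f r ≠ 0 := fun h0 => hr1 (P.f_inj r hr h0)
  constructor
  · intro h
    rw [h1, h.2, zero_mul, P.p_zero, one_mul] at h2
    exact h2
  · intro h
    refine ⟨hx, ?_⟩
    have h4 : P.cm r x = 0 := P.cm_eq (P.T_Q hr) hx (by rw [P.p_zero, one_mul, h])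
    rw [h1] at h4
    exact (mul_eq_zero.mp h4).resolve_right h3

/-! ### conjugation by elements of `N(T)` -/

theorem conj_T {u x : G} (hu : u ∈ normalizer (P.T : Set G)) (hx : x ∈ P.T) : u * x * u⁻¹ ∈ P.T :=
  (mem_normalizer_iff.mp hu x).mp hx

theorem conj_T' {u x : G} (hu : u ∈ normalizer (P.T : Set G)) (hx : x ∈ P.T) : u⁻¹ * x * u ∈ P.T := by
  have := P.conj_T (inv_mem hu) hx
  rwa [inv_inv] at this

theorem exists_al {u : G} (hu : u ∈ normalizer (P.T : Set G)) (b : F) : ∃ b', u * P.p 0 b * u⁻¹ = P.p 0 b' := by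
  apply P.mem_Z_of_central (P.conj_T hu (P.T_p 0 b))
  intro y hy
  have h1 := P.T_Z _ (P.conj_T' hu hy) b
  calc u * P.p 0 b * u⁻¹ * y = u * (P.p 0 b * (u⁻¹ * y * u)) * u⁻¹ := by group
    _ = u * ((u⁻¹ * y * u) * P.p 0 b) * u⁻¹ := by rw [h1]
    _ = y * (u * P.p 0 b * u⁻¹) := by group

/-- the action on `Z` -/
noncomputable def al (u : G) (b : F) : F := by
  classical exact if h : ∃ b', u * P.p 0 b * u⁻¹ = P.p 0 b' then h.choose else 0

theorem al_spec {u : G} (hu : u ∈ normalizer (P.T : Set G)) (b : F) : u * P.p 0 b * u⁻¹ = P.p 0 (P.al u b) := by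
  classical
  have h := P.exists_al hu b
  have : P.al u b = h.choose := by unfold al; exact dif_pos h
  rw [this]
  exact h.choose_spec

theorem al_eq {u : G} (hu : u ∈ normalizer (P.T : Set G)) {b b' : F} (h : u * P.p 0 b * u⁻¹ = P.p 0 b') :
    P.al u b = b' := P.z_inj (by rw [← P.al_spec hu, h])

theorem al_add {u : G} (hu : u ∈ normalizer (P.T : Set G)) (b b' : F) :
    P.al u (b + b') = P.al u b + P.al u b' := by
  apply P.al_eq hu
  rw [← P.z_mul, ← P.z_mul, ← P.al_spec hu, ← P.al_spec hu]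
  group

theorem sq_conj {u x : G} (hu : u ∈ normalizer (P.T : Set G)) (hx : x ∈ P.T) :
    P.sq (u * x * u⁻¹) = P.al u (P.sq x) := by
  apply P.sq_eq (P.conj_T hu hx)
  rw [← P.al_spec hu, ← P.sq_spec hx]
  group

theorem cm_conj {u x y : G} (hu : u ∈ normalizer (P.T : Set G)) (hx : x ∈ P.T) (hy : y ∈ P.T) :
    P.cm (u * x * u⁻¹) (u * y * u⁻¹) = P.al u (P.cm x y) := by
  apply P.cm_eq (P.conj_T hu hx) (P.conj_T hu hy)
  rw [← P.al_spec hu]
  have h1 := P.cm_spec hx hy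
  calc u * x * u⁻¹ * (u * y * u⁻¹) = u * (x * y) * u⁻¹ := by group
    _ = u * (P.p 0 (P.cm x y) * (y * x)) * u⁻¹ := by rw [← h1]
    _ = _ := by group

/-- equality of coordinates -/
def Eqc (x y : G) : Prop := P.fC x = P.fC y ∧ P.aC x = P.aC y ∧ P.act x = P.act y

theorem eqc_conj {u x y : G} (hu : u ∈ normalizer (P.T : Set G)) (hx : x ∈ P.T) (hy : y ∈ P.T) (h : P.Eqc x y) :
    P.Eqc (u * x * u⁻¹) (u * y * u⁻¹) := by
  obtain ⟨b, hb⟩ := P.exists_z_mul hx hy h.1 h.2.1 h.2.2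
  have h1 : u * x * u⁻¹ = P.p 0 (P.al u b) * (u * y * u⁻¹) := by
    rw [← P.al_spec hu, hb]; group
  have hy' := P.conj_T hu hy
  rw [h1]
  refine ⟨?_, ?_, ?_⟩
  · rw [P.fC_mul (P.T_p _ _) hy', P.fC_p, zero_add]
  · rw [P.aC_mul (P.T_p _ _) hy', P.aC_p, zero_add]
  · rw [P.act_mul (P.T_p _ _) hy', P.act_p, zero_add]

theorem fC_conj {t x : G} (ht : t ∈ P.T) (hx : x ∈ P.T) : P.fC (t * x * t⁻¹) = P.fC x := by
  rw [P.fC_mul (mul_mem ht hx) (inv_mem ht), P.fC_mul ht hx, P.fC_inv ht, add_comm (P.fC t), add_assoc,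
    CharTwo.add_self_eq_zero, add_zero]

theorem aC_conj {t x : G} (ht : t ∈ P.T) (hx : x ∈ P.T) : P.aC (t * x * t⁻¹) = P.aC x := by
  rw [P.aC_mul (mul_mem ht hx) (inv_mem ht), P.aC_mul ht hx, P.aC_inv ht, add_comm (P.aC t), add_assoc,
    CharTwo.add_self_eq_zero, add_zero]

theorem act_conj {t x : G} (ht : t ∈ P.T) (hx : x ∈ P.T) : P.act (t * x * t⁻¹) = P.act x := by
  rw [P.act_mul (mul_mem ht hx) (inv_mem ht), P.act_mul ht hx, P.act_inv ht, add_comm (P.act t), add_assoc,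
    CharTwo.add_self_eq_zero, add_zero]

/-! ### the global hypotheses -/

/-- the hypotheses on `T` in `G` -/
structure Glob : Prop where
  cardQ : 3 ≤ Nat.card P.Q
  noIdx : ∀ H : Subgroup G, H.index ≠ 2
  norm : ∀ y, y ∈ normalizer (P.T : Set G) → y ∈ normalizer (P.PP : Set G) → (∃ k : ℕ, y ^ 2 ^ k = 1) → y ∈ P.T
  notSyl : ∀ S : Sylow 2 G, (S : Subgroup G) ≠ P.T

/-- swapping elements -/
def Sw (u : G) : Prop := u ∈ normalizer (P.T : Set G) ∧ u ∉ normalizer (P.PP : Set G)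

variable {P}

theorem Sw.inv {u : G} (hu : P.Sw u) : P.Sw u⁻¹ := ⟨inv_mem hu.1, fun h => hu.2 (by simpa using inv_mem h)⟩

theorem Glob.blk (Gl : P.Glob) {u : G} (hu : P.Sw u) : P.Blk (CommConj.cj u P.Q) (CommConj.cj u P.PP) where
  le := by
    intro x hx
    rw [mem_cj] at hx
    have := P.conj_T hu.1 (P.T_Q hx)
    have e : u * (u⁻¹ * x * u) * u⁻¹ = x := by group
    rwa [e] at this
  sq := by
    intro y hy
    rw [mem_cj] at hy
    have h1 := P.Q_sq _ hy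
    calc y * y = u * ((u⁻¹ * y * u) * (u⁻¹ * y * u)) * u⁻¹ := by group
      _ = 1 := by rw [h1]; group
  inf := by
    intro y hy r hr b h
    by_contra hy1
    rw [mem_cj] at hy
    have hy' : u⁻¹ * y * u ≠ 1 := by
      intro h1
      apply hy1
      calc y = u * (u⁻¹ * y * u) * u⁻¹ := by group
        _ = 1 := by rw [h1]; group
    have hyT : y ∈ P.T := by
      rw [h]; exact mul_mem (P.T_Q hr) (P.T_p 0 b)
    -- `x ∈ cj u PP ↔ x commutes with y`
    have h1 : ∀ x ∈ P.T, u⁻¹ * x * u ∈ P.PP ↔ y * x = x * y := by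
      intro x hx
      rw [P.comm_Q_iff hy hy' (P.conj_T' hu.1 hx)]
      constructor
      · intro h2
        calc y * x = u * ((u⁻¹ * y * u) * (u⁻¹ * x * u)) * u⁻¹ := by group
          _ = u * ((u⁻¹ * x * u) * (u⁻¹ * y * u)) * u⁻¹ := by rw [h2]
          _ = x * y := by group
      · intro h2
        calc u⁻¹ * y * u * (u⁻¹ * x * u) = u⁻¹ * (y * x) * u := by group
          _ = u⁻¹ * (x * y) * u := by rw [h2]
          _ = u⁻¹ * x * u * (u⁻¹ * y * u) := by group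
    by_cases hr1 : r = 1
    · -- `y ∈ Z`
      rw [hr1, one_mul] at h
      have h2 : ∀ x ∈ P.T, P.act (u⁻¹ * x * u) = 0 := by
        intro x hx
        refine ((h1 x hx).mpr ?_).2
        rw [h, P.T_Z x hx]
      obtain ⟨x, hx, hx2⟩ := P.T_surj 1
      have h3 := h2 _ (P.conj_T hu.1 hx)
      have e : u⁻¹ * (u * x * u⁻¹) * u = x := by group
      rw [e, hx2] at h3
      exact one_ne_zero h3
    · -- `C_T(y) = PP`
      apply hu.2
      have h2 : ∀ x ∈ P.T, y * x = x * y ↔ x ∈ P.PP := by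
        intro x hx
        rw [P.comm_Q_iff hr hr1 hx, h]
        have hz := P.T_Z x hx b
        constructor
        · intro h3
          have h4 : P.p 0 b * (r * x) = P.p 0 b * (x * r) := by
            calc P.p 0 b * (r * x) = (P.p 0 b * r) * x := by group
              _ = (r * P.p 0 b) * x := by rw [P.T_Z r (P.T_Q hr)]
              _ = x * (r * P.p 0 b) := h3
              _ = (x * P.p 0 b) * r := by rw [P.T_Z r (P.T_Q hr)]; group
              _ = P.p 0 b * (x * r) := by rw [hz]; group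
          exact mul_left_cancel h4
        · intro h3
          calc r * P.p 0 b * x = r * (P.p 0 b * x) := by group
            _ = (r * x) * P.p 0 b := by rw [← hz]; group
            _ = x * (r * P.p 0 b) := by rw [h3]; group
      have h3 : ∀ x, x ∈ P.PP → u⁻¹ * x * u ∈ P.PP := fun x hx =>
        (h1 x (P.PP_le hx)).mpr ((h2 x (P.PP_le hx)).mpr hx)
      have h4 : u⁻¹ ∈ normalizer (P.PP : Set G) := by
        apply mem_normalizer_fintype
        intro x hx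
        have := h3 x hx
        simpa using this
      simpa using inv_mem h4
  two := by
    have h1 := Gl.cardQ
    classical
    obtain ⟨r, s, hr1, hs1, hrs⟩ : ∃ r s : P.Q, r ≠ 1 ∧ s ≠ 1 ∧ r ≠ s := by
      have h2 : 2 ≤ ((Set.univ : Set P.Q) \ {1}).ncard := by
        have h3 := Set.le_ncard_sdiff {(1 : P.Q)} (Set.univ : Set P.Q)
        rw [Set.ncard_singleton, Set.ncard_univ] at h3
        omega
      obtain ⟨r, s, hr, hs, hrs⟩ := (Set.one_lt_ncard_iff (Set.toFinite _)).mp h2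
      exact ⟨r, s, hr.2, hs.2, hrs⟩
    have key : ∀ r : P.Q, r ≠ 1 → u * (r : G) * u⁻¹ ≠ 1 := by
      intro r hr h
      apply hr
      apply Subtype.ext
      calc (r : G) = u⁻¹ * (u * r * u⁻¹) * u := by group
        _ = 1 := by rw [h]; group
    refine ⟨u * r * u⁻¹, mem_cj_mul r.2, u * s * u⁻¹, mem_cj_mul s.2, key r hr1, key s hs1, fun h => hrs ?_⟩
    apply Subtype.ext
    calc (r : G) = u⁻¹ * (u * r * u⁻¹) * u := by group
      _ = u⁻¹ * (u * s * u⁻¹) * u := by rw [h]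
      _ = s := by group
  Dle := by
    intro x hx
    rw [mem_cj] at hx
    have := P.conj_T hu.1 (P.PP_le hx)
    have e : u * (u⁻¹ * x * u) * u⁻¹ = x := by group
    rwa [e] at this
  cen := by
    intro y hy hy1 x hx
    rw [mem_cj] at hy ⊢
    have hy' : u⁻¹ * y * u ≠ 1 := by
      intro h1
      apply hy1
      calc y = u * (u⁻¹ * y * u) * u⁻¹ := by group
        _ = 1 := by rw [h1]; group
    rw [P.comm_Q_iff hy hy' (P.conj_T' hu.1 hx)]
    constructor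
    · intro h2
      calc y * x = u * ((u⁻¹ * y * u) * (u⁻¹ * x * u)) * u⁻¹ := by group
        _ = u * ((u⁻¹ * x * u) * (u⁻¹ * y * u)) * u⁻¹ := by rw [h2]
        _ = x * y := by group
    · intro h2
      calc u⁻¹ * y * u * (u⁻¹ * x * u) = u⁻¹ * (y * x) * u := by group
        _ = u⁻¹ * (x * y) * u := by rw [h2]
        _ = u⁻¹ * x * u * (u⁻¹ * y * u) := by group
  card := by rw [card_cj, P.card_PP]
  cardQ := Gl.cardQ

/-- the forms simplify -/
structure Simp (P : Pre G F m) : Prop where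
  s : P.s = 0
  lam : P.lam = 0
  full : ∀ y : F, y ∈ P.FR

theorem Glob.simp (Gl : P.Glob) {u : G} (hu : P.Sw u) : Simp P :=
  ⟨(Gl.blk hu).main.1, (Gl.blk hu).main.2.1, (Gl.blk hu).main.2.2.1⟩

theorem Simp.cm (Si : Simp P) {x y : G} (hx : x ∈ P.T) (hy : y ∈ P.T) :
    P.cm x y = P.aC x * P.aC y ^ (2 ^ (m + 1)) + P.aC x ^ (2 ^ (m + 1)) * P.aC y +
      (P.act x * P.fC y + P.act y * P.fC x) := by
  rw [P.cm_crd hx hy, Si.lam]
  unfold bf
  ring

theorem Simp.sq (Si : Simp P) {x : G} (hx : x ∈ P.T) :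
    P.sq x = P.aC x ^ (1 + 2 ^ (m + 1)) + P.act x * P.fC x := by
  rw [P.sq_crd hx, Si.lam, Si.s]
  unfold qf
  ring

/-- an element of `Q` with coordinate `r` -/
noncomputable def qq (Si : Simp P) (r : F) : G := (Si.full r).choose

theorem qq_mem (Si : Simp P) (r : F) : qq Si r ∈ P.Q := (Si.full r).choose_spec.1

theorem f_qq (Si : Simp P) (r : F) : P.f (qq Si r) = r := (Si.full r).choose_spec.2

theorem fC_qq (Si : Simp P) (r : F) : P.fC (qq Si r) = r := by rw [P.fC_Q (qq_mem Si r), f_qq]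

theorem aC_qq (Si : Simp P) (r : F) : P.aC (qq Si r) = 0 := P.aC_Q (qq_mem Si r)

theorem act_qq (Si : Simp P) (r : F) : P.act (qq Si r) = 0 := P.act_Q (qq_mem Si r)

theorem qq_T (Si : Simp P) (r : F) : qq Si r ∈ P.T := P.T_Q (qq_mem Si r)

/-- (S1) -/
theorem Sw.s1 (Gl : P.Glob) {u : G} (hu : P.Sw u) {x : G} (hx : x ∈ P.T) (h1 : P.aC x = 0) (h2 : P.act x = 0) :
    P.fC (u * x * u⁻¹) = 0 ∧ P.aC (u * x * u⁻¹) = 0 := by
  have Si := Gl.simp hu
  have h3 := P.eqc_conj hu.1 hx (qq_T Si (P.fC x)) ⟨(fC_qq Si _).symm, by rw [h1, aC_qq], by rw [h2, act_qq]⟩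
  rw [h3.1, h3.2.1]
  exact (Gl.blk hu).main.2.2.2 _ (mem_cj_mul (qq_mem Si _))

/-- (S2) -/
theorem Sw.s2 (Gl : P.Glob) {u : G} (hu : P.Sw u) {x : G} (hx : x ∈ P.T) (h1 : P.fC x = 0) (h2 : P.aC x = 0) :
    P.aC (u * x * u⁻¹) = 0 ∧ P.act (u * x * u⁻¹) = 0 := by
  have Si := Gl.simp hu
  have B := Gl.blk hu.inv
  -- `act` maps `cj u⁻¹ Q` onto `F`
  have hinj : Function.Injective (fun y : CommConj.cj u⁻¹ P.Q => P.act (y : G)) := fun y z h => Subtype.ext (B.act_inj y.2 z.2 h)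
  have hcard : Nat.card (CommConj.cj u⁻¹ P.Q) = Nat.card F := by
    rw [card_cj, ← Blk.card_FR P]
    have : P.FR = ⊤ := by
      rw [eq_top_iff]
      intro y _
      exact Si.full y
    rw [this]
    exact AddSubgroup.card_top
  have hsurj : Function.Surjective (fun y : CommConj.cj u⁻¹ P.Q => P.act (y : G)) :=
    ((Nat.bijective_iff_injective_and_card _).mpr ⟨hinj, hcard⟩).2
  obtain ⟨y, hy⟩ := hsurj (P.act x)
  have hy2 := B.main.2.2.2 _ y.2
  have h3 := P.eqc_conj hu.1 hx (B.le y.2) ⟨by rw [h1, hy2.1], by rw [h2, hy2.2], hy.symm⟩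
  rw [h3.2.1, h3.2.2]
  have h4 := mem_cj.mp y.2
  rw [inv_inv] at h4
  exact ⟨P.aC_Q h4, P.act_Q h4⟩

/-- (S3) -/
theorem Sw.s3 (Gl : P.Glob) {u : G} (hu : P.Sw u) {x : G} (hx : x ∈ P.T) (h1 : P.fC x = 0) (h2 : P.act x = 0) :
    P.fC (u * x * u⁻¹) = 0 ∧ P.act (u * x * u⁻¹) = 0 := by
  have Si := Gl.simp hu
  have hux := P.conj_T hu.1 hx
  constructor
  · -- commutes with `u (r, 0, 0) u⁻¹ = (0, 0, 1)`
    have e : ∀ c, P.fC (u⁻¹ * P.ee c * u) = P.fC (u⁻¹ * P.ee c * u) ∧ P.aC (u⁻¹ * P.ee c * u) = 0 ∧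
        P.act (u⁻¹ * P.ee c * u) = 0 := by
      intro c
      have := hu.inv.s2 Gl (P.ee_mem c) (P.fC_ee c) (P.aC_ee c)
      rw [inv_inv] at this
      exact ⟨rfl, this⟩
    have hy := P.conj_T' hu.1 (P.ee_mem 1)
    have h3 := P.cm_conj hu.1 hx hy
    have e1 : u * (u⁻¹ * P.ee 1 * u) * u⁻¹ = P.ee 1 := by group
    rw [e1, Si.cm hux (P.ee_mem 1), Si.cm hx hy, P.aC_ee, P.fC_ee, P.act_ee, (e 1).2.1, (e 1).2.2, h1, h2] at h3
    have z1 : (0 : F) ^ (2 ^ (m + 1)) = 0 := zero_pow (by positivity)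
    simp only [z1, mul_zero, zero_mul, add_zero, zero_add, one_mul] at h3
    rw [h3]
    apply P.al_eq hu.1
    rw [P.p_zero]; group
  · have e : P.fC (u⁻¹ * qq Si 1 * u) = 0 ∧ P.aC (u⁻¹ * qq Si 1 * u) = 0 := by
      have := hu.inv.s1 Gl (qq_T Si 1) (aC_qq Si 1) (act_qq Si 1)
      rwa [inv_inv] at this
    have hy := P.conj_T' hu.1 (qq_T Si 1)
    have h3 := P.cm_conj hu.1 hx hy
    have e1 : u * (u⁻¹ * qq Si 1 * u) * u⁻¹ = qq Si 1 := by group
    rw [e1, Si.cm hux (qq_T Si 1), Si.cm hx hy, aC_qq, fC_qq, act_qq, e.1, e.2, h1, h2] at h3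
    have z1 : (0 : F) ^ (2 ^ (m + 1)) = 0 := zero_pow (by positivity)
    simp only [z1, mul_zero, zero_mul, add_zero, zero_add, mul_one] at h3
    rw [h3]
    apply P.al_eq hu.1
    rw [P.p_zero]; group

/-- decomposition of an element -/
theorem decomp (Si : Simp P) {x : G} (hx : x ∈ P.T) :
    P.Eqc x (qq Si (P.fC x) * (P.p (P.aC x) 0 * P.ee (P.act x))) := by
  have h1 := qq_T Si (P.fC x)
  have h2 := P.T_p (P.aC x) 0
  have h3 := P.ee_mem (P.act x)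
  refine ⟨?_, ?_, ?_⟩
  · rw [P.fC_mul h1 (mul_mem h2 h3), P.fC_mul h2 h3, fC_qq, P.fC_p, P.fC_ee, add_zero, add_zero]
  · rw [P.aC_mul h1 (mul_mem h2 h3), P.aC_mul h2 h3, aC_qq, P.aC_p, P.aC_ee, add_zero, zero_add]
  · rw [P.act_mul h1 (mul_mem h2 h3), P.act_mul h2 h3, act_qq, P.act_p, P.act_ee, zero_add, zero_add]

theorem decomp_mem (Si : Simp P) (x : G) : qq Si (P.fC x) * (P.p (P.aC x) 0 * P.ee (P.act x)) ∈ P.T :=
  mul_mem (qq_T Si _) (mul_mem (P.T_p _ _) (P.ee_mem _))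

/-- coordinates of the conjugate -/
theorem conj_decomp (Si : Simp P) {u x : G} (hu : u ∈ normalizer (P.T : Set G)) (hx : x ∈ P.T) :
    P.Eqc (u * x * u⁻¹) ((u * qq Si (P.fC x) * u⁻¹) * ((u * P.p (P.aC x) 0 * u⁻¹) * (u * P.ee (P.act x) * u⁻¹))) := by
  have h1 := P.eqc_conj hu hx (decomp_mem Si x) (decomp Si hx)
  have e : u * (qq Si (P.fC x) * (P.p (P.aC x) 0 * P.ee (P.act x))) * u⁻¹ =
      (u * qq Si (P.fC x) * u⁻¹) * ((u * P.p (P.aC x) 0 * u⁻¹) * (u * P.ee (P.act x) * u⁻¹)) := by group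
  rwa [e] at h1

/-- coordinates of the conjugate under a swap -/
theorem Sw.crd (Gl : P.Glob) {u : G} (hu : P.Sw u) {x : G} (hx : x ∈ P.T) :
    P.fC (u * x * u⁻¹) = P.fC (u * P.ee (P.act x) * u⁻¹) ∧
      P.aC (u * x * u⁻¹) = P.aC (u * P.p (P.aC x) 0 * u⁻¹) ∧
      P.act (u * x * u⁻¹) = P.act (u * qq (Gl.simp hu) (P.fC x) * u⁻¹) := by
  have Si := Gl.simp hu
  obtain ⟨h1, h2, h3⟩ := conj_decomp Si hu.1 hx
  have m1 := P.conj_T hu.1 (qq_T Si (P.fC x))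
  have m2 := P.conj_T hu.1 (P.T_p (P.aC x) 0)
  have m3 := P.conj_T hu.1 (P.ee_mem (P.act x))
  obtain ⟨a1, a2⟩ := hu.s1 Gl (qq_T Si (P.fC x)) (aC_qq Si _) (act_qq Si _)
  obtain ⟨b1, b2⟩ := hu.s3 Gl (P.T_p (P.aC x) 0) (P.fC_p _ _) (P.act_p _ _)
  obtain ⟨c1, c2⟩ := hu.s2 Gl (P.ee_mem (P.act x)) (P.fC_ee _) (P.aC_ee _)
  refine ⟨?_, ?_, ?_⟩
  · rw [h1, P.fC_mul m1 (mul_mem m2 m3), P.fC_mul m2 m3, a1, b1, zero_add, zero_add]
  · rw [h2, P.aC_mul m1 (mul_mem m2 m3), P.aC_mul m2 m3, a2, c1, zero_add, add_zero]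
  · rw [h3, P.act_mul m1 (mul_mem m2 m3), P.act_mul m2 m3, b2, c2, add_zero, add_zero]

/-- the product of two swaps is not a swap -/
theorem Sw.mul (Gl : P.Glob) {u v : G} (hu : P.Sw u) (hv : P.Sw v) : u * v ∈ normalizer (P.PP : Set G) := by
  have Si := Gl.simp hu
  apply mem_normalizer_fintype
  intro x hx
  have hxT := P.PP_le hx
  have h1 := P.conj_T hv.1 hxT
  have e : u * v * x * (u * v)⁻¹ = u * (v * x * v⁻¹) * u⁻¹ := by group
  rw [e]
  refine ⟨P.conj_T hu.1 h1, ?_⟩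
  have h2 : P.fC (v * x * v⁻¹) = 0 := by
    rw [(hv.crd Gl hxT).1, hx.2]
    -- `ee 0` has coordinates 0
    have h3 := P.eqc_conj hv.1 (P.ee_mem 0) (one_mem P.T) ⟨by rw [P.fC_ee, P.fC_one], by rw [P.aC_ee, P.aC_one],
      by rw [P.act_ee, P.act_one]⟩
    rw [h3.1, mul_one, mul_inv_cancel, P.fC_one]
  rw [(hu.crd Gl h1).2.2, h2]
  have h3 := P.eqc_conj hu.1 (qq_T (Gl.simp hu) 0) (one_mem P.T) ⟨by rw [fC_qq, P.fC_one], by rw [aC_qq, P.aC_one],
      by rw [act_qq, P.act_one]⟩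
  rw [h3.2.2, mul_one, mul_inv_cancel, P.act_one]

theorem Sw.mul_N {u n : G} (hu : P.Sw u) (hn : n ∈ normalizer (P.T : Set G)) (hn' : n ∈ normalizer (P.PP : Set G)) :
    P.Sw (n * u) :=
  ⟨mul_mem hn hu.1, fun h => hu.2 (by
    have := mul_mem (inv_mem hn') h
    rwa [inv_mul_cancel_left] at this)⟩

/-- the normal form of a swap whose square lies in `T` -/
structure YS (P : Pre G F m) (y : G) (g k : F) : Prop where
  nT : y ∈ normalizer (P.T : Set G)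
  sq : y * y ∈ P.T
  z : ∀ b, y * P.p 0 b * y⁻¹ = P.p 0 b
  f : ∀ x ∈ P.T, P.fC (y * x * y⁻¹) = k * P.act x
  a : ∀ x ∈ P.T, P.aC (y * x * y⁻¹) = P.aC x
  c : ∀ x ∈ P.T, P.act (y * x * y⁻¹) = g * P.fC x
  gk : g * k = 1

theorem Glob.exists_YS (Gl : P.Glob) {y : G} (hy : P.Sw y) (hyy : y * y ∈ P.T) : ∃ g k, YS P y g k := by
  have Si := Gl.simp hy
  obtain ⟨h1, g, k, hgk, hG, hH⟩ := alg_swap (m := m) P.hF (α := P.al y) (G := fun r => P.act (y * qq Si r * y⁻¹))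
    (H := fun c => P.fC (y * P.ee c * y⁻¹)) (P.al_add hy.1) (by
      intro c r
      have h2 := P.cm_conj hy.1 (P.ee_mem c) (qq_T Si r)
      have m1 := P.conj_T hy.1 (P.ee_mem c)
      have m2 := P.conj_T hy.1 (qq_T Si r)
      obtain ⟨a1, a2⟩ := hy.s1 Gl (qq_T Si r) (aC_qq Si _) (act_qq Si _)
      obtain ⟨c1, c2⟩ := hy.s2 Gl (P.ee_mem c) (P.fC_ee _) (P.aC_ee _)
      rw [Si.cm m1 m2, Si.cm (P.ee_mem c) (qq_T Si r), a1, a2, c1, c2, fC_qq, aC_qq, act_qq, P.aC_ee, P.act_ee,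
        P.fC_ee] at h2
      have z1 : (0 : F) ^ (2 ^ (m + 1)) = 0 := zero_pow (by positivity)
      simp only [z1, mul_zero, zero_mul, add_zero, zero_add] at h2
      exact h2.symm) (by
      intro r
      have h2 := (hy.crd Gl (P.conj_T hy.1 (qq_T Si r))).1
      have e : y * (y * qq Si r * y⁻¹) * y⁻¹ = (y * y) * qq Si r * (y * y)⁻¹ := by group
      rw [e, P.fC_conj hyy (qq_T Si r), fC_qq] at h2
      exact h2.symm)
  refine ⟨g, k, hy.1, hyy, fun b => ?_, fun x hx => ?_, fun x hx => ?_, fun x hx => ?_, hgk⟩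
  · rw [P.al_spec hy.1, h1]
  · rw [(hy.crd Gl hx).1]
    exact hH _
  · rw [(hy.crd Gl hx).2.1]
    have h2 := P.sq_conj hy.1 (P.T_p (P.aC x) 0)
    obtain ⟨b1, b2⟩ := hy.s3 Gl (P.T_p (P.aC x) 0) (P.fC_p _ _) (P.act_p _ _)
    rw [h1, Si.sq (P.conj_T hy.1 (P.T_p _ _)), P.sq_p, b1, b2, mul_zero, add_zero] at h2
    exact Cfsg.Agent.StdSz.FormAlg.norm_inj P.hF h2
  · rw [(hy.crd Gl hx).2.2]
    exact hG _

theorem YS.g_ne {y : G} {g k : F} (Y : YS P y g k) : g ≠ 0 := fun h => by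
  have := Y.gk; rw [h, zero_mul] at this; exact zero_ne_one this

theorem YS.k_ne {y : G} {g k : F} (Y : YS P y g k) : k ≠ 0 := fun h => by
  have := Y.gk; rw [h, mul_zero] at this; exact zero_ne_one this

theorem YS.mul_left {y : G} {g k : F} (Y : YS P y g k) {t : G} (ht : t ∈ P.T) : YS P (t * y) g k where
  nT := mul_mem (le_normalizer ht) Y.nT
  sq := by
    have h1 := P.conj_T Y.nT ht
    have e : t * y * (t * y) = t * (y * t * y⁻¹) * (y * y) := by group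
    rw [e]
    exact mul_mem (mul_mem ht h1) Y.sq
  z := by
    intro b
    have e : t * y * P.p 0 b * (t * y)⁻¹ = t * (y * P.p 0 b * y⁻¹) * t⁻¹ := by group
    rw [e, Y.z, P.T_Z t ht, mul_inv_cancel_right]
  f := by
    intro x hx
    have e : t * y * x * (t * y)⁻¹ = t * (y * x * y⁻¹) * t⁻¹ := by group
    rw [e, P.fC_conj ht (P.conj_T Y.nT hx), Y.f x hx]
  a := by
    intro x hx
    have e : t * y * x * (t * y)⁻¹ = t * (y * x * y⁻¹) * t⁻¹ := by group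
    rw [e, P.aC_conj ht (P.conj_T Y.nT hx), Y.a x hx]
  c := by
    intro x hx
    have e : t * y * x * (t * y)⁻¹ = t * (y * x * y⁻¹) * t⁻¹ := by group
    rw [e, P.act_conj ht (P.conj_T Y.nT hx), Y.c x hx]
  gk := Y.gk

theorem YS.notMem {y : G} {g k : F} (Y : YS P y g k) : y ∉ P.T := by
  intro h
  have h1 := Y.f (P.ee 1) (P.ee_mem 1)
  rw [P.fC_conj h (P.ee_mem 1), P.fC_ee, P.act_ee, mul_one] at h1
  exact Y.k_ne h1.symm

end Pre

end Cfsg.Agent.OddHalf.D4.Sz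

end

-- merged: Cfsg.Agent.OddHalf.D4.Sz.SwapB
section

/-!
# ODD, D4, `K = Sz(q)`, `q ≥ 32`: `S = T₁⟨y⟩`

If `T₁` is not a Sylow 2-subgroup then a Sylow 2-subgroup is `T₁⟨y⟩` with `y` a swap.
-/

set_option autoImplicit false
set_option linter.unusedSectionVars false

namespace Cfsg.Agent.OddHalf.D4.Sz

open Subgroup Cfsg.Agent.StdSz.EquivMaps Cfsg.Agent.StdSz.SzMaps

namespace Pre

variable {G : Type*} [Group G] [Finite G] {F : Type*} [Field F] [Fintype F] [CharP F 2] {m : ℕ} {P : Pre G F m}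

/-- the group `T ∪ T y` -/
def YS.grp {y : G} {g k : F} (Y : YS P y g k) : Subgroup G where
  carrier := {x | x ∈ P.T ∨ x * y⁻¹ ∈ P.T}
  one_mem' := Or.inl (one_mem _)
  mul_mem' := by
    rintro a b (ha | ha) (hb | hb)
    · exact Or.inl (mul_mem ha hb)
    · right
      rw [mul_assoc]
      exact mul_mem ha hb
    · right
      have h1 := P.conj_T Y.nT hb
      have e : a * b * y⁻¹ = (a * y⁻¹) * (y * b * y⁻¹) := by group
      rw [e]
      exact mul_mem ha h1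
    · left
      have h1 := P.conj_T Y.nT hb
      have e : a * b = (a * y⁻¹) * (y * (b * y⁻¹) * y⁻¹) * (y * y) := by group
      rw [e]
      exact mul_mem (mul_mem ha h1) Y.sq
  inv_mem' := by
    rintro a (ha | ha)
    · exact Or.inl (inv_mem ha)
    · right
      have h1 := P.conj_T' Y.nT (inv_mem ha)
      have e : a⁻¹ * y⁻¹ = (y⁻¹ * (a * y⁻¹)⁻¹ * y) * (y * y)⁻¹ := by group
      rw [e]
      exact mul_mem h1 (inv_mem Y.sq)

theorem YS.mem_grp {y : G} {g k : F} (Y : YS P y g k) {x : G} : x ∈ Y.grp ↔ x ∈ P.T ∨ x * y⁻¹ ∈ P.T := Iff.rfl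

theorem YS.mul_right {y : G} {g k : F} (Y : YS P y g k) {x : G} (hx : x * y⁻¹ ∈ P.T) : YS P x g k := by
  have := Y.mul_left hx
  rwa [inv_mul_cancel_right] at this

/-- the product of two elements outside `T` is in `T` -/
theorem YS.mul_out {y : G} {g k : F} (Y : YS P y g k) {a b : G} (ha : a * y⁻¹ ∈ P.T) (hb : b * y⁻¹ ∈ P.T) :
    a * b ∈ P.T := by
  have h1 := P.conj_T Y.nT hb
  have e : a * b = (a * y⁻¹) * (y * (b * y⁻¹) * y⁻¹) * (y * y) := by group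
  rw [e]
  exact mul_mem (mul_mem ha h1) Y.sq

/-- the centre of `T⟨y⟩` -/
theorem YS.mem_Z {y : G} {g k : F} (Y : YS P y g k) {x : G} (hx : x ∈ Y.grp) (h : ∀ z ∈ P.T, x * z = z * x) :
    ∃ b, x = P.p 0 b := by
  rcases hx with hx | hx
  · exact P.mem_Z_of_central hx h
  · exfalso
    have Y' := Y.mul_right hx
    have h1 := Y'.f (P.ee 1) (P.ee_mem 1)
    rw [h _ (P.ee_mem 1), mul_inv_cancel_right, P.fC_ee, P.act_ee, mul_one] at h1
    exact Y.k_ne h1.symm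

/-- `S = T⟨y⟩` -/
structure Full (P : Pre G F m) (S : Sylow 2 G) (y : G) (g k : F) : Prop where
  TS : P.T ≤ S
  yS : y ∈ (S : Subgroup G)
  ys : YS P y g k
  cov : ∀ x ∈ (S : Subgroup G), x ∈ P.T ∨ x * y⁻¹ ∈ P.T

theorem Glob.exists_Full (Gl : P.Glob) : ∃ (S : Sylow 2 G) (y : G) (g k : F), Full P S y g k := by
  have h2 : Fact (Nat.Prime 2) := ⟨Nat.prime_two⟩
  obtain ⟨S, hTS⟩ := P.T_two.exists_le_sylow
  have hne : ¬ (S : Subgroup G) ≤ P.T := fun h => Gl.notSyl S (le_antisymm h hTS)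
  have h2el : ∀ x ∈ (S : Subgroup G), ∃ k : ℕ, x ^ 2 ^ k = 1 := by
    intro x hx
    obtain ⟨k, hk⟩ := S.2 ⟨x, hx⟩
    exact ⟨k, by simpa using congrArg Subtype.val hk⟩
  obtain ⟨y, hyS, hyT, hyy, hyN⟩ := CommConj.exists_norm_elt S.2 hTS le_rfl
    (fun s hs b hb => mul_mem (mul_mem hs hb) (inv_mem hs)) hne
  have hsw : P.Sw y := ⟨hyN, fun h => hyT (Gl.norm y hyN h (h2el y hyS))⟩
  obtain ⟨g, k, Y⟩ := Gl.exists_YS hsw hyy
  refine ⟨S, y, g, k, hTS, hyS, Y, ?_⟩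
  have hle : Y.grp ≤ (S : Subgroup G) := by
    intro x hx
    rcases hx with hx | hx
    · exact hTS hx
    · have := mul_mem (hTS hx) hyS
      rwa [inv_mul_cancel_right] at this
  by_contra hcon
  have hne2 : ¬ (S : Subgroup G) ≤ Y.grp := fun h => hcon fun x hx => h hx
  obtain ⟨u, huS, hu1, -, huN⟩ := CommConj.exists_norm_elt S.2 hle le_rfl
    (fun s hs b hb => mul_mem (mul_mem hs hb) (inv_mem hs)) hne2
  have hTg : P.T ≤ Y.grp := fun x hx => Or.inl hx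
  have hc : ∀ {x}, x ∈ Y.grp → u * x * u⁻¹ ∈ Y.grp := fun hx => (mem_normalizer_iff.mp huN _).mp hx
  have hc' : ∀ {x}, x ∈ Y.grp → u⁻¹ * x * u ∈ Y.grp := fun {x} hx => by
    have := (mem_normalizer_iff.mp (inv_mem huN) x).mp hx
    rwa [inv_inv] at this
  -- `Z` is centralized by `grp`
  have hZc : ∀ b, ∀ x ∈ Y.grp, x * P.p 0 b = P.p 0 b * x := by
    intro b x hx
    rcases hx with hx | hx
    · exact P.T_Z x hx b
    · have := (Y.mul_right hx).z b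
      calc x * P.p 0 b = (x * P.p 0 b * x⁻¹) * x := by group
        _ = _ := by rw [this]
  -- `u` normalizes `Z`
  have hZu : ∀ b, ∃ b', u * P.p 0 b * u⁻¹ = P.p 0 b' := by
    intro b
    apply Y.mem_Z (hc (hTg (P.T_p 0 b)))
    intro z hz
    have h1 := hZc b _ (hc' (hTg hz))
    calc u * P.p 0 b * u⁻¹ * z = u * (P.p 0 b * (u⁻¹ * z * u)) * u⁻¹ := by group
      _ = u * ((u⁻¹ * z * u) * P.p 0 b) * u⁻¹ := by rw [h1]
      _ = z * (u * P.p 0 b * u⁻¹) := by group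
  -- `u` normalizes `T`
  have huT : u ∈ normalizer (P.T : Set G) := by
    apply mem_normalizer_fintype
    intro t ht
    by_contra hw
    have hw' : u * t * u⁻¹ * y⁻¹ ∈ P.T := (hc (hTg ht)).resolve_left hw
    have Y' := Y.mul_right hw'
    -- no element with `f = 0`, `act ≠ 0` comes from `T`
    have key : ∀ x ∈ P.T, P.fC x = 0 → P.act x ≠ 0 → u⁻¹ * x * u ∉ P.T := by
      intro x hx h1 h3 h4
      obtain ⟨b, hb⟩ := P.exists_comm ht h4
      obtain ⟨b', hb'⟩ := hZu b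
      have h5 : u * t * u⁻¹ * x * (u * t * u⁻¹)⁻¹ = P.p 0 b' * x := by
        rw [← hb']
        calc u * t * u⁻¹ * x * (u * t * u⁻¹)⁻¹ = u * (t * (u⁻¹ * x * u)) * t⁻¹ * u⁻¹ := by group
          _ = u * (P.p 0 b * (u⁻¹ * x * u * t)) * t⁻¹ * u⁻¹ := by rw [hb]
          _ = _ := by group
      have h6 := Y'.f x hx
      rw [h5, P.fC_mul (P.T_p _ _) hx, P.fC_p, zero_add, h1] at h6
      rcases mul_eq_zero.mp h6.symm with h7 | h7
      · exact Y.k_ne h7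
      · exact h3 h7
    obtain ⟨c, hc0, hc1⟩ := P.exists_ne_one
    have k1 := key (P.ee 1) (P.ee_mem 1) (P.fC_ee 1) (by rw [P.act_ee]; exact one_ne_zero)
    have k2 := key (P.ee c) (P.ee_mem c) (P.fC_ee c) (by rw [P.act_ee]; exact hc0)
    have k3 := key (P.ee 1 * P.ee c) (mul_mem (P.ee_mem 1) (P.ee_mem c))
      (by rw [P.fC_mul (P.ee_mem 1) (P.ee_mem c), P.fC_ee, P.fC_ee, add_zero])
      (by
        rw [P.act_mul (P.ee_mem 1) (P.ee_mem c), P.act_ee, P.act_ee]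
        intro h
        apply hc1
        have h8 := eq_neg_of_add_eq_zero_left h
        rw [CharTwo.neg_eq] at h8
        exact h8.symm)
    have l1 := (hc' (hTg (P.ee_mem 1))).resolve_left k1
    have l2 := (hc' (hTg (P.ee_mem c))).resolve_left k2
    apply k3
    have h9 := Y.mul_out l1 l2
    have e : u⁻¹ * P.ee 1 * u * (u⁻¹ * P.ee c * u) = u⁻¹ * (P.ee 1 * P.ee c) * u := by group
    rwa [e] at h9
  have huP : u ∉ normalizer (P.PP : Set G) := fun h => hu1 (hTg (Gl.norm u huT h (h2el u huS)))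
  have hsu : P.Sw u := ⟨huT, huP⟩
  have h1 := hsu.mul Gl hsw.inv
  have h3 := Gl.norm (u * y⁻¹) (mul_mem huT (inv_mem hyN)) h1 (h2el _ (mul_mem huS (inv_mem hyS)))
  exact hu1 (Or.inr h3)

end Pre

end Cfsg.Agent.OddHalf.D4.Sz

end

-- merged: Cfsg.Agent.OddHalf.D4.Sz.SwapC
section

/-!
# ODD, D4, `K = Sz(q)`, `q ≥ 32`: an element of odd order normalizing `S = T₁⟨y⟩`
-/

set_option autoImplicit false
set_option linter.unusedSectionVars false

namespace Cfsg.Agent.OddHalf.D4.Sz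

open Subgroup Cfsg.Agent.StdSz.EquivMaps Cfsg.Agent.StdSz.SzMaps

section Field

variable {F : Type*} [Field F] [CharP F 2]

theorem eq_one_of_pow_two_pow {x : F} {n : ℕ} (h : x ^ 2 ^ n = 1) : x = 1 := by
  have : Fact (Nat.Prime 2) := ⟨Nat.prime_two⟩
  have h1 : (x + 1) ^ 2 ^ n = 0 := by
    rw [add_pow_char_pow, h, one_pow, CharTwo.add_self_eq_zero]
  have h2 := eq_neg_of_add_eq_zero_left (pow_eq_zero_iff (by positivity) |>.mp h1)
  rwa [CharTwo.neg_eq] at h2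

end Field

namespace Pre

variable {G : Type*} [Group G] [Finite G] {F : Type*} [Field F] [Fintype F] [CharP F 2] {m : ℕ} {P : Pre G F m}

/-- the `y`-normalizing torus element: first part -/
structure Tor0 (P : Pre G F m) (S : Sylow 2 G) (κ : G) (l : F) : Prop where
  nS : ∀ x ∈ (S : Subgroup G), κ * x * κ⁻¹ ∈ (S : Subgroup G)
  nT : κ ∈ normalizer (P.T : Set G)
  nP : κ ∈ normalizer (P.PP : Set G)
  z : ∀ b, κ * P.p 0 b * κ⁻¹ = P.p 0 (l ^ (1 + 2 ^ (m + 1)) * b)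
  gen : ∀ x : F, x ≠ 0 → ∃ n : ℕ, x = l ^ n
  l_ne : l ≠ 0
  l_one : l ≠ 1

theorem Glob.exists_Tor0 (Gl : P.Glob) {S : Sylow 2 G} {y : G} {g k : F} (Fu : Full P S y g k) :
    ∃ κ l, Tor0 P S κ l := by
  have h2 : Fact (Nat.Prime 2) := ⟨Nat.prime_two⟩
  obtain ⟨l, hl0, hl, hgen⟩ := exists_gen P.hF
  have hl1 : l ≠ 1 := by
    intro e6
    have e7 : l ^ 1 = l ^ 0 := by rw [pow_one, pow_zero, e6]
    rw [hl] at e7
    have hm := P.hm
    have h4 : 2 ^ 3 ≤ 2 ^ (2 * m + 1) := Nat.pow_le_pow_right (by norm_num) (by omega)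
    have := Nat.ModEq.eq_of_lt_of_lt e7 (by omega) (by omega)
    omega
  set lu : Fˣ := Units.mk0 l hl0 with hlu
  have hz : ∀ b, P.h lu * P.p 0 b * (P.h lu)⁻¹ = P.p 0 (l ^ (1 + 2 ^ (m + 1)) * b) := by
    intro b
    rw [P.h_p, mul_zero]
    rfl
  have hzi : ∀ b, (P.h lu)⁻¹ * P.p 0 b * P.h lu = P.p 0 ((l ^ (1 + 2 ^ (m + 1)))⁻¹ * b) := by
    intro b
    have h1 := hz ((l ^ (1 + 2 ^ (m + 1)))⁻¹ * b)
    rw [mul_inv_cancel_left₀ (pow_ne_zero _ hl0)] at h1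
    rw [← h1]
    group
  have hhT : P.h lu ∈ normalizer (P.T : Set G) := mem_normalizer_fintype fun x hx => P.h_T lu x hx
  -- the group `X`
  set X : Subgroup G := centralizer (Set.range (P.p 0)) ⊓ normalizer (P.T : Set G) with hX
  have hXc : ∀ {x}, (∀ b, x * P.p 0 b * x⁻¹ = P.p 0 b) → x ∈ centralizer (Set.range (P.p 0)) := by
    intro x hx
    rw [mem_centralizer_iff]
    rintro _ ⟨b, rfl⟩
    calc P.p 0 b * x = (x * P.p 0 b * x⁻¹) * x := by rw [hx]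
      _ = _ := by group
  have hXc' : ∀ {x}, x ∈ X → ∀ b, x * P.p 0 b * x⁻¹ = P.p 0 b := by
    intro x hx b
    have := mem_centralizer_iff.mp hx.1 _ ⟨b, rfl⟩
    rw [← this, mul_inv_cancel_right]
  have hSX : (S : Subgroup G) ≤ X := by
    intro x hx
    rcases Fu.cov x hx with h | h
    · exact ⟨hXc fun b => by rw [P.T_Z x h, mul_inv_cancel_right], le_normalizer h⟩
    · have Y' := Fu.ys.mul_right h
      exact ⟨hXc Y'.z, Y'.nT⟩
  have hSX2 : CommConj.cj (P.h lu) (S : Subgroup G) ≤ X := by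
    intro x hx
    rw [CommConj.mem_cj] at hx
    have h3 := hSX hx
    refine ⟨hXc fun b => ?_, ?_⟩
    · have h4 := hXc' h3 ((l ^ (1 + 2 ^ (m + 1)))⁻¹ * b)
      rw [← hzi] at h4
      have h5 : (P.h lu)⁻¹ * (x * P.p 0 b * x⁻¹) * P.h lu = (P.h lu)⁻¹ * P.p 0 b * P.h lu := by
        rw [← h4]; group
      exact mul_left_cancel (mul_right_cancel h5)
    · have h4 := mul_mem (mul_mem hhT h3.2) (inv_mem hhT)
      have e : P.h lu * ((P.h lu)⁻¹ * x * P.h lu) * (P.h lu)⁻¹ = x := by group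
      rwa [e] at h4
  have hS1 : ∃ S' : Sylow 2 X, (S' : Subgroup X).map X.subtype = (S : Subgroup G) := by
    rw [Cfsg.Agent.Blocks.SylowIn.exists_sylow_map_eq_iff]
    exact ⟨hSX, S.2, fun Q _ hQ hle => S.is_maximal' hQ hle⟩
  have hS2 : ∃ S' : Sylow 2 X, (S' : Subgroup X).map X.subtype = CommConj.cj (P.h lu) (S : Subgroup G) := by
    rw [Cfsg.Agent.Blocks.SylowIn.exists_sylow_map_eq_iff]
    refine ⟨hSX2, S.2.map _, fun Q _ hQ hle => ?_⟩
    have h3 : CommConj.cj (P.h lu)⁻¹ Q = (S : Subgroup G) := by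
      refine S.is_maximal' (hQ.map _) fun x hx => ?_
      rw [CommConj.mem_cj, inv_inv]
      exact hle (CommConj.mem_cj_mul hx)
    rw [← h3, ← CommConj.cj_mul, mul_inv_cancel]
    ext x
    rw [CommConj.mem_cj]
    simp
  obtain ⟨μ, hμX, hμ⟩ := Cfsg.Agent.Blocks.SylowIn.exists_conj_of_sylow_map_eq hS2 hS1
  have hκS : μ * P.h lu ∈ normalizer ((S : Subgroup G) : Set G) := by
    apply CommConj.mem_normalizer_of_cj_eq
    rw [CommConj.cj_mul]
    exact hμ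
  have hκT : μ * P.h lu ∈ normalizer (P.T : Set G) := mul_mem hμX.2 hhT
  set κ₀ := μ * P.h lu with hκ₀
  have hκz : ∀ b, κ₀ * P.p 0 b * κ₀⁻¹ = P.p 0 (l ^ (1 + 2 ^ (m + 1)) * b) := by
    intro b
    have e : κ₀ * P.p 0 b * κ₀⁻¹ = μ * (P.h lu * P.p 0 b * (P.h lu)⁻¹) * μ⁻¹ := by rw [hκ₀]; group
    rw [e, hz, hXc' hμX]
  have hpow : ∀ n : ℕ, ∀ b, κ₀ ^ n * P.p 0 b * (κ₀ ^ n)⁻¹ = P.p 0 ((l ^ (1 + 2 ^ (m + 1))) ^ n * b) := by
    intro n
    induction n with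
    | zero => intro b; rw [pow_zero, pow_zero, one_mul, one_mul, inv_one, mul_one]
    | succ n ih =>
      intro b
      have e : κ₀ ^ (n + 1) * P.p 0 b * (κ₀ ^ (n + 1))⁻¹ = κ₀ ^ n * (κ₀ * P.p 0 b * κ₀⁻¹) * (κ₀ ^ n)⁻¹ := by
        rw [pow_succ]; group
      rw [e, hκz, ih]
      congr 1
      ring
  obtain ⟨i, j, hij, hodd, n, hn⟩ := Cfsg.Agent.StdSz.Env.exists_decomp κ₀
  set ν := l ^ (1 + 2 ^ (m + 1)) with hν
  have hν0 : ν ≠ 0 := pow_ne_zero _ hl0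
  have hνj : ν ^ j = 1 := by
    apply eq_one_of_pow_two_pow (n := n)
    have h3 := hpow (j * 2 ^ n) 1
    rw [pow_mul, hn, one_mul, inv_one, mul_one, mul_one] at h3
    have h4 := P.z_inj h3
    rw [← pow_mul]
    exact h4.symm
  have hνi : ν ^ i = ν := by
    have h3 := hpow (i + j) 1
    rw [_root_.pow_add, ← hij, hκz, mul_one, mul_one] at h3
    have h4 := P.z_inj h3
    rw [_root_.pow_add, hνj, mul_one] at h4
    exact h4.symm
  refine ⟨κ₀ ^ i, l, ?_, pow_mem hκT i, ?_, ?_, hgen, hl0, hl1⟩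
  · intro x hx
    exact (mem_normalizer_iff.mp (pow_mem hκS i) x).mp hx
  · by_contra hcon
    have hsw : P.Sw (κ₀ ^ i) := ⟨pow_mem hκT i, hcon⟩
    have h3 := hsw.mul Gl hsw
    apply hcon
    obtain ⟨r, hr⟩ := hodd
    have h4 : κ₀ ^ i = (κ₀ ^ i * κ₀ ^ i) ^ (r + 1) := by
      rw [← pow_two, ← pow_mul]
      have : 2 * (r + 1) = orderOf (κ₀ ^ i) + 1 := by omega
      rw [this, pow_succ, pow_orderOf_eq_one, one_mul]
    rw [h4]
    exact pow_mem h3 _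
  · intro b
    rw [hpow, hνi]

/-- the `y`-normalizing torus element -/
structure Tor (P : Pre G F m) (S : Sylow 2 G) (κ : G) (l e : F) : Prop extends Tor0 P S κ l where
  f : ∀ x ∈ P.T, P.fC (κ * x * κ⁻¹) = e * P.fC x
  a : ∀ x ∈ P.T, P.aC (κ * x * κ⁻¹) = l * P.aC x
  c : ∀ x ∈ P.T, P.act (κ * x * κ⁻¹) = e * P.act x
  ee : e * e = l ^ (1 + 2 ^ (m + 1))

/-- conjugates of `y` by elements normalizing `S` and `T` -/
theorem Full.conj_y {S : Sylow 2 G} {y : G} {g k : F} (Fu : Full P S y g k) {κ : G}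
    (hS : ∀ x ∈ (S : Subgroup G), κ * x * κ⁻¹ ∈ (S : Subgroup G)) (hT : κ ∈ normalizer (P.T : Set G)) :
    (κ * y * κ⁻¹) * y⁻¹ ∈ P.T := by
  refine (Fu.cov _ (hS y Fu.yS)).resolve_left fun h => ?_
  have h1 := P.conj_T' hT h
  have e : κ⁻¹ * (κ * y * κ⁻¹) * κ = y := by group
  rw [e] at h1
  exact Fu.ys.notMem h1

/-- (i) -/
theorem fixQ (Si : Simp P) {κ : G} (nT : κ ∈ normalizer (P.T : Set G)) (nP : κ ∈ normalizer (P.PP : Set G)) {x : G}
    (hx : x ∈ P.T) (h1 : P.aC x = 0) (h2 : P.act x = 0) : P.aC (κ * x * κ⁻¹) = 0 ∧ P.act (κ * x * κ⁻¹) = 0 := by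
  have hy : κ * x * κ⁻¹ ∈ P.PP := (mem_normalizer_iff.mp nP x).mp ⟨hx, h2⟩
  refine ⟨P.bt_zero fun b => ?_, hy.2⟩
  have hw : κ⁻¹ * P.p b 0 * κ ∈ P.PP := by
    have := (mem_normalizer_iff.mp (inv_mem nP) _).mp (P.p_mem b 0)
    rwa [inv_inv] at this
  have h3 := P.cm_conj nT hx hw.1
  have e : κ * (κ⁻¹ * P.p b 0 * κ) * κ⁻¹ = P.p b 0 := by group
  rw [e, Si.cm hx hw.1, Si.cm (P.conj_T nT hx) (P.T_p b 0), h1, h2, hw.2, P.aC_p, P.act_p, P.fC_p] at h3
  have z1 : (0 : F) ^ (2 ^ (m + 1)) = 0 := zero_pow (by positivity)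
  simp only [z1, mul_zero, zero_mul, add_zero] at h3
  rw [h3]
  apply P.al_eq nT
  rw [P.p_zero]; group

/-- (ii) -/
theorem Full.fixE (Si : Simp P) {S : Sylow 2 G} {y : G} {g k : F} (Fu : Full P S y g k) {κ : G}
    (hS : ∀ x ∈ (S : Subgroup G), κ * x * κ⁻¹ ∈ (S : Subgroup G)) (nT : κ ∈ normalizer (P.T : Set G))
    (nP : κ ∈ normalizer (P.PP : Set G)) {x : G}
    (hx : x ∈ P.T) (h1 : P.fC x = 0) (h2 : P.aC x = 0) : P.fC (κ * x * κ⁻¹) = 0 ∧ P.aC (κ * x * κ⁻¹) = 0 := by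
  have hx' := P.conj_T' Fu.ys.nT hx
  have e1 : y * (y⁻¹ * x * y) * y⁻¹ = x := by group
  have h3 := Fu.ys.f _ hx'
  have h4 := Fu.ys.a _ hx'
  rw [e1] at h3 h4
  rw [h1] at h3
  rw [h2] at h4
  have h5 : P.act (y⁻¹ * x * y) = 0 := (mul_eq_zero.mp h3.symm).resolve_left Fu.ys.k_ne
  obtain ⟨h6, h7⟩ := fixQ Si nT nP hx' h4.symm h5
  have Y' := Fu.ys.mul_right (Fu.conj_y hS nT)
  have e2 : κ * x * κ⁻¹ = (κ * y * κ⁻¹) * (κ * (y⁻¹ * x * y) * κ⁻¹) * (κ * y * κ⁻¹)⁻¹ := by group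
  rw [e2, Y'.f _ (P.conj_T nT hx'), Y'.a _ (P.conj_T nT hx'), h6, h7, mul_zero]
  exact ⟨rfl, rfl⟩

theorem Glob.exists_Tor (Gl : P.Glob) (Si : Simp P) {S : Sylow 2 G} {y : G} {g k : F} (Fu : Full P S y g k) :
    ∃ κ l e, Tor P S κ l e := by
  obtain ⟨κ, l, K⟩ := Gl.exists_Tor0 Fu
  have z1 : (0 : F) ^ (2 ^ (m + 1)) = 0 := zero_pow (by positivity)
  have hSi : ∀ x ∈ (S : Subgroup G), κ⁻¹ * x * κ⁻¹⁻¹ ∈ (S : Subgroup G) := by
    have h1 : κ ∈ normalizer ((S : Subgroup G) : Set G) := mem_normalizer_fintype fun x hx => K.nS x hx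
    intro x hx
    exact (mem_normalizer_iff.mp (inv_mem h1) x).mp hx
  have hal : ∀ b, P.al κ b = l ^ (1 + 2 ^ (m + 1)) * b := fun b => P.al_eq K.nT (K.z b)
  have cT : ∀ {x}, x ∈ P.T → κ * x * κ⁻¹ ∈ P.T := fun hx => P.conj_T K.nT hx
  -- (iii)
  have fixA : ∀ {x}, x ∈ P.T → P.fC x = 0 → P.act x = 0 → P.fC (κ * x * κ⁻¹) = 0 ∧ P.act (κ * x * κ⁻¹) = 0 := by
    intro x hx h1 h2
    have hy : κ * x * κ⁻¹ ∈ P.PP := (mem_normalizer_iff.mp K.nP x).mp ⟨hx, h2⟩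
    refine ⟨?_, hy.2⟩
    obtain ⟨h3, h4⟩ := Fu.fixE Si hSi (inv_mem K.nT) (inv_mem K.nP) (P.ee_mem 1) (P.fC_ee 1) (P.aC_ee 1)
    rw [inv_inv] at h3 h4
    have hw := P.conj_T' K.nT (P.ee_mem 1)
    have h5 := P.cm_conj K.nT hx hw
    have e : κ * (κ⁻¹ * P.ee 1 * κ) * κ⁻¹ = P.ee 1 := by group
    rw [e, Si.cm hx hw, Si.cm (cT hx) (P.ee_mem 1), h1, h2, h3, h4, P.aC_ee, P.fC_ee, P.act_ee, hal] at h5
    simpa [z1] using h5
  -- coordinates
  have hcrd : ∀ x ∈ P.T, P.fC (κ * x * κ⁻¹) = P.fC (κ * qq Si (P.fC x) * κ⁻¹) ∧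
      P.aC (κ * x * κ⁻¹) = P.aC (κ * P.p (P.aC x) 0 * κ⁻¹) ∧
      P.act (κ * x * κ⁻¹) = P.act (κ * P.ee (P.act x) * κ⁻¹) := by
    intro x hx
    obtain ⟨h1, h2, h3⟩ := conj_decomp Si K.nT hx
    have m1 := cT (qq_T Si (P.fC x))
    have m2 := cT (P.T_p (P.aC x) 0)
    have m3 := cT (P.ee_mem (P.act x))
    obtain ⟨a1, a2⟩ := fixQ Si K.nT K.nP (qq_T Si (P.fC x)) (aC_qq Si _) (act_qq Si _)
    obtain ⟨b1, b2⟩ := fixA (P.T_p (P.aC x) 0) (P.fC_p _ _) (P.act_p _ _)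
    obtain ⟨c1, c2⟩ := Fu.fixE Si K.nS K.nT K.nP (P.ee_mem (P.act x)) (P.fC_ee _) (P.aC_ee _)
    refine ⟨?_, ?_, ?_⟩
    · rw [h1, P.fC_mul m1 (mul_mem m2 m3), P.fC_mul m2 m3, c1, b1, add_zero, add_zero]
    · rw [h2, P.aC_mul m1 (mul_mem m2 m3), P.aC_mul m2 m3, a1, c2, zero_add, add_zero]
    · rw [h3, P.act_mul m1 (mul_mem m2 m3), P.act_mul m2 m3, b2, a2, zero_add, zero_add]
  obtain ⟨e, e', hee', hG, hH⟩ := alg_fix (ν := l ^ (1 + 2 ^ (m + 1))) (G := fun r => P.fC (κ * qq Si r * κ⁻¹))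
    (H := fun c => P.act (κ * P.ee c * κ⁻¹)) (pow_ne_zero _ K.l_ne) (by
      intro c r
      have h5 := P.cm_conj K.nT (P.ee_mem c) (qq_T Si r)
      obtain ⟨a1, a2⟩ := fixQ Si K.nT K.nP (qq_T Si r) (aC_qq Si _) (act_qq Si _)
      obtain ⟨c1, c2⟩ := Fu.fixE Si K.nS K.nT K.nP (P.ee_mem c) (P.fC_ee _) (P.aC_ee _)
      rw [hal, Si.cm (P.ee_mem c) (qq_T Si r), Si.cm (cT (P.ee_mem c)) (cT (qq_T Si r)), a1, a2, c1, c2,
        fC_qq, aC_qq, act_qq, P.aC_ee, P.act_ee, P.fC_ee] at h5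
      simp only [z1, mul_zero, zero_mul, add_zero, zero_add] at h5
      exact h5.symm)
  have hf : ∀ x ∈ P.T, P.fC (κ * x * κ⁻¹) = e * P.fC x := fun x hx => by rw [(hcrd x hx).1]; exact hG _
  have hc : ∀ x ∈ P.T, P.act (κ * x * κ⁻¹) = e' * P.act x := fun x hx => by rw [(hcrd x hx).2.2]; exact hH _
  have ha : ∀ x ∈ P.T, P.aC (κ * x * κ⁻¹) = l * P.aC x := by
    intro x hx
    rw [(hcrd x hx).2.1]
    have h5 := P.sq_conj K.nT (P.T_p (P.aC x) 0)
    obtain ⟨b1, b2⟩ := fixA (P.T_p (P.aC x) 0) (P.fC_p _ _) (P.act_p _ _)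
    rw [hal, Si.sq (cT (P.T_p _ _)), P.sq_p, b1, b2, mul_zero, add_zero, ← mul_pow] at h5
    exact Cfsg.Agent.StdSz.FormAlg.norm_inj P.hF h5
  -- `e = e'`
  have hee : e = e' := by
    have h1 := P.conj_T Fu.ys.nT (P.ee_mem 1)
    have h3 := hf _ h1
    rw [Fu.ys.f _ (P.ee_mem 1), P.act_ee, mul_one] at h3
    have Y' := Fu.ys.mul_right (Fu.conj_y K.nS K.nT)
    have e2 : κ * (y * P.ee 1 * y⁻¹) * κ⁻¹ = (κ * y * κ⁻¹) * (κ * P.ee 1 * κ⁻¹) * (κ * y * κ⁻¹)⁻¹ := by group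
    rw [e2, Y'.f _ (cT (P.ee_mem 1)), hc _ (P.ee_mem 1), P.act_ee, mul_one, mul_comm k] at h3
    exact (mul_right_cancel₀ Fu.ys.k_ne h3).symm
  exact ⟨κ, l, e, { K with f := hf, a := ha, c := by rw [hee]; exact hc, ee := by rw [← hee', ← hee] }⟩

end Pre

end Cfsg.Agent.OddHalf.D4.Sz

end

-- merged: Cfsg.Agent.OddHalf.D4.Sz.TV
section

/-!
# LEMMA TV (helper216's text bb ODD #11407, typed by helper514)

`X` finite, `S` a Sylow 2-subgroup, `W ≤ S` elementary abelian of index 2, `y ∈ S - W` an involution with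
`|W : C_W(y)| > 4`. Then no `X`-conjugate of `y` lies in `W`.
-/

set_option autoImplicit false

open Subgroup

namespace Cfsg.Agent.OddHalf.D4.Sz.TV

variable {X : Type*} [Group X]

/-- the data: `T` a group (later a Sylow 2-subgroup), `W` elementary abelian of index 2, `y` an involution
outside `W` -/
structure Dat (T W : Subgroup X) (y : X) : Prop where
  hW : W ≤ T
  hi : W.relIndex T = 2
  he : ∀ w ∈ W, w * w = 1
  hy : y ∈ T
  hyW : y ∉ W
  hyy : y * y = 1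
  hC : 4 < (W ⊓ centralizer {y}).relIndex W

/-- the axis `C_W(y)` -/
def HH (W : Subgroup X) (y : X) : Subgroup X := W ⊓ centralizer {y}

/-- `C_T(y)` -/
def EE (T : Subgroup X) (y : X) : Subgroup X := T ⊓ centralizer {y}

theorem mem_HH {W : Subgroup X} {y h : X} : h ∈ HH W y ↔ h ∈ W ∧ h * y = y * h := by
  unfold HH
  rw [mem_inf, mem_centralizer_singleton_iff]

theorem mem_EE {T : Subgroup X} {y h : X} : h ∈ EE T y ↔ h ∈ T ∧ h * y = y * h := by
  unfold EE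
  rw [mem_inf, mem_centralizer_singleton_iff]

namespace Dat

variable {T W : Subgroup X} {y : X} (D : Dat T W y)

include D

theorem mul_mem_iff {a b : X} (ha : a ∈ T) (hb : b ∈ T) : a * b ∈ W ↔ (a ∈ W ↔ b ∈ W) := by
  have h : (W.subgroupOf T).index = 2 := D.hi
  have h1 := Subgroup.mul_mem_iff_of_index_two h (a := ⟨a, ha⟩) (b := ⟨b, hb⟩)
  simpa [mem_subgroupOf] using h1

theorem y_inv : y⁻¹ = y := inv_eq_of_mul_eq_one_left D.hyy

theorem inv_W {w : X} (hw : w ∈ W) : w⁻¹ = w := inv_eq_of_mul_eq_one_left (D.he w hw)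

theorem comm_W {v w : X} (hv : v ∈ W) (hw : w ∈ W) : v * w = w * v := by
  have h := D.he _ (W.mul_mem hv hw)
  have h1 : v * w = (v * w)⁻¹ := (inv_eq_of_mul_eq_one_left h).symm
  rw [h1, mul_inv_rev, D.inv_W hv, D.inv_W hw]

theorem ymem {t : X} (ht : t ∈ T) (htW : t ∉ W) : y * t ∈ W := by
  rw [D.mul_mem_iff D.hy ht]
  exact ⟨fun h => absurd h D.hyW, fun h => absurd h htW⟩

theorem yw {w : X} (hw : w ∈ W) : y * w * y ∈ W := by
  have h1 : y * w ∉ W := by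
    rw [D.mul_mem_iff D.hy (D.hW hw)]
    exact fun h => D.hyW (h.2 hw)
  rw [D.mul_mem_iff (T.mul_mem D.hy (D.hW hw)) D.hy]
  exact ⟨fun h => absurd h h1, fun h => absurd h D.hyW⟩

/-- `[w, y]` -/
theorem delta_mem {w : X} (hw : w ∈ W) : w * (y * w * y) ∈ W := W.mul_mem hw (D.yw hw)

theorem delta_comm {w : X} (hw : w ∈ W) : w * (y * w * y) * y = y * (w * (y * w * y)) := by
  have h := D.comm_W hw (D.yw hw)
  calc w * (y * w * y) * y = y * w * y * w * y := by rw [h]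
    _ = y * (w * (y * w * y)) := by group

theorem delta_mem_HH {w : X} (hw : w ∈ W) : w * (y * w * y) ∈ HH W y :=
  mem_HH.2 ⟨D.delta_mem hw, D.delta_comm hw⟩

theorem delta_mul {v w : X} (hv : v ∈ W) (hw : w ∈ W) :
    v * w * (y * (v * w) * y) = v * (y * v * y) * (w * (y * w * y)) := by
  have h1 : y * (v * w) * y = (y * v * y) * (y * w * y) := by
    calc y * (v * w) * y = y * v * 1 * w * y := by group
      _ = y * v * (y * y) * w * y := by rw [D.hyy]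
      _ = (y * v * y) * (y * w * y) := by group
  rw [h1]
  calc v * w * ((y * v * y) * (y * w * y)) = v * (w * (y * v * y)) * (y * w * y) := by group
    _ = v * ((y * v * y) * w) * (y * w * y) := by rw [D.comm_W hw (D.yw hv)]
    _ = v * (y * v * y) * (w * (y * w * y)) := by group

theorem delta_of_HH {h : X} (hh : h ∈ HH W y) : h * (y * h * y) = 1 := by
  obtain ⟨h1, h2⟩ := mem_HH.1 hh
  calc h * (y * h * y) = h * (h * y * y) := by rw [h2]
    _ = h * h * (y * y) := by group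
    _ = 1 := by rw [D.he _ h1, D.hyy, mul_one]

theorem HH_le_EE : HH W y ≤ EE T y := fun h hh =>
  mem_EE.2 ⟨D.hW (mem_HH.1 hh).1, (mem_HH.1 hh).2⟩

theorem y_mem_EE : y ∈ EE T y := mem_EE.2 ⟨D.hy, rfl⟩

/-- `H` centralizes `T` -/
theorem comm_HH {h t : X} (hh : h ∈ HH W y) (ht : t ∈ T) : h * t = t * h := by
  obtain ⟨h1, h2⟩ := mem_HH.1 hh
  by_cases htW : t ∈ W
  · exact D.comm_W h1 htW
  · have h3 := D.comm_W h1 (D.ymem ht htW)
    have h4 : h * t = y * (h * (y * t)) := by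
      calc h * t = h * (y * y) * t := by rw [D.hyy, mul_one]
        _ = h * y * (y * t) := by group
        _ = y * h * (y * t) := by rw [h2]
        _ = y * (h * (y * t)) := by group
    rw [h4, h3]
    calc y * (y * t * h) = y * y * (t * h) := by group
      _ = t * h := by rw [D.hyy, one_mul]

theorem EE_cases {e : X} (he : e ∈ EE T y) : e ∈ HH W y ∨ y * e ∈ HH W y := by
  obtain ⟨h1, h2⟩ := mem_EE.1 he
  by_cases h : e ∈ W
  · exact Or.inl (mem_HH.2 ⟨h, h2⟩)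
  · refine Or.inr (mem_HH.2 ⟨D.ymem h1 h, ?_⟩)
    calc y * e * y = y * (e * y) := by group
      _ = y * (y * e) := by rw [h2]

theorem eq_of_EE {e : X} (he : e ∈ EE T y) (h : e ∉ HH W y) : ∃ k ∈ HH W y, e = y * k := by
  rcases D.EE_cases he with h1 | h1
  · exact absurd h1 h
  · exact ⟨_, h1, by rw [← mul_assoc, D.hyy, one_mul]⟩

theorem EE_comm {a b : X} (ha : a ∈ EE T y) (hb : b ∈ EE T y) : a * b = b * a := by
  rcases D.EE_cases ha with h | h
  · exact D.comm_HH h (mem_EE.1 hb).1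
  · have h1 := D.comm_HH h (mem_EE.1 hb).1
    have h2 := (mem_EE.1 hb).2
    calc a * b = y * y * a * b := by rw [D.hyy, one_mul]
      _ = y * (y * a * b) := by group
      _ = y * (b * (y * a)) := by rw [h1]
      _ = (y * b) * (y * a) := by group
      _ = b * y * (y * a) := by rw [h2]
      _ = b * (y * y) * a := by group
      _ = b * a := by rw [D.hyy, mul_one]

theorem EE_sq {a : X} (ha : a ∈ EE T y) : a * a = 1 := by
  by_cases h : a ∈ HH W y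
  · exact D.he _ (mem_HH.1 h).1
  · obtain ⟨k, hk, rfl⟩ := D.eq_of_EE ha h
    have h1 := (mem_HH.1 hk).2
    calc y * k * (y * k) = y * (k * y) * k := by group
      _ = y * (y * k) * k := by rw [h1]
      _ = (y * y) * (k * k) := by group
      _ = 1 := by rw [D.hyy, D.he _ (mem_HH.1 hk).1, mul_one]

theorem W_inf_EE : W ⊓ EE T y = HH W y := by
  ext x
  rw [mem_inf, mem_EE, mem_HH]
  exact ⟨fun h => ⟨h.1, h.2.2⟩, fun h => ⟨h.1, D.hW h.1, h.2⟩⟩

theorem y_not_mem_HH : y ∉ HH W y := fun h => D.hyW (mem_HH.1 h).1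

theorem relIndex_HH_EE : (HH W y).relIndex (EE T y) = 2 := by
  rw [← D.W_inf_EE, inf_relIndex_right]
  have h1 : W.relIndex (EE T y) ≤ 2 := by
    rw [← D.hi]
    exact relIndex_le_of_le_right inf_le_left (by rw [D.hi]; norm_num)
  have h2 : W.relIndex (EE T y) ≠ 0 := by
    intro h
    have := relIndex_eq_zero_of_le_right (K := EE T y) (L := T) inf_le_left h
    rw [D.hi] at this
    exact absurd this (by norm_num)
  have h3 : W.relIndex (EE T y) ≠ 1 := by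
    intro h
    rw [relIndex_eq_one] at h
    exact D.hyW (h D.y_mem_EE)
  omega

/-- conjugation by `w ∈ W` is trivial on `H` -/
theorem conj_W_in {w e : X} (hw : w ∈ W) (h : e ∈ HH W y) : w * e * w⁻¹ = e := by
  rw [← D.comm_HH h (D.hW hw), mul_inv_cancel_right]

/-- conjugation by `w ∈ W` on `E - H` is multiplication by `[w, y]` -/
theorem conj_W_out {w e : X} (hw : w ∈ W) (he : e ∈ EE T y) (h : e ∉ HH W y) :
    w * e * w⁻¹ = w * (y * w * y) * e := by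
  rw [D.inv_W hw]
  obtain ⟨k, hk, rfl⟩ := D.eq_of_EE he h
  have h1 := D.comm_HH hk (D.hW hw)
  calc w * (y * k) * w = w * y * (k * w) := by group
    _ = w * y * (w * k) := by rw [h1]
    _ = w * (y * w * y) * (y⁻¹ * k) := by group
    _ = w * (y * w * y) * (y * k) := by rw [D.y_inv]

theorem W_le_normalizer : W ≤ normalizer (EE T y : Set X) := by
  have key : ∀ w ∈ W, ∀ e ∈ EE T y, w * e * w⁻¹ ∈ EE T y := by
    intro w hw e he
    by_cases h : e ∈ HH W y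
    · rw [D.conj_W_in hw h]
      exact he
    · rw [D.conj_W_out hw he h]
      exact mul_mem (D.HH_le_EE (D.delta_mem_HH hw)) he
  intro w hw
  rw [mem_normalizer_iff]
  intro e
  refine ⟨fun h => key w hw e h, fun h => ?_⟩
  have h1 := key w⁻¹ (inv_mem hw) _ h
  have h2 : w⁻¹ * (w * e * w⁻¹) * w⁻¹⁻¹ = e := by group
  rwa [h2] at h1

omit D in
theorem EE_le_normalizer : EE T y ≤ normalizer (EE T y : Set X) := le_normalizer

theorem T_le_normalizer : T ≤ normalizer (EE T y : Set X) := by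
  intro t ht
  by_cases h : t ∈ W
  · exact D.W_le_normalizer h
  · have h1 := D.W_le_normalizer (D.ymem ht h)
    have h2 := EE_le_normalizer D.y_mem_EE
    have h3 := mul_mem h2 h1
    have h4 : y * (y * t) = t := by rw [← mul_assoc, D.hyy, one_mul]
    rwa [h4] at h3

/-- `C_W(E) = H` -/
theorem centralizer_inf {A : Subgroup X} (hA : A ≤ W) (hHA : HH W y ≤ A) :
    centralizer (EE T y : Set X) ⊓ A = HH W y := by
  ext x
  rw [mem_inf, mem_centralizer_iff]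
  constructor
  · rintro ⟨h1, h2⟩
    exact mem_HH.2 ⟨hA h2, (h1 y D.y_mem_EE).symm⟩
  · intro h
    exact ⟨fun e he => (D.comm_HH h (mem_EE.1 he).1).symm, hHA h⟩

/-- `C_T(E) = E` -/
theorem centralizer_inf_T : centralizer (EE T y : Set X) ⊓ T = EE T y := by
  ext x
  rw [mem_inf, mem_centralizer_iff]
  constructor
  · rintro ⟨h1, h2⟩
    exact mem_EE.2 ⟨h2, (h1 y D.y_mem_EE).symm⟩
  · intro h
    exact ⟨fun e he => D.EE_comm he h, (mem_EE.1 h).1⟩

theorem EE_le_centralizer : EE T y ≤ centralizer (EE T y : Set X) := fun _ hx =>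
  mem_centralizer_iff.2 fun _ he => D.EE_comm he hx

/-- the elements of `W` whose commutator with `y` lies in `K` -/
def AA (D : Dat T W y) (K : Subgroup X) : Subgroup X where
  carrier := {w | w ∈ W ∧ w * (y * w * y) ∈ K}
  mul_mem' := by
    rintro a b ⟨ha, ha'⟩ ⟨hb, hb'⟩
    exact ⟨W.mul_mem ha hb, by rw [D.delta_mul ha hb]; exact K.mul_mem ha' hb'⟩
  one_mem' := ⟨W.one_mem, by simp [D.hyy]⟩
  inv_mem' := by
    rintro a ⟨ha, ha'⟩
    rw [D.inv_W ha]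
    exact ⟨ha, ha'⟩

theorem mem_AA {K : Subgroup X} {w : X} : w ∈ D.AA K ↔ w ∈ W ∧ w * (y * w * y) ∈ K := Iff.rfl

theorem AA_le (K : Subgroup X) : D.AA K ≤ W := fun _ h => h.1

theorem HH_le_AA (K : Subgroup X) : HH W y ≤ D.AA K := fun h hh =>
  ⟨(mem_HH.1 hh).1, by rw [D.delta_of_HH hh]; exact K.one_mem⟩

theorem relIndex_AA {K : Subgroup X} (hK : K.relIndex (EE T y) = 2) : (D.AA K).relIndex W ∣ 2 := by
  have hmul : ∀ a ∈ EE T y, ∀ b ∈ EE T y, a ∉ K → b ∉ K → a * b ∈ K := by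
    intro a ha b hb h1 h2
    have h : (K.subgroupOf (EE T y)).index = 2 := hK
    have h3 := Subgroup.mul_mem_iff_of_index_two h (a := ⟨a, ha⟩) (b := ⟨b, hb⟩)
    have h4 : a * b ∈ K ↔ (a ∈ K ↔ b ∈ K) := by simpa [mem_subgroupOf] using h3
    exact h4.2 ⟨fun h => absurd h h1, fun h => absurd h h2⟩
  rw [relIndex_dvd_two_iff]
  by_cases h : ∀ b ∈ W, b * (y * b * y) ∈ K
  · exact ⟨1, W.one_mem, fun b hb => Or.inr ⟨hb, h b hb⟩⟩
  · push Not at h
    obtain ⟨a, ha, ha'⟩ := h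
    refine ⟨a, ha, fun b hb => ?_⟩
    by_cases h1 : b * (y * b * y) ∈ K
    · exact Or.inr ⟨hb, h1⟩
    · refine Or.inl ⟨W.mul_mem hb ha, ?_⟩
      rw [D.delta_mul hb ha]
      exact hmul _ (D.HH_le_EE (D.delta_mem_HH hb)) _ (D.HH_le_EE (D.delta_mem_HH ha)) h1 ha'

end Dat

section card

theorem centralizer_le (E : Subgroup X) : centralizer (E : Set X) ≤ normalizer (E : Set X) := by
  intro c hc
  rw [mem_normalizer_iff]
  intro e
  have h1 : ∀ e ∈ E, c * e * c⁻¹ = e := fun e he => by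
    rw [← mem_centralizer_iff.1 hc e he, mul_inv_cancel_right]
  refine ⟨fun h => by rw [h1 e h]; exact h, fun h => ?_⟩
  have h2 : c⁻¹ * (c * e * c⁻¹) * c = c * e * c⁻¹ := by
    have := mem_centralizer_iff.1 hc _ h
    rw [mul_assoc, this, inv_mul_cancel_left]
  have h3 : c⁻¹ * (c * e * c⁻¹) * c = e := by group
  rw [← h3, h2]
  exact h

variable [Finite X]

/-- `U ≤ C(E)` and `P` induced by `N(E)` on `E`, both 2-groups: `|U||P| ≤ |S|` -/
theorem card_mul_le (S : Sylow 2 X) (E : Subgroup X) {U : Subgroup X} (hU : IsPGroup 2 U)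
    (hUC : U ≤ centralizer (E : Set X)) {P : Subgroup (MulAut E)} (hP : IsPGroup 2 P)
    (hPr : P ≤ E.normalizerMonoidHom.range) : Nat.card U * Nat.card P ≤ Nat.card S := by
  have h1 : Nat.card U ∣ Nat.card (centralizer (E : Set X)) := Subgroup.card_dvd_of_le hUC
  have h2 : Nat.card P ∣ Nat.card E.normalizerMonoidHom.range := Subgroup.card_dvd_of_le hPr
  have h3 : Nat.card (centralizer (E : Set X)) * Nat.card E.normalizerMonoidHom.range =
      Nat.card (normalizer (E : Set X)) := by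
    rw [← Subgroup.index_ker, normalizerMonoidHom_ker,
      ← Subgroup.card_mul_index ((centralizer (E : Set X)).subgroupOf (normalizer (E : Set X))),
      Nat.card_congr (subgroupOfEquivOfLe (centralizer_le E)).toEquiv]
  have h4 : Nat.card U * Nat.card P ∣ Nat.card X :=
    (Nat.mul_dvd_mul h1 h2).trans (h3 ▸ Subgroup.card_subgroup_dvd_card _)
  obtain ⟨a, ha⟩ := hU.exists_card_eq
  obtain ⟨b, hb⟩ := hP.exists_card_eq
  rw [ha, hb, ← pow_add] at h4 ⊢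
  rw [Sylow.card_eq_multiplicity S]
  exact Nat.pow_le_pow_right (by norm_num)
    ((Nat.prime_two.pow_dvd_iff_le_factorization Nat.card_pos.ne').1 h4)

omit [Finite X] in
theorem card_map {T W : Subgroup X} {y : X} (D : Dat T W y) (E : Subgroup X) (hE : EE T y = E)
    (K : Subgroup X) : Nat.card (((D.AA K).subgroupOf (normalizer (E : Set X))).map E.normalizerMonoidHom) =
      (HH W y).relIndex (D.AA K) := by
  subst hE
  rw [← relIndex_ker, normalizerMonoidHom_ker, relIndex_subgroupOf ((D.AA_le K).trans D.W_le_normalizer),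
    ← inf_relIndex_right, D.centralizer_inf (D.AA_le K) (D.HH_le_AA K)]

omit [Finite X] in
theorem card_mul_relIndex {A B : Subgroup X} (h : A ≤ B) : Nat.card A * A.relIndex B = Nat.card B := by
  have h1 := Subgroup.card_mul_index (A.subgroupOf B)
  rwa [Nat.card_congr (subgroupOfEquivOfLe h).toEquiv] at h1

theorem card_mul_le_sup {G : Type*} [Group G] [Finite G] {P Q : Subgroup G}
    (h0 : ∀ x ∈ P, x ∈ Q → x = 1) : Nat.card P * Nat.card Q ≤ Nat.card ↥(P ⊔ Q) := by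
  rw [← Nat.card_prod]
  refine Nat.card_le_card_of_injective
    (fun x : P × Q => (⟨x.1 * x.2, mul_mem (mem_sup_left x.1.2) (mem_sup_right x.2.2)⟩ : ↥(P ⊔ Q))) ?_
  rintro ⟨a, b⟩ ⟨c, d⟩ h
  have h1 : (a : G) * b = c * d := congrArg Subtype.val h
  have h2 : (c : G)⁻¹ * a = d * (b : G)⁻¹ := by
    rw [inv_mul_eq_iff_eq_mul, ← mul_assoc, ← h1, mul_inv_cancel_right]
  have h3 : (c : G)⁻¹ * a = 1 := h0 _ (P.mul_mem (P.inv_mem c.2) a.2)
    (h2 ▸ Q.mul_mem d.2 (Q.inv_mem b.2))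
  have h4 : (a : G) = c := by
    rw [inv_mul_eq_one] at h3
    exact h3.symm
  have h5 : (b : G) = d := by
    rw [h4] at h1
    exact mul_left_cancel h1
  exact Prod.ext (Subtype.ext h4) (Subtype.ext h5)

/-- two axes in `E`: too many transvections -/
theorem two_axes (S : Sylow 2 X) {W W' T' : Subgroup X} {y y' : X} (D : Dat (S : Subgroup X) W y)
    (D' : Dat T' W' y') (hT : Nat.card T' = Nat.card S) (E : Subgroup X) (hE : EE S y = E)
    (hE' : EE T' y' = E) (hH : HH W y ≠ HH W' y') : False := by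
  have hK : (HH W y).relIndex E = 2 := hE ▸ D.relIndex_HH_EE
  have hK' : (HH W' y').relIndex E = 2 := hE' ▸ D'.relIndex_HH_EE
  have hHE : HH W y ≤ E := hE ▸ D.HH_le_EE
  have hHE' : HH W' y' ≤ E := hE' ▸ D'.HH_le_EE
  obtain ⟨ρ, hρ⟩ : ∃ ρ, ρ = E.normalizerMonoidHom := ⟨_, rfl⟩
  have hρa : ∀ (g : normalizer (E : Set X)) (e : E), ((ρ g e : E) : X) = g * e * (g : X)⁻¹ := by
    intro g e
    rw [hρ]
    rfl
  obtain ⟨P, hP⟩ : ∃ P, P = ((D.AA (HH W' y')).subgroupOf (normalizer (E : Set X))).map ρ := ⟨_, rfl⟩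
  obtain ⟨Q, hQ⟩ : ∃ Q, Q = ((D'.AA (HH W y)).subgroupOf (normalizer (E : Set X))).map ρ := ⟨_, rfl⟩
  have hcP : Nat.card P = (HH W y).relIndex (D.AA (HH W' y')) := by
    rw [hP, hρ]
    exact card_map D E hE _
  have hcQ : Nat.card Q = (HH W' y').relIndex (D'.AA (HH W y)) := by
    rw [hQ, hρ]
    exact card_map D' E hE' _
  -- the formulas
  have f1 : ∀ w ∈ D.AA (HH W' y'), ∀ e ∈ HH W y, w * e * w⁻¹ = e := fun w hw e he =>
    D.conj_W_in hw.1 he
  have f2 : ∀ w ∈ D.AA (HH W' y'), ∀ e ∈ E, e ∉ HH W y → w * e * w⁻¹ = w * (y * w * y) * e :=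
    fun w hw e he h => D.conj_W_out hw.1 (hE ▸ he) h
  have f1' : ∀ w ∈ D'.AA (HH W y), ∀ e ∈ HH W' y', w * e * w⁻¹ = e := fun w hw e he =>
    D'.conj_W_in hw.1 he
  have f2' : ∀ w ∈ D'.AA (HH W y), ∀ e ∈ E, e ∉ HH W' y' → w * e * w⁻¹ = w * (y' * w * y') * e :=
    fun w hw e he h => D'.conj_W_out hw.1 (hE' ▸ he) h
  have hcomm : ∀ a ∈ P, ∀ b ∈ Q, a * b = b * a := by
    rw [hP, hQ]
    rintro _ ⟨⟨w, hwN⟩, hw, rfl⟩ _ ⟨⟨v, hvN⟩, hv, rfl⟩
    replace hw : w ∈ D.AA (HH W' y') := hw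
    replace hv : v ∈ D'.AA (HH W y) := hv
    have d1 : w * (y * w * y) ∈ HH W y := D.delta_mem_HH hw.1
    have d2 : w * (y * w * y) ∈ HH W' y' := hw.2
    have d3 : v * (y' * v * y') ∈ HH W' y' := D'.delta_mem_HH hv.1
    have d4 : v * (y' * v * y') ∈ HH W y := hv.2
    apply MulEquiv.ext
    rintro ⟨e, he⟩
    apply Subtype.ext
    rw [MulAut.mul_apply, MulAut.mul_apply, hρa, hρa, hρa, hρa]
    change w * (v * e * v⁻¹) * w⁻¹ = v * (w * e * w⁻¹) * v⁻¹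
    by_cases h1 : e ∈ HH W y <;> by_cases h2 : e ∈ HH W' y'
    · rw [f1' v hv e h2, f1 w hw e h1, f1' v hv e h2]
    · rw [f2' v hv e he h2, f1 w hw e h1, f2' v hv e he h2, f1 w hw _ (mul_mem d4 h1)]
    · rw [f1' v hv e h2, f2 w hw e he h1, f1' v hv _ (mul_mem d2 h2)]
    · rw [f2' v hv e he h2, f2 w hw e he h1,
        f2 w hw _ (mul_mem (hHE d4) he) (fun h => h1 ((Subgroup.mul_mem_cancel_left _ d4).1 h)),
        f2' v hv _ (mul_mem (hHE d1) he) (fun h => h2 ((Subgroup.mul_mem_cancel_left _ d2).1 h)),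
        ← mul_assoc (w * (y * w * y)) (v * (y' * v * y')) e,
        D.EE_comm (D.HH_le_EE d1) (D.HH_le_EE d4), mul_assoc]
  have hdis : ∀ x ∈ P, x ∈ Q → x = 1 := by
    rw [hP, hQ]
    rintro _ ⟨⟨w, hwN⟩, hw, rfl⟩ ⟨⟨v, hvN⟩, hv, hvw⟩
    replace hw : w ∈ D.AA (HH W' y') := hw
    replace hv : v ∈ D'.AA (HH W y) := hv
    obtain ⟨x, hx, hx'⟩ : ∃ x ∈ HH W y, x ∉ HH W' y' := by
      by_contra hcon
      push Not at hcon
      apply hH
      have h1 : HH W y ≤ HH W' y' := hcon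
      have h2 := relIndex_mul_relIndex (HH W y) (HH W' y') E h1 hHE'
      rw [hK, hK'] at h2
      have h3 : (HH W y).relIndex (HH W' y') = 1 := by omega
      exact le_antisymm h1 (relIndex_eq_one.1 h3)
    have hd : v * (y' * v * y') = 1 := by
      have h1 := congrArg (fun φ : MulAut E => ((φ ⟨x, hHE hx⟩ : E) : X)) hvw
      simp only [hρa] at h1
      rw [f2' v hv x (hHE hx) hx', f1 w hw x hx] at h1
      exact mul_eq_right.1 h1
    rw [← hvw]
    apply MulEquiv.ext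
    rintro ⟨e, he⟩
    apply Subtype.ext
    rw [hρa]
    change v * e * v⁻¹ = e
    by_cases h2 : e ∈ HH W' y'
    · exact f1' v hv e h2
    · rw [f2' v hv e he h2, hd, one_mul]
  have hp2 : IsPGroup 2 W := fun w => ⟨1, by
    apply Subtype.ext
    rw [pow_one, pow_two]
    exact D.he _ w.2⟩
  have hp2' : IsPGroup 2 W' := fun w => ⟨1, by
    apply Subtype.ext
    rw [pow_one, pow_two]
    exact D'.he _ w.2⟩
  have hPp : IsPGroup 2 P := by
    rw [hP]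
    refine IsPGroup.map ?_ _
    exact (hp2.to_le (D.AA_le _)).comap_of_injective _ (Subgroup.subtype_injective _)
  have hQp : IsPGroup 2 Q := by
    rw [hQ]
    refine IsPGroup.map ?_ _
    exact (hp2'.to_le (D'.AA_le _)).comap_of_injective _ (Subgroup.subtype_injective _)
  have hPQ : IsPGroup 2 ↥(P ⊔ Q) := by
    refine IsPGroup.to_sup_of_normal_right' hPp hQp ?_
    intro a ha
    refine centralizer_le Q ?_
    rw [mem_centralizer_iff]
    exact fun b hb => (hcomm a ha b hb).symm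
  have hEp : IsPGroup 2 E := fun e => ⟨1, by
    apply Subtype.ext
    rw [pow_one, pow_two]
    exact D.EE_sq (hE ▸ e.2)⟩
  have hle := card_mul_le S E hEp (hE ▸ D.EE_le_centralizer) hPQ (by
    rw [hP, hQ, hρ]
    exact sup_le (map_le_range _ _) (map_le_range _ _))
  have hle2 := card_mul_le_sup hdis
  -- numbers
  have n1 : (HH W y).relIndex (D.AA (HH W' y')) * (D.AA (HH W' y')).relIndex W = (HH W y).relIndex W :=
    relIndex_mul_relIndex _ _ _ (D.HH_le_AA _) (D.AA_le _)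
  have n1' : (HH W' y').relIndex (D'.AA (HH W y)) * (D'.AA (HH W y)).relIndex W' = (HH W' y').relIndex W' :=
    relIndex_mul_relIndex _ _ _ (D'.HH_le_AA _) (D'.AA_le _)
  have n2 : (D.AA (HH W' y')).relIndex W ≤ 2 := Nat.le_of_dvd (by norm_num) (D.relIndex_AA (hE ▸ hK'))
  have n2' : (D'.AA (HH W y)).relIndex W' ≤ 2 := Nat.le_of_dvd (by norm_num) (D'.relIndex_AA (hE' ▸ hK))
  have n3 : Nat.card (HH W y) * 2 = Nat.card E := by
    have h := card_mul_relIndex hHE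
    rwa [hK] at h
  have n3' : Nat.card (HH W' y') * 2 = Nat.card E := by
    have h := card_mul_relIndex hHE'
    rwa [hK'] at h
  have n4 : Nat.card W * 2 = Nat.card S := by
    have h := card_mul_relIndex D.hW
    rwa [D.hi] at h
  have n4' : Nat.card W' * 2 = Nat.card T' := by
    have h := card_mul_relIndex D'.hW
    rwa [D'.hi] at h
  have n5 : Nat.card (HH W y) * (HH W y).relIndex W = Nat.card W := card_mul_relIndex inf_le_left
  have n5' : Nat.card (HH W' y') * (HH W' y').relIndex W' = Nat.card W' := card_mul_relIndex inf_le_left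
  have hb : 4 < (HH W y).relIndex W := D.hC
  have hpos : 0 < Nat.card (HH W y) := Nat.card_pos
  have hHH : Nat.card (HH W' y') = Nat.card (HH W y) := by omega
  have hbb : (HH W' y').relIndex W' = (HH W y).relIndex W := by
    have hWW : Nat.card W' = Nat.card W := by omega
    rw [hHH, hWW, ← n5] at n5'
    exact Nat.eq_of_mul_eq_mul_left hpos n5'
  rw [hbb] at n1'
  rw [← hcP] at n1
  rw [← hcQ] at n1'
  obtain ⟨b, hbdef⟩ : ∃ b, b = (HH W y).relIndex W := ⟨_, rfl⟩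
  rw [← hbdef] at n1 n1' hb n5
  have m1 : b ≤ Nat.card P * 2 := by rw [← n1]; exact Nat.mul_le_mul_left _ n2
  have m2 : b ≤ Nat.card Q * 2 := by rw [← n1']; exact Nat.mul_le_mul_left _ n2'
  have m3 : Nat.card P * Nat.card Q ≤ b := by
    have h1 : Nat.card E * (Nat.card P * Nat.card Q) ≤ Nat.card E * b := by
      calc Nat.card E * (Nat.card P * Nat.card Q) ≤ Nat.card E * Nat.card ↥(P ⊔ Q) := Nat.mul_le_mul_left _ hle2
        _ ≤ Nat.card S := hle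
        _ = Nat.card E * b := by rw [← n4, ← n5, ← n3]; ring
    exact Nat.le_of_mul_le_mul_left h1 Nat.card_pos
  have m4 : b * b ≤ 4 * b := by
    calc b * b ≤ (Nat.card P * 2) * (Nat.card Q * 2) := Nat.mul_le_mul m1 m2
      _ = 4 * (Nat.card P * Nat.card Q) := by ring
      _ ≤ 4 * b := Nat.mul_le_mul_left _ m3
  have m5 : b ≤ 4 := Nat.le_of_mul_le_mul_right m4 (by omega)
  omega

end card

section conj

/-- conjugate of a subgroup -/
def cj (g : X) (A : Subgroup X) : Subgroup X := A.map (MulAut.conj g).toMonoidHom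

theorem mem_cj {g x : X} {A : Subgroup X} : x ∈ cj g A ↔ g⁻¹ * x * g ∈ A := by
  constructor
  · rintro ⟨a, ha, rfl⟩
    have h : g⁻¹ * (MulAut.conj g).toMonoidHom a * g = a := by
      change g⁻¹ * (g * a * g⁻¹) * g = a
      group
    rwa [h]
  · intro h
    refine ⟨_, h, ?_⟩
    change g * (g⁻¹ * x * g) * g⁻¹ = x
    group

theorem conj_mem_cj {g x : X} {A : Subgroup X} (h : x ∈ A) : g * x * g⁻¹ ∈ cj g A := ⟨x, h, rfl⟩

theorem card_cj (g : X) (A : Subgroup X) : Nat.card (cj g A) = Nat.card A :=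
  Subgroup.card_map_of_injective (MulAut.conj g).injective

theorem cj_mono {g : X} {A B : Subgroup X} (h : A ≤ B) : cj g A ≤ cj g B := map_mono h

theorem cj_inf_centralizer (g y : X) (A : Subgroup X) :
    cj g A ⊓ centralizer {g * y * g⁻¹} = cj g (A ⊓ centralizer {y}) := by
  ext x
  rw [mem_inf, mem_cj, mem_cj, mem_inf, mem_centralizer_singleton_iff, mem_centralizer_singleton_iff]
  have h : x * (g * y * g⁻¹) = g * y * g⁻¹ * x ↔ g⁻¹ * x * g * y = y * (g⁻¹ * x * g) := by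
    constructor
    · intro h
      calc g⁻¹ * x * g * y = g⁻¹ * (x * (g * y * g⁻¹)) * g := by group
        _ = g⁻¹ * (g * y * g⁻¹ * x) * g := by rw [h]
        _ = y * (g⁻¹ * x * g) := by group
    · intro h
      calc x * (g * y * g⁻¹) = g * (g⁻¹ * x * g * y) * g⁻¹ := by group
        _ = g * (y * (g⁻¹ * x * g)) * g⁻¹ := by rw [h]
        _ = g * y * g⁻¹ * x := by group
  rw [h]

theorem Dat.conj {T W : Subgroup X} {y : X} (D : Dat T W y) (g : X) :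
    Dat (cj g T) (cj g W) (g * y * g⁻¹) where
  hW := cj_mono D.hW
  hi := by
    unfold cj
    rw [relIndex_map_map_of_injective _ _ (MulAut.conj g).injective]
    exact D.hi
  he := by
    intro w hw
    have h1 := D.he _ (mem_cj.1 hw)
    have h2 : w * w = g * (g⁻¹ * w * g * (g⁻¹ * w * g)) * g⁻¹ := by group
    rw [h2, h1]
    group
  hy := conj_mem_cj D.hy
  hyW := by
    intro h
    apply D.hyW
    have h1 := mem_cj.1 h
    have h2 : g⁻¹ * (g * y * g⁻¹) * g = y := by group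
    rwa [h2] at h1
  hyy := by
    have h2 : g * y * g⁻¹ * (g * y * g⁻¹) = g * (y * y) * g⁻¹ := by group
    rw [h2, D.hyy]
    group
  hC := by
    rw [cj_inf_centralizer]
    unfold cj
    rw [relIndex_map_map_of_injective _ _ (MulAut.conj g).injective]
    exact D.hC

theorem mem_smul_sylow {p : ℕ} {S : Sylow p X} {k x : X} :
    x ∈ ((k • S : Sylow p X) : Subgroup X) ↔ k⁻¹ * x * k ∈ (S : Subgroup X) := by
  rw [Sylow.coe_subgroup_smul, Subgroup.mem_pointwise_smul_iff_inv_smul_mem]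
  simp [MulAut.smul_def, ← map_inv, MulAut.conj_apply]

end conj

namespace Dat

variable {T W : Subgroup X} {y : X} (D : Dat T W y)

include D

/-- elements of `W` commuting with an element of `T - W` lie in `H` -/
theorem mem_HH_of_comm {f u : X} (hf : f ∈ T) (hfW : f ∉ W) (hu : u ∈ W) (huf : u * f = f * u) :
    u ∈ HH W y := by
  refine mem_HH.2 ⟨hu, ?_⟩
  have h1 := D.comm_W hu (D.ymem hf hfW)
  have h2 : u * y * f = y * u * f := by
    calc u * y * f = u * (y * f) := by group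
      _ = y * f * u := h1
      _ = y * (f * u) := by group
      _ = y * (u * f) := by rw [huf]
      _ = y * u * f := by group
  exact mul_right_cancel h2

theorem relIndex_le {A : Subgroup X} (hA : A ≤ T) : W.relIndex A ≤ 2 := by
  rw [← D.hi]
  exact relIndex_le_of_le_right hA (by rw [D.hi]; norm_num)

variable [Finite X]

theorem card_HH : 4 * Nat.card (HH W y) < Nat.card W := by
  have h1 : Nat.card (HH W y) * (HH W y).relIndex W = Nat.card W := card_mul_relIndex inf_le_left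
  have h2 : 4 < (HH W y).relIndex W := D.hC
  have h3 : 0 < Nat.card (HH W y) := Nat.card_pos
  rw [← h1, mul_comm]
  exact Nat.mul_lt_mul_of_pos_left h2 h3

theorem card_EE : Nat.card (EE T y) = 2 * Nat.card (HH W y) := by
  have h := card_mul_relIndex D.HH_le_EE
  rw [D.relIndex_HH_EE] at h
  omega

/-- `W` is the only abelian subgroup of index 2 -/
theorem eq_of_abelian {A : Subgroup X} (hAT : A ≤ T) (hc : Nat.card A = Nat.card W)
    (hab : ∀ a ∈ A, ∀ b ∈ A, a * b = b * a) : A = W := by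
  by_cases hle : A ≤ W
  · exact Subgroup.eq_of_le_of_card_ge hle hc.ge
  · exfalso
    obtain ⟨a, ha, haW⟩ := SetLike.not_le_iff_exists.1 hle
    have h1 : W ⊓ A ≤ HH W y := fun u hu =>
      D.mem_HH_of_comm (hAT ha) haW hu.1 (hab u hu.2 a ha)
    have h2 : Nat.card ↥(W ⊓ A) * (W ⊓ A).relIndex A = Nat.card A := card_mul_relIndex inf_le_right
    rw [inf_relIndex_right] at h2
    have h3 := D.relIndex_le hAT
    have h4 : Nat.card ↥(W ⊓ A) ≤ Nat.card (HH W y) := Nat.card_le_card_of_injective _ (inclusion_injective h1)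
    have h5 := D.card_HH
    have h6 : Nat.card A ≤ Nat.card (HH W y) * 2 := by
      rw [← h2]
      exact Nat.mul_le_mul h4 h3
    omega

/-- an elementary abelian subgroup of `T` of order `|E|` not contained in `W` is `E` -/
theorem eq_EE {F : Subgroup X} (hFT : F ≤ T) (hc : Nat.card F = Nat.card (EE T y))
    (hab : ∀ a ∈ F, ∀ b ∈ F, a * b = b * a) (hsq : ∀ a ∈ F, a * a = 1) (hle : ¬ F ≤ W) : F = EE T y := by
  obtain ⟨f, hf, hfW⟩ := SetLike.not_le_iff_exists.1 hle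
  have h1 : W ⊓ F ≤ HH W y := fun u hu =>
    D.mem_HH_of_comm (hFT hf) hfW hu.1 (hab u hu.2 f hf)
  -- `f ∈ E`
  have hfE : f ∈ EE T y := by
    refine mem_EE.2 ⟨hFT hf, ?_⟩
    have hu := D.ymem (hFT hf) hfW
    have h2 := D.he _ hu
    have h3 := hsq f hf
    -- y f y f = 1, f f = 1
    have h4 : y * f = (y * f)⁻¹ := (inv_eq_of_mul_eq_one_left h2).symm
    rw [mul_inv_rev, D.y_inv, inv_eq_of_mul_eq_one_left h3] at h4
    exact h4.symm
  have h5 : F ≤ EE T y := by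
    intro x hx
    by_cases hxW : x ∈ W
    · exact D.HH_le_EE (h1 ⟨hxW, hx⟩)
    · have h6 : f * x ∈ W := by
        rw [D.mul_mem_iff (hFT hf) (hFT hx)]
        exact ⟨fun h => absurd h hfW, fun h => absurd h hxW⟩
      have h7 := D.HH_le_EE (h1 ⟨h6, mul_mem hf hx⟩)
      have h8 := mul_mem (inv_mem hfE) h7
      rwa [inv_mul_cancel_left] at h8
  exact Subgroup.eq_of_le_of_card_ge h5 hc.ge

end Dat

/-- `C(E)` has no 2-subgroup of order `|W|` -/
theorem not_le_W [Finite X] (S : Sylow 2 X) {W : Subgroup X} {y : X} (D : Dat (S : Subgroup X) W y) {U : Subgroup X}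
    (hU : IsPGroup 2 U) (hc : Nat.card U = Nat.card W) (hUC : U ≤ centralizer (EE (S : Subgroup X) y : Set X)) :
    False := by
  obtain ⟨E, hE⟩ : ∃ E, E = EE (S : Subgroup X) y := ⟨_, rfl⟩
  rw [← hE] at hUC
  have hr : Nat.card (((S : Subgroup X).subgroupOf (normalizer (E : Set X))).map E.normalizerMonoidHom) =
      E.relIndex (S : Subgroup X) := by
    rw [← relIndex_ker, normalizerMonoidHom_ker, relIndex_subgroupOf (by rw [hE]; exact D.T_le_normalizer),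
      ← inf_relIndex_right, hE, D.centralizer_inf_T]
  have hP : IsPGroup 2 (((S : Subgroup X).subgroupOf (normalizer (E : Set X))).map E.normalizerMonoidHom) := by
    refine IsPGroup.map ?_ _
    exact S.2.comap_of_injective _ (Subgroup.subtype_injective _)
  have h1 := card_mul_le S E hU hUC hP (map_le_range _ _)
  rw [hr, hc] at h1
  have h2 : Nat.card E * E.relIndex (S : Subgroup X) = Nat.card S := by
    refine card_mul_relIndex ?_
    rw [hE]
    exact inf_le_left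
  rw [← h2] at h1
  have h3 : 0 < E.relIndex (S : Subgroup X) := Nat.pos_of_ne_zero (fun h => by
    rw [h, mul_zero] at h2
    exact (Nat.card_pos (α := S)).ne h2)
  have h4 := Nat.le_of_mul_le_mul_right h1 h3
  have h5 := D.card_HH
  have h6 := D.card_EE
  rw [← hE] at h6
  omega

/-- **LEMMA TV.** -/
theorem main [Finite X] (S : Sylow 2 X) {W : Subgroup X} {y : X} (D : Dat (S : Subgroup X) W y) (g : X) :
    g * y * g⁻¹ ∉ W := by
  intro hw
  have hWp : IsPGroup 2 W := fun w => ⟨1, by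
    apply Subtype.ext
    rw [pow_one, pow_two]
    exact D.he _ w.2⟩
  have hEp : IsPGroup 2 (EE (S : Subgroup X) y) := fun e => ⟨1, by
    apply Subtype.ext
    rw [pow_one, pow_two]
    exact D.EE_sq e.2⟩
  -- reduction to `E^g ≤ S`
  obtain ⟨g', hg1, hg2⟩ : ∃ g' : X, g' * y * g'⁻¹ ∈ W ∧ cj g' (EE (S : Subgroup X) y) ≤ S := by
    obtain ⟨w, hwd⟩ : ∃ w, w = g * y * g⁻¹ := ⟨_, rfl⟩
    rw [← hwd] at hw
    have hWC : W ≤ centralizer {w} := fun v hv => mem_centralizer_singleton_iff.2 (D.comm_W hv hw)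
    obtain ⟨R, hR⟩ := (hWp.comap_of_injective (centralizer {w}).subtype
      (Subgroup.subtype_injective _)).exists_le_sylow
    obtain ⟨S', hS'⟩ := (R.2.map (centralizer {w}).subtype).exists_le_sylow
    obtain ⟨k, hk⟩ := MulAction.exists_smul_eq X S S'
    have hWR : W ≤ S' := fun v hv => hS' ⟨⟨v, hWC hv⟩, hR hv, rfl⟩
    have hkW : cj k⁻¹ W = W := by
      refine D.eq_of_abelian ?_ (card_cj _ _) ?_
      · intro x hx
        have h1 := hWR (mem_cj.1 hx)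
        rw [← hk, mem_smul_sylow] at h1
        have h2 : k⁻¹ * (k⁻¹⁻¹ * x * k⁻¹) * k = x := by group
        rwa [h2] at h1
      · rintro _ ⟨a, ha, rfl⟩ _ ⟨b, hb, rfl⟩
        rw [← map_mul, ← map_mul, D.comm_W ha hb]
    have hFC : cj g (EE (S : Subgroup X) y) ≤ centralizer {w} := by
      rintro _ ⟨e, he, rfl⟩
      rw [mem_centralizer_singleton_iff, hwd]
      change g * e * g⁻¹ * (g * y * g⁻¹) = g * y * g⁻¹ * (g * e * g⁻¹)
      have h1 := (mem_EE.1 he).2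
      calc g * e * g⁻¹ * (g * y * g⁻¹) = g * (e * y) * g⁻¹ := by group
        _ = g * (y * e) * g⁻¹ := by rw [h1]
        _ = _ := by group
    obtain ⟨R2, hR2⟩ := ((hEp.map (MulAut.conj g).toMonoidHom).comap_of_injective (centralizer {w}).subtype
      (Subgroup.subtype_injective _)).exists_le_sylow
    obtain ⟨c, hc⟩ := MulAction.exists_smul_eq ↥(centralizer {w}) R2 R
    refine ⟨k⁻¹ * c * g, ?_, ?_⟩
    · have h1 : k⁻¹ * c * g * y * (k⁻¹ * c * g)⁻¹ = k⁻¹ * (c * w * (c : X)⁻¹) * k⁻¹⁻¹ := by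
        calc k⁻¹ * c * g * y * (k⁻¹ * c * g)⁻¹ = k⁻¹ * (c * (g * y * g⁻¹) * (c : X)⁻¹) * k⁻¹⁻¹ := by group
          _ = _ := by rw [← hwd]
      have h2 : (c : X) * w * (c : X)⁻¹ = w := by
        rw [mem_centralizer_singleton_iff.1 c.2, mul_inv_cancel_right]
      rw [h1, h2]
      have h3 : k⁻¹ * w * k⁻¹⁻¹ ∈ cj k⁻¹ W := conj_mem_cj hw
      rwa [hkW] at h3
    · rintro _ ⟨e, he, rfl⟩
      have h1 : (⟨g * e * g⁻¹, hFC (conj_mem_cj he)⟩ : ↥(centralizer {w})) ∈ (R2 : Subgroup ↥(centralizer {w})) :=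
        hR2 (conj_mem_cj he)
      have h2 : c * ⟨g * e * g⁻¹, hFC (conj_mem_cj he)⟩ * c⁻¹ ∈ (R : Subgroup ↥(centralizer {w})) := by
        rw [← hc, mem_smul_sylow]
        have h3 : c⁻¹ * (c * ⟨g * e * g⁻¹, hFC (conj_mem_cj he)⟩ * c⁻¹) * c =
            ⟨g * e * g⁻¹, hFC (conj_mem_cj he)⟩ := by group
        rwa [h3]
      have h3 := hS' ⟨_, h2, rfl⟩
      rw [← hk, mem_smul_sylow] at h3
      have h4 : k⁻¹ * (centralizer {w}).subtype (c * ⟨g * e * g⁻¹, hFC (conj_mem_cj he)⟩ * c⁻¹) * k =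
          (MulAut.conj (k⁻¹ * c * g)).toMonoidHom e := by
        change k⁻¹ * ((c : X) * (g * e * g⁻¹) * (c : X)⁻¹) * k = k⁻¹ * c * g * e * (k⁻¹ * c * g)⁻¹
        group
      rwa [h4] at h3
  -- (i)
  have hne : ¬ cj g' (EE (S : Subgroup X) y) ≤ W := by
    intro h
    refine not_le_W S D (U := cj g'⁻¹ W) (hWp.map _) (card_cj _ _) ?_
    rintro _ ⟨v, hv, rfl⟩
    rw [mem_centralizer_iff]
    intro e he
    have h1 := D.comm_W hv (h (conj_mem_cj he))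
    change e * (g'⁻¹ * v * g'⁻¹⁻¹) = g'⁻¹ * v * g'⁻¹⁻¹ * e
    calc e * (g'⁻¹ * v * g'⁻¹⁻¹) = g'⁻¹ * ((g' * e * g'⁻¹) * v) * g' := by group
      _ = g'⁻¹ * (v * (g' * e * g'⁻¹)) * g' := by rw [h1]
      _ = _ := by group
  -- (ii)
  have hEq : cj g' (EE (S : Subgroup X) y) = EE (S : Subgroup X) y := by
    refine D.eq_EE hg2 (card_cj _ _) ?_ ?_ hne
    · rintro _ ⟨a, ha, rfl⟩ _ ⟨b, hb, rfl⟩
      rw [← map_mul, ← map_mul, D.EE_comm ha hb]
    · rintro _ ⟨a, ha, rfl⟩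
      rw [← map_mul, D.EE_sq ha, map_one]
  -- (iii)
  refine two_axes S D (D.conj g') (card_cj _ _) _ rfl ?_ ?_
  · unfold EE
    rw [cj_inf_centralizer]
    exact hEq
  · intro h
    have h1 : g' * y * g'⁻¹ ∈ HH W y := by
      refine mem_HH.2 ⟨hg1, ?_⟩
      have h2 : g' * y * g'⁻¹ ∈ cj g' (EE (S : Subgroup X) y) := conj_mem_cj D.y_mem_EE
      rw [hEq] at h2
      exact (mem_EE.1 h2).2
    rw [h] at h1
    exact (D.conj g').hyW (mem_HH.1 h1).1

end Cfsg.Agent.OddHalf.D4.Sz.TV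

open Cfsg.Agent.OddHalf.D4.Sz.TV in
/-- **LEMMA TV**, literal form. -/
theorem Cfsg.Agent.OddHalf.D4.Sz.TV.tv {X : Type*} [Group X] [Finite X] (S : Sylow 2 X) (W : Subgroup X)
    (hW : W ≤ S) (hi : W.relIndex S = 2) (he : ∀ w ∈ W, w * w = 1) (y : X) (hy : y ∈ S) (hyW : y ∉ W)
    (hyy : y * y = 1) (hC : 4 < (W ⊓ centralizer {y}).relIndex W) (g : X) : g * y * g⁻¹ ∉ W :=
  main S ⟨hW, hi, he, hy, hyW, hyy, hC⟩ g

end

-- merged: Cfsg.Agent.OddHalf.D4.Sz.SwapD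
section

/-!
# ODD, D4, `K = Sz(q)`, `q ≥ 32`: the configuration `Pre` + `Glob` is contradictory

Extremal transfer at the involution `y₀` commuting with `{p a b}`, and LEMMA TV in `N(Z) / Z`.
-/

set_option autoImplicit false
set_option linter.unusedSectionVars false

namespace Cfsg.Agent.OddHalf.D4.Sz

open Subgroup Cfsg.Agent.StdSz.EquivMaps Cfsg.Agent.StdSz.SzMaps

/-- LEMMA TV in `N(Z) / Z` -/
theorem quot_tv {G : Type*} [Group G] [Finite G] (S : Sylow 2 G) {Z W : Subgroup G} (hZW : Z ≤ W)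
    (hWS : W ≤ (S : Subgroup G)) (hSZ : (S : Subgroup G) ≤ normalizer (Z : Set G))
    (hi : W.relIndex (S : Subgroup G) = 2)
    (he : ∀ w ∈ W, w * w ∈ Z) {y : G} (hy : y ∈ (S : Subgroup G)) (hyW : y ∉ W) (hyy : y * y = 1)
    {ι : Type*} [Finite ι] (hι : 4 < Nat.card ι) (ee : ι → G) (hee : ∀ i, ee i ∈ W)
    (hinj : ∀ i j, ((ee i)⁻¹ * ee j) * y * ((ee i)⁻¹ * ee j)⁻¹ * y⁻¹ ∈ Z → i = j)
    {g : G} (hgZ : g ∈ normalizer (Z : Set G)) : g * y * g⁻¹ ∉ W := by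
  intro hg
  have h2 : Fact (Nat.Prime 2) := ⟨Nat.prime_two⟩
  set N : Subgroup G := normalizer (Z : Set G) with hN
  set Zn : Subgroup N := Z.subgroupOf N with hZn
  have hnorm : Zn.Normal := normal_in_normalizer
  set π : N →* N ⧸ Zn := QuotientGroup.mk' Zn with hπ
  have hπs : Function.Surjective π := QuotientGroup.mk'_surjective Zn
  have hker : π.ker = Zn := QuotientGroup.ker_mk' Zn
  have hπ1 : ∀ x : N, π x = 1 ↔ (x : G) ∈ Z := by
    intro x
    rw [← MonoidHom.mem_ker, hker, hZn, mem_subgroupOf]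
  have hWN : W ≤ N := hWS.trans hSZ
  set S' : Sylow 2 (N ⧸ Zn) := (S.subtype hSZ).mapSurjective hπs with hS'
  have hS'c : (S' : Subgroup (N ⧸ Zn)) = ((S : Subgroup G).subgroupOf N).map π := rfl
  set W' : Subgroup (N ⧸ Zn) := (W.subgroupOf N).map π with hW'
  have hW'S : W' ≤ (S' : Subgroup (N ⧸ Zn)) := by
    rw [hS'c]
    exact map_mono fun x hx => hWS hx
  have hi' : W'.relIndex (S' : Subgroup (N ⧸ Zn)) = 2 := by
    rw [hS'c, hW', relIndex_map_map, hker]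
    have e1 : W.subgroupOf N ⊔ Zn = W.subgroupOf N := sup_eq_left.mpr fun x hx => hZW hx
    have e2 : (S : Subgroup G).subgroupOf N ⊔ Zn = (S : Subgroup G).subgroupOf N :=
      sup_eq_left.mpr fun x hx => hWS (hZW hx)
    rw [e1, e2, relIndex_subgroupOf hSZ, hi]
  have hmemW : ∀ x : N, π x ∈ W' ↔ (x : G) ∈ W := by
    intro x
    constructor
    · rintro ⟨w, hw, hwx⟩
      have h3 : π (w⁻¹ * x) = 1 := by rw [map_mul, map_inv, hwx, inv_mul_cancel]
      rw [hπ1] at h3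
      have h4 := W.mul_mem (show (w : G) ∈ W from hw) (hZW h3)
      have e : (w : G) * ((w⁻¹ * x : N) : G) = x := by simp
      rwa [e] at h4
    · intro hx
      exact ⟨x, hx, rfl⟩
  have he' : ∀ w ∈ W', w * w = 1 := by
    rintro _ ⟨w, hw, rfl⟩
    rw [← map_mul, hπ1]
    exact he _ hw
  set y' : N ⧸ Zn := π ⟨y, hSZ hy⟩ with hy'
  have hyS' : y' ∈ (S' : Subgroup (N ⧸ Zn)) := by
    rw [hS'c]
    exact ⟨⟨y, hSZ hy⟩, hy, rfl⟩
  have hyW' : y' ∉ W' := fun h => hyW ((hmemW _).mp h)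
  have hyy' : y' * y' = 1 := by
    rw [hy', ← map_mul, hπ1]
    show y * y ∈ Z
    rw [hyy]; exact one_mem _
  have hC : 4 < (W' ⊓ centralizer {y'}).relIndex W' := by
    refine lt_of_lt_of_le hι ?_
    set C : Subgroup W' := (W' ⊓ centralizer {y'}).subgroupOf W' with hCd
    have e : (W' ⊓ centralizer {y'}).relIndex W' = Nat.card (W' ⧸ C) := rfl
    rw [e]
    let φ : ι → W' ⧸ C := fun i => QuotientGroup.mk (⟨π ⟨ee i, hWN (hee i)⟩, (hmemW _).mpr (hee i)⟩ : W')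
    apply Nat.card_le_card_of_injective φ
    intro i j hij
    apply hinj
    have h3 := QuotientGroup.eq.mp hij
    rw [hCd, mem_subgroupOf, mem_inf, mem_centralizer_singleton_iff] at h3
    have h4 := h3.2
    have h5 : π (⟨ee i, hWN (hee i)⟩⁻¹ * ⟨ee j, hWN (hee j)⟩ * ⟨y, hSZ hy⟩ *
        (⟨ee i, hWN (hee i)⟩⁻¹ * ⟨ee j, hWN (hee j)⟩)⁻¹ * ⟨y, hSZ hy⟩⁻¹) = 1 := by
      rw [map_mul, map_mul, map_mul, map_inv, map_inv, map_mul, map_inv]
      have h6 : (π ⟨ee i, hWN (hee i)⟩)⁻¹ * π ⟨ee j, hWN (hee j)⟩ * π ⟨y, hSZ hy⟩ =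
        π ⟨y, hSZ hy⟩ * ((π ⟨ee i, hWN (hee i)⟩)⁻¹ * π ⟨ee j, hWN (hee j)⟩) := h4
      rw [h6]
      group
    rw [hπ1] at h5
    exact h5
  refine TV.tv S' W' hW'S hi' he' y' hyS' hyW' hyy' hC (π ⟨g, hgZ⟩) ?_
  have e : π ⟨g, hgZ⟩ * y' * (π ⟨g, hgZ⟩)⁻¹ = π (⟨g, hgZ⟩ * ⟨y, hSZ hy⟩ * ⟨g, hgZ⟩⁻¹) := by
    rw [map_mul, map_mul, map_inv]
  rw [e, hmemW]
  exact hg

namespace Pre

variable {G : Type*} [Group G] [Finite G] {F : Type*} [Field F] [Fintype F] [CharP F 2] {m : ℕ} {P : Pre G F m}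

theorem Tor.e_ne {S : Sylow 2 G} {κ : G} {l e : F} (K : Tor P S κ l e) : e ≠ 1 := by
  intro h
  apply K.l_one
  apply Cfsg.Agent.StdSz.FormAlg.norm_inj P.hF
  rw [← K.ee, h, one_pow, mul_one]

theorem Tor.nu_ne {S : Sylow 2 G} {κ : G} {l e : F} (K : Tor P S κ l e) : l ^ (1 + 2 ^ (m + 1)) ≠ 1 := by
  intro h
  apply K.l_one
  apply Cfsg.Agent.StdSz.FormAlg.norm_inj P.hF
  rw [h, one_pow]

theorem fix_zero {e x : F} (he : e ≠ 1) (h : e * x = x) : x = 0 := by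
  have h1 : (e - 1) * x = 0 := by linear_combination h
  exact (mul_eq_zero.mp h1).resolve_left (sub_ne_zero.mpr he)

/-- `C_T(κ) = 1` -/
theorem Tor.fix {S : Sylow 2 G} {κ : G} {l e : F} (K : Tor P S κ l e) {x : G} (hx : x ∈ P.T)
    (h : κ * x * κ⁻¹ = x) : x = 1 := by
  have h1 := K.f x hx
  have h2 := K.a x hx
  have h3 := K.c x hx
  rw [h] at h1 h2 h3
  obtain ⟨b, rfl⟩ := P.eq_z_of hx (fix_zero K.e_ne h1.symm) (fix_zero K.l_one h2.symm) (fix_zero K.e_ne h3.symm)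
  rw [K.z] at h
  rw [fix_zero K.nu_ne (P.z_inj h), P.p_zero]

/-- the involution `y₀` commuting with `κ` -/
theorem Full.exists_y0 {S : Sylow 2 G} {y : G} {g k : F} (Fu : Full P S y g k) {κ : G} {l e : F}
    (K : Tor P S κ l e) : ∃ y₀, Full P S y₀ g k ∧ κ * y₀ * κ⁻¹ = y₀ ∧ y₀ * y₀ = 1 := by
  have ht := Fu.conj_y K.nS K.nT
  have hmem : ∀ w : P.T, κ * (w : G)⁻¹ * κ⁻¹ * w ∈ P.T := fun w => mul_mem (P.conj_T K.nT (inv_mem w.2)) w.2
  let φ : P.T → P.T := fun w => ⟨κ * (w : G)⁻¹ * κ⁻¹ * w, hmem w⟩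
  have hinj : Function.Injective φ := by
    intro w v hwv
    have h1 : κ * (w : G)⁻¹ * κ⁻¹ * w = κ * (v : G)⁻¹ * κ⁻¹ * v := congrArg Subtype.val hwv
    have h2 : κ * ((v : G) * (w : G)⁻¹) * κ⁻¹ = v * (w : G)⁻¹ := by
      calc κ * ((v : G) * (w : G)⁻¹) * κ⁻¹ = (κ * (v : G)⁻¹ * κ⁻¹)⁻¹ * (κ * (w : G)⁻¹ * κ⁻¹ * w) * (w : G)⁻¹ := by group
        _ = (κ * (v : G)⁻¹ * κ⁻¹)⁻¹ * (κ * (v : G)⁻¹ * κ⁻¹ * v) * (w : G)⁻¹ := by rw [h1]
        _ = _ := by group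
    have h3 := K.fix (mul_mem v.2 (inv_mem w.2)) h2
    exact Subtype.ext (mul_inv_eq_one.mp h3).symm
  obtain ⟨w, hw⟩ := (Finite.injective_iff_surjective.mp hinj) ⟨_, ht⟩
  have hw' : κ * (w : G)⁻¹ * κ⁻¹ * w = κ * y * κ⁻¹ * y⁻¹ := congrArg Subtype.val hw
  have Y' := Fu.ys.mul_left w.2
  have hcom : κ * (w * y) * κ⁻¹ = w * y := by
    calc κ * (w * y) * κ⁻¹ = (κ * w * κ⁻¹) * (κ * y * κ⁻¹ * y⁻¹) * y := by group
      _ = (κ * w * κ⁻¹) * (κ * (w : G)⁻¹ * κ⁻¹ * w) * y := by rw [hw']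
      _ = _ := by group
  refine ⟨w * y, ⟨Fu.TS, mul_mem (Fu.TS w.2) Fu.yS, Y', fun x hx => ?_⟩, hcom, ?_⟩
  · rcases Fu.cov x hx with h | h
    · exact Or.inl h
    · right
      have e : x * ((w : G) * y)⁻¹ = x * y⁻¹ * (w : G)⁻¹ := by group
      rw [e]
      exact mul_mem h (inv_mem w.2)
  · apply K.fix Y'.sq
    calc κ * (w * y * (w * y)) * κ⁻¹ = (κ * (w * y) * κ⁻¹) * (κ * (w * y) * κ⁻¹) := by group
      _ = _ := by rw [hcom]

/-- `y₀` commutes with `{p a b}` -/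
theorem Full.comm_p {S : Sylow 2 G} {y : G} {g k : F} (Fu : Full P S y g k) {κ : G} {l e : F}
    (K : Tor P S κ l e) (hy : κ * y * κ⁻¹ = y) (a b : F) : y * P.p a b = P.p a b * y := by
  -- `ζ`
  have h1 : ∀ a, ∃ z, y * P.p a 0 * y⁻¹ = P.p a z := by
    intro a
    have h2 := P.conj_T Fu.ys.nT (P.T_p a 0)
    obtain ⟨z, hz⟩ := P.exists_z_mul h2 (P.T_p a 0)
      (by rw [Fu.ys.f _ (P.T_p a 0), P.act_p, P.fC_p, mul_zero])
      (by rw [Fu.ys.a _ (P.T_p a 0)])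
      (by rw [Fu.ys.c _ (P.T_p a 0), P.act_p, P.fC_p, mul_zero])
    exact ⟨z, by rw [hz, P.z_mul_p, add_zero]⟩
  choose ζ hζ using h1
  -- `δ`
  have h2 : ∀ a, ∃ z, κ * P.p a 0 * κ⁻¹ = P.p (l * a) z := by
    intro a
    have h2 := P.conj_T K.nT (P.T_p a 0)
    obtain ⟨z, hz⟩ := P.exists_z_mul h2 (P.T_p (l * a) 0)
      (by rw [K.f _ (P.T_p a 0), P.fC_p, P.fC_p, mul_zero])
      (by rw [K.a _ (P.T_p a 0), P.aC_p, P.aC_p])
      (by rw [K.c _ (P.T_p a 0), P.act_p, P.act_p, mul_zero])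
    exact ⟨z, by rw [hz, P.z_mul_p, add_zero]⟩
  choose δ hδ using h2
  have hζ' : ∀ a b, y * P.p a b * y⁻¹ = P.p a (b + ζ a) := by
    intro a b
    have e1 : P.p a b = P.p 0 b * P.p a 0 := by rw [P.z_mul_p, add_zero]
    have e2 : y * P.p a b * y⁻¹ = (y * P.p 0 b * y⁻¹) * (y * P.p a 0 * y⁻¹) := by rw [e1]; group
    rw [e2, Fu.ys.z, hζ, P.z_mul_p]
  have hadd : ∀ a a', ζ (a + a') = ζ a + ζ a' := by
    intro a a'
    have e1 : P.p a 0 * P.p a' 0 = P.p (a + a') (a ^ (2 ^ (m + 1)) * a') := by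
      rw [P.p_mul, add_zero, zero_add]
    have e2 : y * (P.p a 0 * P.p a' 0) * y⁻¹ = (y * P.p a 0 * y⁻¹) * (y * P.p a' 0 * y⁻¹) := by group
    rw [e1, hζ', hζ, hζ, P.p_mul] at e2
    have e3 := (P.p_inj _ _ _ _ e2).2
    linear_combination e3
  have heq : ∀ a, ζ (l * a) = l ^ (1 + 2 ^ (m + 1)) * ζ a := by
    intro a
    have e1 : κ * (y * P.p a 0 * y⁻¹) * κ⁻¹ = y * (κ * P.p a 0 * κ⁻¹) * y⁻¹ := by
      calc κ * (y * P.p a 0 * y⁻¹) * κ⁻¹ = (κ * y * κ⁻¹) * (κ * P.p a 0 * κ⁻¹) * (κ * y * κ⁻¹)⁻¹ := by group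
        _ = _ := by rw [hy]
    have e2 : P.p a (ζ a) = P.p 0 (ζ a) * P.p a 0 := by rw [P.z_mul_p, add_zero]
    have e3 : κ * (P.p 0 (ζ a) * P.p a 0) * κ⁻¹ = (κ * P.p 0 (ζ a) * κ⁻¹) * (κ * P.p a 0 * κ⁻¹) := by group
    rw [hζ, hδ, hζ', e2, e3, K.z, hδ, P.z_mul_p] at e1
    have e4 := (P.p_inj _ _ _ _ e1).2
    linear_combination -e4
  have hpow : ∀ n : ℕ, ∀ a, ζ (l ^ n * a) = (l ^ n) ^ (1 + 2 ^ (m + 1)) * ζ a := by
    intro n
    induction n with
    | zero => intro a; rw [pow_zero, one_mul, one_pow, one_mul]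
    | succ n ih =>
      intro a
      have e1 : l ^ (n + 1) * a = l ^ n * (l * a) := by ring
      rw [e1, ih, heq]
      ring
  have hz : ∀ a, ζ a = 0 := by
    intro a
    refine Weights.map_12 (m := m) (by have := P.hm; omega) P.hF ζ hadd (fun c x hc => ?_) a
    obtain ⟨n, rfl⟩ := K.gen c hc
    exact hpow n x
  have h3 := hζ' a b
  rw [hz, add_zero] at h3
  calc y * P.p a b = (y * P.p a b * y⁻¹) * y := by group
    _ = _ := by rw [h3]

/-- the set containing the commutators of `S` -/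
def InD (P : Pre G F m) (g : F) (x : G) : Prop := x ∈ P.T ∧ P.aC x = 0 ∧ P.act x = g * P.fC x

theorem Full.comm_D {S : Sylow 2 G} {y : G} {g k : F} (Fu : Full P S y g k) {a b : G}
    (ha : a ∈ (S : Subgroup G)) (hb : b ∈ (S : Subgroup G)) : InD P g (a * b * a⁻¹ * b⁻¹) := by
  -- `a ∈ T`, `b ∉ T`
  have key : ∀ a ∈ P.T, ∀ b, b * y⁻¹ ∈ P.T → InD P g (a * b * a⁻¹ * b⁻¹) := by
    intro a ha b hb
    have Y' := Fu.ys.mul_right hb
    have h1 := P.conj_T Y'.nT (inv_mem ha)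
    have e : a * b * a⁻¹ * b⁻¹ = a * (b * a⁻¹ * b⁻¹) := by group
    rw [e]
    refine ⟨mul_mem ha h1, ?_, ?_⟩
    · rw [P.aC_mul ha h1, Y'.a _ (inv_mem ha), P.aC_inv ha, CharTwo.add_self_eq_zero]
    · rw [P.act_mul ha h1, P.fC_mul ha h1, Y'.c _ (inv_mem ha), Y'.f _ (inv_mem ha), P.act_inv ha, P.fC_inv ha]
      linear_combination -P.act a * Y'.gk
  have key2 : ∀ a ∈ P.T, ∀ b, b * y⁻¹ ∈ P.T → InD P g (b * a * b⁻¹ * a⁻¹) := by
    intro a ha b hb
    have Y' := Fu.ys.mul_right hb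
    have h1 := P.conj_T Y'.nT ha
    refine ⟨mul_mem h1 (inv_mem ha), ?_, ?_⟩
    · rw [P.aC_mul h1 (inv_mem ha), Y'.a _ ha, P.aC_inv ha, CharTwo.add_self_eq_zero]
    · rw [P.act_mul h1 (inv_mem ha), P.fC_mul h1 (inv_mem ha), Y'.c _ ha, Y'.f _ ha, P.act_inv ha, P.fC_inv ha]
      linear_combination -P.act a * Y'.gk
  rcases Fu.cov a ha with h1 | h1
  · rcases Fu.cov b hb with h2 | h2
    · obtain ⟨c, hc⟩ := P.exists_comm h1 h2
      have e : a * b * a⁻¹ * b⁻¹ = P.p 0 c := by rw [hc]; group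
      rw [e]
      exact ⟨P.T_p _ _, P.aC_p _ _, by rw [P.act_p, P.fC_p, mul_zero]⟩
    · exact key a h1 b h2
  · rcases Fu.cov b hb with h2 | h2
    · exact key2 b h2 a h1
    · have h3 : b * a⁻¹ ∈ P.T := by
        have := mul_mem h2 (inv_mem h1)
        have e : b * y⁻¹ * (a * y⁻¹)⁻¹ = b * a⁻¹ := by group
        rwa [e] at this
      have h4 := key2 _ h3 a h1
      have e : a * (b * a⁻¹) * a⁻¹ * (b * a⁻¹)⁻¹ = a * b * a⁻¹ * b⁻¹ := by group
      rwa [e] at h4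

theorem InD.eq_z (Si : Simp P) {g : F} (hg : g ≠ 0) {x : G} (h : InD P g x) (hx : x * x = 1) : ∃ b, x = P.p 0 b := by
  obtain ⟨h1, h2, h3⟩ := h
  have h4 : P.sq x = 0 := P.sq_eq h1 (by rw [hx, P.p_zero])
  rw [Si.sq h1, h2, h3, zero_pow (by omega), zero_add] at h4
  have h5 : g * (P.fC x * P.fC x) = 0 := by rw [← h4]; ring
  have h6 : P.fC x = 0 := by
    rcases mul_eq_zero.mp h5 with h | h
    · exact absurd h hg
    · exact mul_self_eq_zero.mp h
  exact P.eq_z_of h1 h6 h2 (by rw [h3, h6, mul_zero])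

variable (P) in
/-- the group `Z` -/
def ZZ : Subgroup G where
  carrier := {x | ∃ b, x = P.p 0 b}
  one_mem' := ⟨0, P.p_zero.symm⟩
  mul_mem' := by
    rintro _ _ ⟨b, rfl⟩ ⟨c, rfl⟩
    exact ⟨b + c, P.z_mul b c⟩
  inv_mem' := by
    rintro _ ⟨b, rfl⟩
    exact ⟨b, P.z_inv b⟩

theorem mem_ZZ {x : G} : x ∈ P.ZZ ↔ ∃ b, x = P.p 0 b := Iff.rfl

include P in
/-- the values of the form `bt` are all of `F` -/
theorem bt_surj (c : F) : ∃ a b : F, a * b ^ (2 ^ (m + 1)) + a ^ (2 ^ (m + 1)) * b = c := by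
  by_cases hc : c = 0
  · exact ⟨0, 0, by rw [hc, zero_mul, mul_zero, zero_add]⟩
  obtain ⟨t, ht0, ht1⟩ := P.exists_ne_one
  have hv : t ^ (2 ^ (m + 1)) + t ≠ 0 := by
    intro h
    have h1 := eq_neg_of_add_eq_zero_left h
    rw [CharTwo.neg_eq] at h1
    rcases Cfsg.Agent.StdSz.FormAlg.eq_of_th_eq P.hF h1 with h2 | h2
    · exact ht0 h2
    · exact ht1 h2
  obtain ⟨u, hu⟩ := P.scal (l := c / (t ^ (2 ^ (m + 1)) + t)) (div_ne_zero hc hv)
  refine ⟨u, u * t, ?_⟩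
  have h1 : (u : F) ^ (1 + 2 ^ (m + 1)) * (t ^ (2 ^ (m + 1)) + t) = c := by
    rw [hu, div_mul_cancel₀ _ hv]
  rw [← h1]
  ring

/-- **the configuration is contradictory** -/
theorem false (P : Pre G F m) (Gl : P.Glob) : False := by
  have h2 : Fact (Nat.Prime 2) := ⟨Nat.prime_two⟩
  obtain ⟨S, y', g, k, Fu'⟩ := Gl.exists_Full
  have Si : Simp P := by
    apply Gl.simp (u := y')
    refine ⟨Fu'.ys.nT, fun h => ?_⟩
    have h3 := Gl.norm y' Fu'.ys.nT h (by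
      obtain ⟨k, hk⟩ := S.2 ⟨y', Fu'.yS⟩
      exact ⟨k, by simpa using congrArg Subtype.val hk⟩)
    exact Fu'.ys.notMem h3
  obtain ⟨κ, l, e, K⟩ := Gl.exists_Tor Si Fu'
  obtain ⟨y, Fu, hyκ, hyy⟩ := Fu'.exists_y0 K
  have hyp := Fu.comm_p K hyκ
  have hi : P.T.relIndex (S : Subgroup G) = 2 := by
    rw [relIndex_eq_two_iff_exists_notMem_and]
    refine ⟨y, Fu.yS, Fu.ys.notMem, fun b hb => ?_⟩
    rcases Fu.cov b hb with h | h
    · exact Or.inr h
    · left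
      have hy1 : y⁻¹ = y := inv_eq_of_mul_eq_one_left hyy
      rwa [hy1] at h
  -- extremal transfer
  obtain ⟨g₀, hg1, hg2⟩ := Wreath.exists_extremal Gl.noIdx S Fu.TS hi hyy (T := (S : Subgroup G) ⊓ centralizer {y})
    (S.2.to_le inf_le_left) (fun t ht => mem_centralizer_singleton_iff.1 ht.2)
    ⟨Fu.yS, mem_centralizer_singleton_iff.2 rfl⟩
  -- `g₀` normalizes `Z`
  have hp : ∀ a b, g₀⁻¹ * P.p a b * g₀ ∈ (S : Subgroup G) := fun a b =>
    hg1 _ ⟨Fu.TS (P.T_p a b), mem_centralizer_singleton_iff.2 (hyp a b).symm⟩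
  have hZ : g₀⁻¹ ∈ normalizer (P.ZZ : Set G) := by
    apply mem_normalizer_fintype
    rintro _ ⟨c, rfl⟩
    rw [inv_inv]
    obtain ⟨a, b, hab⟩ := P.bt_surj c
    have h3 : P.p 0 c = P.p a 0 * P.p b 0 * (P.p a 0)⁻¹ * (P.p b 0)⁻¹ := by
      have h4 := P.cm_spec (P.T_p a 0) (P.T_p b 0)
      have h5 : P.cm (P.p a 0) (P.p b 0) = c := by
        rw [Si.cm (P.T_p a 0) (P.T_p b 0), P.aC_p, P.aC_p, P.act_p, P.act_p, zero_mul, zero_mul, add_zero,
          add_zero, hab]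
      rw [h4, h5]; group
    have h4 := Fu.comm_D (hp a 0) (hp b 0)
    have e : g₀⁻¹ * P.p a 0 * g₀ * (g₀⁻¹ * P.p b 0 * g₀) * (g₀⁻¹ * P.p a 0 * g₀)⁻¹ * (g₀⁻¹ * P.p b 0 * g₀)⁻¹ =
        g₀⁻¹ * P.p 0 c * g₀ := by rw [h3]; group
    rw [e] at h4
    refine h4.eq_z Si Fu.ys.g_ne ?_
    calc g₀⁻¹ * P.p 0 c * g₀ * (g₀⁻¹ * P.p 0 c * g₀) = g₀⁻¹ * (P.p 0 c * P.p 0 c) * g₀ := by group
      _ = 1 := by rw [P.z_self]; group
  -- TV
  have hSZ : (S : Subgroup G) ≤ normalizer (P.ZZ : Set G) := by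
    intro x hx
    apply mem_normalizer_fintype
    rintro _ ⟨b, rfl⟩
    rcases Fu.cov x hx with h | h
    · exact ⟨b, by rw [P.T_Z x h, mul_inv_cancel_right]⟩
    · exact ⟨b, (Fu.ys.mul_right h).z b⟩
  have hy1 : y⁻¹ = y := inv_eq_of_mul_eq_one_left hyy
  refine quot_tv S (Z := P.ZZ) (W := P.T) ?_ Fu.TS hSZ hi ?_ Fu.yS Fu.ys.notMem hyy (ι := F) ?_ P.ee P.ee_mem ?_ hZ
    (by rw [inv_inv]; exact hg2)
  · rintro _ ⟨b, rfl⟩
    exact P.T_p 0 b
  · intro w hw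
    exact P.exists_sq hw
  · rw [Nat.card_eq_fintype_card, P.hF]
    have hm := P.hm
    have h4 : 2 ^ 3 ≤ 2 ^ (2 * m + 1) := Nat.pow_le_pow_right (by norm_num) (by omega)
    omega
  · rintro i j ⟨b, hb⟩
    have hx : (P.ee i)⁻¹ * P.ee j ∈ P.T := mul_mem (inv_mem (P.ee_mem i)) (P.ee_mem j)
    have h3 : y * ((P.ee i)⁻¹ * P.ee j) * y⁻¹ = (P.p 0 b)⁻¹ * ((P.ee i)⁻¹ * P.ee j) := by
      have h4 : (P.ee i)⁻¹ * P.ee j * y * ((P.ee i)⁻¹ * P.ee j)⁻¹ * y⁻¹ = P.p 0 b := hb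
      rw [← h4]; group
    have h4 := Fu.ys.f _ hx
    rw [h3, P.z_inv, P.fC_mul (P.T_p _ _) hx, P.fC_p, P.fC_mul (inv_mem (P.ee_mem i)) (P.ee_mem j),
      P.fC_inv (P.ee_mem i), P.fC_ee, P.fC_ee, P.act_mul (inv_mem (P.ee_mem i)) (P.ee_mem j),
      P.act_inv (P.ee_mem i), P.act_ee, P.act_ee, add_zero, add_zero] at h4
    rcases mul_eq_zero.mp h4.symm with h5 | h5
    · exact absurd h5 Fu.ys.k_ne
    · have h6 := eq_neg_of_add_eq_zero_left h5
      rwa [CharTwo.neg_eq] at h6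

end Pre

end Cfsg.Agent.OddHalf.D4.Sz

end

-- merged: Cfsg.Agent.OddHalf.D4.Sz.LocD
section

/-!
# ODD, D4, `K = Sz(q)`, `q ≥ 32`, case (b): the end
-/

set_option autoImplicit false
set_option linter.unusedSectionVars false

namespace Cfsg.Agent.OddHalf.D4.Sz

open Subgroup Cfsg.Agent.OddHalf.D4 Cfsg.Agent.OddHalf.D4.Basic Cfsg.Agent.OddHalf.D4.Sz.PairDefs
open Cfsg.Agent.OddHalf.D4.CommConj (cj mem_cj cj_mul card_cj cj_eq_of_mem_normalizer mem_normalizer_of_cj_eq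
  mem_cj_mul)
open Cfsg.Agent.TwoFusion.StronglyEmbeddedBasic (orderOf_eq_two_of_mul_self)

variable {G : Type*} [Group G] {F : Type*} [Field F] [Fintype F] {m : ℕ} {K : Subgroup G}
  {D : KFr F m K} {Q T : Subgroup G} {g : G}

/-- a 2-element normalizing a 2-group generates a 2-group with it -/
theorem two_sup [Finite G] {A : Subgroup G} (hA : IsPGroup 2 A) {y : G} (hy : y ∈ normalizer (A : Set G))
    (hy2 : ∃ k : ℕ, y ^ 2 ^ k = 1) : IsPGroup 2 (A ⊔ zpowers y : Subgroup G) := by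
  obtain ⟨k, hk⟩ := hy2
  have hz2 : IsPGroup 2 (zpowers y) := by
    rintro ⟨z, n, rfl⟩
    refine ⟨k, Subtype.ext ?_⟩
    show (y ^ n) ^ 2 ^ k = 1
    rw [← zpow_natCast, ← zpow_mul, mul_comm, zpow_mul, zpow_natCast, hk, one_zpow]
  have := hz2.to_sup_of_normal_right' hA (by rwa [zpowers_le])
  rwa [sup_comm] at this

namespace CaseB

variable [Finite G] [CharP F 2]

/-- the configuration `Pre` -/
noncomputable def toPre (M : CaseB D Q T g) : Pre G F m where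
  hm := D.hm
  hF := D.hF
  p := D.p
  p_mul := D.p_mul
  p_inj := D.p_inj
  h := D.h
  h_p := D.h_p
  Q := Q
  Q_sq _ hr := M.sq_Q hr
  Q_p _ hr a b := M.base.comm hr a b
  Q_inf a b h := D.cen _ (D.p_mem a b) (M.base.sylQ.le h)
  Q_ne := by
    obtain ⟨r, hr, -, -, -, -, hr1, -, -⟩ := M.two
    exact ⟨r, hr, hr1⟩
  f := fB D Q g
  f_mul _ hr _ hs := M.fB_mul hr hs
  f_inj _ hr h := M.fB_inj hr h
  T := M.T1
  T_two := M.T1_two
  T_Q _ hr := M.T_T1 (M.base.Q_le hr)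
  T_p a b := M.T_T1 (M.base.p_mem a b)
  h_T l _ hx := M.conj_T1 (M.h_T l) hx
  h_mul k l x _ := by rw [D.h_mul]; group
  h_Q l _ hr := D.h_comm_of_cent (M.base.sylQ.le hr) l
  act := ac D Q g
  T_act _ hx _ hr := M.ac_spec (M.mem_T1.mp hx).1.1.1 hr
  T_Z _ hx b := (M.mem_T1.mp hx).1.1.2 b
  T_surj c := M.T1_surj c
  T_ker x hx h := (M.base.mem x).mp (M.T1_ker hx h)

theorem PP_eq (M : CaseB D Q T g) : M.toPre.PP = T := by
  ext x
  constructor
  · intro h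
    exact M.T1_ker h.1 h.2
  · intro h
    exact ⟨M.T_T1 h, (M.T_E h).2⟩

theorem glob (M : CaseB D Q T g) (hG : ∀ H : Subgroup G, H.index ≠ 2) (hcl : NoClassTwo G) : M.toPre.Glob where
  cardQ := by
    obtain ⟨r, hr, s, hs, -, -, hr1, hs1, hrs⟩ := M.two
    show 3 ≤ Nat.card Q
    classical
    have h1 : Function.Injective (![⟨1, one_mem _⟩, ⟨r, hr⟩, ⟨s, hs⟩] : Fin 3 → Q) := by
      intro i j hij
      fin_cases i <;> fin_cases j <;> simp_all [Subtype.ext_iff, eq_comm]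
    have h2 := Nat.card_le_card_of_injective _ h1
    simpa using h2
  noIdx := hG
  norm := by
    intro y hy1 hy2 hy3
    rw [M.PP_eq] at hy2
    have hy1' : y ∈ normalizer (M.T1 : Set G) := hy1
    show y ∈ M.T1
    obtain ⟨c, hc⟩ := M.members hy2
    obtain ⟨t, ht, htc⟩ := M.T1_surj c
    have htE := (M.mem_T1.mp ht).1.1
    have htN : t ∈ normalizer (T : Set G) := htE.1.1
    -- `Q ^ y = Q ^ t`
    have h1 : ∀ r ∈ Q, y * r * y⁻¹ ∈ cj t Q := by
      intro r hr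
      obtain ⟨s, hs, h⟩ := (hc _).mp (mem_cj_mul hr)
      rw [h, ← htc, ← M.ac_spec htE.1 hs]
      exact mem_cj_mul hs
    set μ := t⁻¹ * y with hμ
    have hμN : μ ∈ normalizer (T : Set G) := mul_mem (inv_mem htN) hy2
    obtain ⟨r, hr, -, -, -, -, hr1, -, -⟩ := M.two
    have hμM : μ ∈ normalizer (K : Set G) := by
      apply M.tight.tight μ r (M.base.sylQ.le hr) (orderOf_eq_two_of_mul_self (M.sq_Q hr) hr1)
      have h2 := mem_cj.mp (h1 r hr)
      have e : μ * r * μ⁻¹ = t⁻¹ * (y * r * y⁻¹) * t := by rw [hμ]; group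
      rw [e]
      exact M.base.sylQ.le h2
    -- `μ` is a 2-element
    have hμ2 : ∃ k : ℕ, μ ^ 2 ^ k = 1 := by
      have h3 := two_sup M.T1_two hy1' hy3
      have h4 : μ ∈ M.T1 ⊔ zpowers y :=
        mul_mem (inv_mem (le_sup_left (a := M.T1) ht)) (le_sup_right (a := M.T1) (mem_zpowers y))
      obtain ⟨k, hk⟩ := h3 ⟨μ, h4⟩
      exact ⟨k, by simpa using congrArg Subtype.val hk⟩
    have hμT : μ ∈ T := by
      have h3 := two_sup M.base.sylT.two hμN hμ2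
      exact M.base.sylT.max _ h3 le_sup_left (sup_le M.base.sylT.le (by rwa [zpowers_le]))
        (le_sup_right (a := T) (mem_zpowers μ))
    have e : y = t * μ := by rw [hμ]; group
    rw [e]
    exact mul_mem ht (M.T_T1 hμT)
  notSyl := by
    intro S hS
    have hS' : ∀ x, x ∈ (S : Subgroup G) ↔ x ∈ M.toPre.T := fun x => by rw [hS]
    refine hcl S ?_ ?_
    · -- nonabelian
      obtain ⟨r, hr, -, -, -, -, hr1, -, -⟩ := M.two
      obtain ⟨t, ht, htc⟩ := M.T1_surj 1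
      refine ⟨t, (hS' t).mpr ht, r, (hS' r).mpr (M.toPre.T_Q hr), fun h => ?_⟩
      have h1 := M.ac_spec (M.mem_T1.mp ht).1.1.1 hr
      rw [h, mul_inv_cancel_right, htc, one_mul] at h1
      have h2 : D.p 0 (fB D Q g r) = 1 := (mul_eq_left.mp h1.symm)
      rw [← D.p_zero] at h2
      exact hr1 (M.fB_inj hr (D.z_inj h2))
    · intro a ha b hb c hc
      rw [hS'] at ha hb hc
      obtain ⟨z, hz⟩ := M.toPre.exists_comm ha hb
      have e : a * b * a⁻¹ * b⁻¹ = M.toPre.p 0 z := by rw [hz]; group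
      rw [e, M.toPre.T_Z c hc z]

/-- **case (b) is impossible** -/
theorem false (M : CaseB D Q T g) (hG : ∀ H : Subgroup G, H.index ≠ 2) (hcl : NoClassTwo G) : False :=
  M.toPre.false (M.glob hG hcl)

end CaseB

end Cfsg.Agent.OddHalf.D4.Sz

end

-- merged: Cfsg.Agent.OddHalf.D4.Sz.CaseA
section

/-!
# ODD, D4, `K = Sz(q)`, `q ≥ 32`: case A over the frame `Mv`
-/

set_option autoImplicit false
set_option linter.unusedSectionVars false

namespace Cfsg.Agent.OddHalf.D4.Sz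

open Subgroup Cfsg.Agent.OddHalf.D4 Cfsg.Agent.OddHalf.D4.Sz.PairDefs
open Cfsg.Agent.OddHalf.D4.CommConj (Tight cj mem_cj)

variable {G : Type*} [Group G] [Finite G] {F : Type*} [Field F] [Fintype F] [CharP F 2] {m : ℕ} {K : Subgroup G}
  {D : KFr F m K} {Q T : Subgroup G} {g : G}

namespace Mv

variable (M : Mv D Q T g)

include M

omit [Finite G] [CharP F 2] in
theorem gT_iff (t : G) : t ∈ T ↔ g * t * g⁻¹ ∈ T := mem_normalizer_iff.mp M.gT t

omit [Finite G] [CharP F 2] in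
theorem le : T ≤ normalizer ((cj g K : Subgroup G) : Set G) := by
  intro t ht
  rw [normalizer_cj, mem_cj]
  exact M.base.sylT.le ((mem_normalizer_iff''.mp M.gT t).mp ht)

theorem mem_inf_iff (x : G) :
    x ∈ T ⊓ centralizer ((cj g K : Subgroup G) : Set G) ↔ g⁻¹ * x * g ∈ Q := by
  rw [M.base.eq_inf, mem_inf, mem_inf, centralizer_cj, mem_cj, ← mem_normalizer_iff''.mp M.gT x]

theorem conj_mem {r : G} (hr : r ∈ Q) :
    g * r * g⁻¹ ∈ T ⊓ centralizer ((cj g K : Subgroup G) : Set G) := by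
  rw [M.mem_inf_iff]
  have e : g⁻¹ * (g * r * g⁻¹) * g = r := by group
  rwa [e]

/-- `Q` is elementary abelian and `g Q g⁻¹` is a graph -/
theorem graph (hG : ∀ H : Subgroup G, H.index ≠ 2) (hcl : NoClassTwo G) :
    (∀ r ∈ Q, r * r = 1) ∧ ∃ f : G → F, (∀ r ∈ Q, ∀ s ∈ Q, f (r * s) = f r + f s) ∧
      (∀ r ∈ Q, f r = 0 → r = 1) ∧ ∀ x, x ∈ cj g Q ↔ ∃ r ∈ Q, x = r * D.p 0 (f r) := by
  obtain ⟨h1, f, h2, h3, h4⟩ := M.base.graph M.tight hG hcl M.gM M.le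
  refine ⟨h1, f, h2, h3, fun x => ?_⟩
  rw [← h4, M.mem_inf_iff, mem_cj]

/-- **case A is impossible** -/
theorem caseA (hG : ∀ H : Subgroup G, H.index ≠ 2) (hcl : NoClassTwo G)
    (h : ∃ r ∈ Q, ∀ s ∈ Q, ∀ b, g * r * g⁻¹ ≠ s * D.p 0 b) : False := by
  obtain ⟨r, hr, hrs⟩ := h
  obtain ⟨-, f, -, -, h4⟩ := M.graph hG hcl
  obtain ⟨s, hs, hrs'⟩ := (h4 _).mp (CommConj.mem_cj_mul hr)
  exact hrs s hs (f s) hrs'

end Mv

end Cfsg.Agent.OddHalf.D4.Sz

end

-- merged: Cfsg.Agent.OddHalf.D4.Sz.End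
section

/-!
# ODD, D4, `K = Sz(q)`, `q ≥ 32`: `Mv` is contradictory
-/

set_option autoImplicit false

namespace Cfsg.Agent.OddHalf.D4.Sz

open Subgroup Cfsg.Agent.OddHalf.D4 Cfsg.Agent.OddHalf.D4.Sz.PairDefs

/-- **`K = Sz(q)`, `q ≥ 32`: no `g ∈ N(T) - N(K)`** -/
theorem Mv.false {G : Type*} [Group G] [Finite G] {F : Type*} [Field F] [Fintype F] [CharP F 2] {m : ℕ}
    {K : Subgroup G} {D : KFr F m K} {Q T : Subgroup G} {g : G} (M : Mv D Q T g)
    (hG : ∀ H : Subgroup G, H.index ≠ 2) (hcl : NoClassTwo G) : False := by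
  by_cases h : ∃ r ∈ Q, ∀ s ∈ Q, ∀ b, g * r * g⁻¹ ≠ s * D.p 0 b
  · exact M.caseA hG hcl h
  · push Not at h
    exact CaseB.false (D := D) (Q := Q) (T := T) (g := g) ⟨M, h⟩ hG hcl

end Cfsg.Agent.OddHalf.D4.Sz

end
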